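import Groth.Agent.H54.Adeq.Descent
import Groth.Agent.H54.Adeq.Colim
import Mathlib.CategoryTheory.Preadditive.Biproducts

/-!
# Descent of adequacy along finite families
-/

universe u

open CategoryTheory Limits TensorProduct

namespace Groth.Agent.H54.Adeq

variable {A : Type u} [CommRing A]

/-- A finite biproduct of adequate functors is adequate. -/
lemma adequate_biproduct {I : Type} [Finite I] (F : I → _root_.Adeq.MVF A) [HasBiproduct F]
    (h : ∀ i, _root_.Adeq.adequate A (F i)) : _root_.Adeq.adequate A (⨁ F) := by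
  classical
  let G : ULift.{u + 1} I → _root_.Adeq.MVF A := fun i => F i.down
  let a : (⨁ F) ⟶ ∐ G := biproduct.desc fun i => Sigma.ι G ⟨i⟩
  let b : (∐ G) ⟶ ⨁ F := Sigma.desc fun i => biproduct.ι F i.down
  have hb : ∀ i : ULift.{u + 1} I, Sigma.ι G i ≫ b = biproduct.ι F i.down := fun i => Sigma.ι_desc _ i
  have e : (⨁ F) ≅ ∐ G :=
    { hom := a
      inv := b
      hom_inv_id := biproduct.hom_ext' _ _ fun i => by
        rw [biproduct.ι_desc_assoc, hb ⟨i⟩, Category.comp_id]
      inv_hom_id := Sigma.hom_ext _ _ fun i => by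
        rw [← Category.assoc, hb, biproduct.ι_desc, Category.comp_id] }
  exact (_root_.Adeq.adequate A).prop_of_iso e.symm (adequate_sigma G fun i => h i.down)

variable {n : ℕ} (R : Fin n → Type u) [∀ k, CommRing (R k)] [∀ k, Algebra A (R k)]

/-- Adequacy descends along a finite family satisfying the sheaf condition. -/
theorem adequate_of_descent_family (F : _root_.Adeq.MVF A)
    (h₁ : ∀ k, _root_.Adeq.adequate (R k) ((_root_.Adeq.restr A (R k)).obj F))
    (hinj : ∀ (B : _root_.Adeq.Alg A) (x : Val F B), (∀ k, mp F (_root_.Adeq.Alg.unit A (R k) B) x = 0) → x = 0)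
    (hglue : ∀ (B : _root_.Adeq.Alg A)
      (y : ∀ k, Val F ((_root_.Adeq.Alg.restr A (R k)).obj ((_root_.Adeq.Alg.baseChange A (R k)).obj B))),
      (∀ k l, mp F ((_root_.Adeq.Alg.restr A (R k)).map ((_root_.Adeq.Alg.baseChange A (R k)).map (_root_.Adeq.Alg.unit A (R l) B))) (y k) =
          mp F (_root_.Adeq.Alg.unit A (R k) ((_root_.Adeq.Alg.restr A (R l)).obj ((_root_.Adeq.Alg.baseChange A (R l)).obj B))) (y l)) →
        ∃ x, ∀ k, mp F (_root_.Adeq.Alg.unit A (R k) B) x = y k) :
    _root_.Adeq.adequate A F := by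
  classical
  haveI : HasFiniteBiproducts (_root_.Adeq.MVF A) := Abelian.hasFiniteBiproducts
  let P : Fin n → _root_.Adeq.MVF A := fun k => PR (R k) F
  let Q : Fin n × Fin n → _root_.Adeq.MVF A := fun kl => PR (R kl.2) (PR (R kl.1) F)
  have hP : ∀ k, _root_.Adeq.adequate A (P k) := fun k => adequate_push (h₁ k)
  have hQ : ∀ kl, _root_.Adeq.adequate A (Q kl) := fun kl => adequate_push (adequate_restr (hP kl.1))
  let ρ : ∀ k l, P l ⟶ Q (k, l) := fun k l =>
    (_root_.Adeq.push A (R l)).map ((_root_.Adeq.restr A (R l)).map (eta (R k) F))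
  let e : F ⟶ ⨁ P := biproduct.lift fun k => eta (R k) F
  let d : (⨁ P) ⟶ ⨁ Q := biproduct.lift fun kl =>
    biproduct.π P kl.1 ≫ eta (R kl.2) (P kl.1) - biproduct.π P kl.2 ≫ ρ kl.1 kl.2
  have hd : e ≫ d = 0 := biproduct.hom_ext _ _ fun kl => by
    rw [zero_comp, Category.assoc, biproduct.lift_π, Preadditive.comp_sub, ← Category.assoc, biproduct.lift_π,
      ← Category.assoc, biproduct.lift_π, eta_naturality, sub_self]
  let θ : F ⟶ kernel d := kernel.lift d e hd
  have hθ : ∀ B x k, ap (biproduct.π P k) B (ap (kernel.ι d) B (ap θ B x)) = mp F (_root_.Adeq.Alg.unit A (R k) B) x :=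
    fun B x k => by
      rw [← ap_comp, ← ap_comp, kernel.lift_ι_assoc, biproduct.lift_π]
      rfl
  have : Mono θ := mono_of_ap fun B => (injective_iff_map_eq_zero _).2 fun x hx => hinj B x fun k => by
    rw [← hθ B x k, hx, map_zero, map_zero]
    rfl
  have : Epi θ := epi_of_ap fun B z => by
    let y : ∀ k, Val (P k) B := fun k => ap (biproduct.π P k) B (ap (kernel.ι d) B z)
    obtain ⟨x, hx⟩ := hglue B y fun k l => by
      have h0 : ap (biproduct.π Q (k, l)) B (ap d B (ap (kernel.ι d) B z)) = 0 := by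
        rw [← ap_comp (kernel.ι d) d, kernel.condition, ap_zero, map_zero]
      rw [← ap_comp, biproduct.lift_π, ap_sub, ap_comp, ap_comp, sub_eq_zero] at h0
      exact h0
    refine ⟨x, injective_ap (kernel.ι d) B ?_⟩
    have key : ∀ w w' : Val (⨁ P) B, (∀ k, ap (biproduct.π P k) B w = ap (biproduct.π P k) B w') → w = w' := by
      intro w w' h
      have ht := biproduct.total (f := P)
      rw [← ap_id w, ← ap_id w', ← ht]
      have hs : ∀ (s : Finset (Fin n)), ap (∑ j ∈ s, biproduct.π P j ≫ biproduct.ι P j) B w =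
          ap (∑ j ∈ s, biproduct.π P j ≫ biproduct.ι P j) B w' := by
        intro s
        induction s using Finset.induction with
        | empty => rw [Finset.sum_empty, ap_zero, ap_zero]
        | insert a s ha ih => rw [Finset.sum_insert ha, ap_add, ap_add, ih, ap_comp, ap_comp, h]
      exact hs Finset.univ
    exact key _ _ fun k => (hθ B x k).trans (hx k)
  have : IsIso θ := isIso_of_mono_of_epi θ
  exact (_root_.Adeq.adequate A).prop_of_iso (asIso θ).symm
    (adequate_kernel d (adequate_biproduct P hP) (adequate_biproduct Q hQ))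

end Groth.Agent.H54.Adeq
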