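import Groth.Agent.H54.AdeqSite.Sheaf
import Groth.Agent.H54.AdeqSite.DescFam
import Mathlib.Algebra.Category.Ring.Constructions
import Mathlib.AlgebraicGeometry.PullbackCarrier

/-!
# Adequate modules have adequate functors at every affine object
-/

universe u

open CategoryTheory CategoryTheory.Limits AlgebraicGeometry Opposite TensorProduct

namespace Groth.Agent.H54.AdeqSite

open Groth.Agent.H54.Adeq

section Compare

variable (K : Precoverage Scheme.{u}) [BigSite.OSh K] {S : Scheme.{u}} (M : BigSite.Mod K S)
  {A A' : CommRingCat.{u}} [Algebra A A'] (a : Spec A ⟶ S) (a' : Spec A' ⟶ S)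
  (h : Spec.map (CommRingCat.ofHom (algebraMap A A')) ≫ a = a')

include h in
lemma specOver_hom_eq (B : _root_.Adeq.Alg A') :
    ((_root_.Adeq.specOver a).obj (op ((_root_.Adeq.Alg.restr A A').obj B))).hom =
      ((_root_.Adeq.specOver a').obj (op B)).hom := by
  subst h
  show Spec.map (CommRingCat.ofHom ((algebraMap A' (B : Type u)).comp (algebraMap A A'))) ≫ a =
    Spec.map (CommRingCat.ofHom (algebraMap A' (B : Type u))) ≫ Spec.map (CommRingCat.ofHom (algebraMap A A')) ≫ a
  rw [← Category.assoc, ← Spec.map_comp, ← CommRingCat.ofHom_comp]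

/-- The identification of affine objects. -/
noncomputable def overIso (B : _root_.Adeq.Alg A') :
    (_root_.Adeq.specOver a').obj (op B) ⟶ (_root_.Adeq.specOver a).obj (op ((_root_.Adeq.Alg.restr A A').obj B)) :=
  Over.homMk (𝟙 _) (by rw [specOver_hom_eq a a' h B]; exact Category.id_comp _)

/-- The comparison of restricted functors with functors at the smaller affine object. -/
noncomputable def cmp : (_root_.Adeq.restr A A').obj ((_root_.Adeq.toMVF K a).obj M) ⟶ (_root_.Adeq.toMVF K a').obj M :=
  mkHom (fun B =>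
    { toFun := fun x => M.val.presheaf.map (overIso a a' h B).op x
      map_add' := fun x y => map_add (M.val.presheaf.map (overIso a a' h B).op).hom x y
      map_smul' := fun c x => by
        refine (M.val.map_smul (overIso a a' h B).op (_root_.Adeq.toSect K a ((_root_.Adeq.Alg.restr A A').obj B) c) x).trans ?_
        congr 1 })
    fun B B' g x => by
      show M.val.presheaf.map (overIso a a' h B').op
          (M.val.presheaf.map ((_root_.Adeq.specOver a).map ((_root_.Adeq.Alg.restr A A').map g).op).op x) =
        M.val.presheaf.map ((_root_.Adeq.specOver a').map g.op).op (M.val.presheaf.map (overIso a a' h B).op x)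
      rw [← ConcreteCategory.comp_apply, ← ConcreteCategory.comp_apply, ← Functor.map_comp, ← Functor.map_comp,
        ← op_comp, ← op_comp]
      congr 3

theorem adequate_of_restrict (hM : _root_.Adeq.adequate A ((_root_.Adeq.toMVF K a).obj M)) (h' : Spec.map (CommRingCat.ofHom (algebraMap A A')) ≫ a = a') :
    _root_.Adeq.adequate A' ((_root_.Adeq.toMVF K a').obj M) := by
  have : IsIso (cmp K M a a' h') := by
    have hb : ∀ B, Function.Bijective (ap (cmp K M a a' h') B) := fun B => by
      have : IsIso (overIso a a' h' B) := by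
        haveI : IsIso ((Over.forget S).map (overIso a a' h' B)) := inferInstanceAs (IsIso (𝟙 _))
        exact isIso_of_reflects_iso _ (Over.forget S)
      exact ConcreteCategory.bijective_of_isIso (M.val.presheaf.map (overIso a a' h' B).op)
    have : Mono (cmp K M a a' h') := mono_of_ap fun B => (hb B).1
    have : Epi (cmp K M a a' h') := epi_of_ap fun B => (hb B).2
    exact isIso_of_mono_of_epi _
  exact (_root_.Adeq.adequate A').prop_of_iso (asIso (cmp K M a a' h')) (adequate_restr hM)

theorem adequate_restr_of_restrict (hM : _root_.Adeq.adequate A' ((_root_.Adeq.toMVF K a').obj M)) (h' : Spec.map (CommRingCat.ofHom (algebraMap A A')) ≫ a = a') :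
    _root_.Adeq.adequate A' ((_root_.Adeq.restr A A').obj ((_root_.Adeq.toMVF K a).obj M)) := by
  have : IsIso (cmp K M a a' h') := by
    have hb : ∀ B, Function.Bijective (ap (cmp K M a a' h') B) := fun B => by
      have : IsIso (overIso a a' h' B) := by
        haveI : IsIso ((Over.forget S).map (overIso a a' h' B)) := inferInstanceAs (IsIso (𝟙 _))
        exact isIso_of_reflects_iso _ (Over.forget S)
      exact ConcreteCategory.bijective_of_isIso (M.val.presheaf.map (overIso a a' h' B).op)
    have : Mono (cmp K M a a' h') := mono_of_ap fun B => (hb B).1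
    have : Epi (cmp K M a a' h') := epi_of_ap fun B => (hb B).2
    exact isIso_of_mono_of_epi _
  exact (_root_.Adeq.adequate A').prop_of_iso (asIso (cmp K M a a' h')).symm hM

end Compare

/-- The ring map of a map of algebras. -/
noncomputable abbrev rh {A : Type u} [CommRing A] {B C : _root_.Adeq.Alg A} (f : B ⟶ C) :
    CommRingCat.of (B : Type u) ⟶ CommRingCat.of (C : Type u) := CommRingCat.ofHom f.hom.toRingHom

lemma isPushout_base {A : Type u} [CommRing A] (R : Type u) [CommRing R] [Algebra A R] {B C : _root_.Adeq.Alg A}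
    (g : B ⟶ C) :
    IsPushout (CommRingCat.ofHom g.hom.toRingHom)
      (rh (_root_.Adeq.Alg.unit A R B))
      (rh (_root_.Adeq.Alg.unit A R C))
      (rh ((_root_.Adeq.Alg.restr A R).map ((_root_.Adeq.Alg.baseChange A R).map g))) := by
  have hB : IsPushout (CommRingCat.ofHom (algebraMap A (B : Type u))) (CommRingCat.ofHom (algebraMap A R))
      (rh (_root_.Adeq.Alg.unit A R B))
      (CommRingCat.ofHom (S := R ⊗[A] (B : Type u)) Algebra.TensorProduct.includeLeftRingHom) :=
    (CommRingCat.isPushout_tensorProduct A R (B : Type u)).flip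
  have hC : IsPushout (CommRingCat.ofHom (algebraMap A (B : Type u)) ≫ CommRingCat.ofHom g.hom.toRingHom)
      (CommRingCat.ofHom (algebraMap A R))
      (rh (_root_.Adeq.Alg.unit A R C))
      (CommRingCat.ofHom (S := R ⊗[A] (B : Type u)) Algebra.TensorProduct.includeLeftRingHom ≫
        rh ((_root_.Adeq.Alg.restr A R).map ((_root_.Adeq.Alg.baseChange A R).map g))) := by
    have e1 : CommRingCat.ofHom (algebraMap A (B : Type u)) ≫ CommRingCat.ofHom g.hom.toRingHom =
        CommRingCat.ofHom (algebraMap A (C : Type u)) := CommRingCat.hom_ext g.hom.comp_algebraMap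
    have e2 : CommRingCat.ofHom (S := R ⊗[A] (B : Type u)) Algebra.TensorProduct.includeLeftRingHom ≫
        rh ((_root_.Adeq.Alg.restr A R).map ((_root_.Adeq.Alg.baseChange A R).map g)) =
        CommRingCat.ofHom (S := R ⊗[A] (C : Type u)) Algebra.TensorProduct.includeLeftRingHom :=
      CommRingCat.hom_ext (RingHom.ext fun r => (Algebra.TensorProduct.map_tmul _ _ r 1).trans (by
        rw [map_one]; rfl))
    rw [e1, e2]
    exact (CommRingCat.isPushout_tensorProduct A R (C : Type u)).flip
  refine IsPushout.of_left hC ?_ hB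
  exact congrArg rh (Adeq.unit_naturality R g)

variable {P : MorphismProperty Scheme.{u}} [P.IsStableUnderBaseChange] [P.IsStableUnderComposition]
  [BigSite.OSh (Scheme.precoverage P)] {S : Scheme.{u}}

/-- An adequate module has an adequate functor at every affine object. -/
theorem adequate_toMVF (hoi : ∀ {X Y : Scheme.{u}} (f : X ⟶ Y), IsOpenImmersion f → P f)
    (hopen : ∀ {X Y : Scheme.{u}} (f : X ⟶ Y), P f → IsOpenMap f)
    (M : BigSite.Mod (Scheme.precoverage P) S) (hM : _root_.Adeq.adequateMod (Scheme.precoverage P) S M)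
    (A : CommRingCat.{u}) (a : Spec A ⟶ S) :
    _root_.Adeq.adequate A ((_root_.Adeq.toMVF (Scheme.precoverage P) a).obj M) := by
  obtain ⟨ι, R₀, t, hcov, had⟩ := hM
  rw [Scheme.ofArrows_mem_precoverage_iff] at hcov
  obtain ⟨n, R, idx, φ, c, hc, hP, hsurj⟩ := exists_finite_refinement hoi hopen (fun i => Spec (R₀ i)) t hcov.2 hcov.1 A a
  letI : ∀ k, Algebra A (R k) := fun k => (φ k).hom.toAlgebra
  have hφ : ∀ (B : _root_.Adeq.Alg A) k,
      IsPullback (Spec.map (CommRingCat.ofHom (algebraMap (R k : Type u) ((R k : Type u) ⊗[A] (B : Type u)))))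
        (Spec.map (rh (_root_.Adeq.Alg.unit A (R k) B)))
        (Spec.map (φ k)) (Spec.map (CommRingCat.ofHom (algebraMap A (B : Type u)))) := fun B k =>
    isPullback_SpecMap_of_isPushout _ _ _ _ (CommRingCat.isPushout_tensorProduct A (R k) (B : Type u))
  have hPu : ∀ (B : _root_.Adeq.Alg A) k, P (Spec.map (rh (_root_.Adeq.Alg.unit A (R k) B))) :=
    fun B k => P.of_isPullback (hφ B k) (hP k)
  have hsu : ∀ (B : _root_.Adeq.Alg A) (x : Spec (CommRingCat.of (B : Type u))),
      ∃ k, x ∈ Set.range (Spec.map (rh (_root_.Adeq.Alg.unit A (R k) B))) := fun B x => by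
    obtain ⟨k, y, hy⟩ := hsurj (Spec.map (CommRingCat.ofHom (algebraMap A (B : Type u))) x)
    obtain ⟨p, -, hp⟩ := Scheme.exists_preimage_of_isPullback (hφ B k) y x hy
    exact ⟨k, p, hp⟩
  refine adequate_of_descent_family (fun k => (R k : Type u)) _ (fun k => ?_) (fun B x hx => ?_) (fun B y hy => ?_)
  · letI : Algebra (R₀ (idx k)) (R k) := (Spec.preimage (c k)).hom.toAlgebra
    have e : Spec.map (CommRingCat.ofHom (algebraMap (R₀ (idx k)) (R k))) ≫ t (idx k) = Spec.map (φ k) ≫ a := by
      rw [← hc k]
      exact congrArg (· ≫ t (idx k)) (Spec.map_preimage (c k))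
    exact adequate_restr_of_restrict _ M a (Spec.map (φ k) ≫ a)
      (adequate_of_restrict _ M (t (idx k)) _ (had (idx k)) e) rfl
  · exact eq_zero_of_forall a (fun k => _root_.Adeq.Alg.unit A (R k) B) M (hPu B) (hsu B) x hx
  · exact exists_glue a (fun k => _root_.Adeq.Alg.unit A (R k) B) M (hPu B) (hsu B)
      (fun k l => (_root_.Adeq.Alg.restr A (R k)).map ((_root_.Adeq.Alg.baseChange A (R k)).map (_root_.Adeq.Alg.unit A (R l) B)))
      (fun k l => _root_.Adeq.Alg.unit A (R k) ((_root_.Adeq.Alg.restr A (R l)).obj ((_root_.Adeq.Alg.baseChange A (R l)).obj B)))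
      (fun k l => (isPushout_base (R k : Type u) (_root_.Adeq.Alg.unit A (R l) B)).flip) y hy

/-- A module with adequate functors at all affine objects is adequate. -/
theorem adequateMod_of_forall (hoi : ∀ {X Y : Scheme.{u}} (f : X ⟶ Y), IsOpenImmersion f → P f)
    (M : BigSite.Mod (Scheme.precoverage P) S)
    (h : ∀ (A : CommRingCat.{u}) (a : Spec A ⟶ S), _root_.Adeq.adequate A ((_root_.Adeq.toMVF (Scheme.precoverage P) a).obj M)) :
    _root_.Adeq.adequateMod (Scheme.precoverage P) S M := by
  refine ⟨S, fun s => Γ(S, (exists_isAffineOpen_mem_and_subset (x := s) (U := (⊤ : S.Opens)) trivial).choose),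
    fun s => (exists_isAffineOpen_mem_and_subset (x := s) (U := (⊤ : S.Opens)) trivial).choose_spec.1.fromSpec, ?_, fun s => h _ _⟩
  rw [Scheme.ofArrows_mem_precoverage_iff]
  refine ⟨fun s => ⟨s, ?_⟩, fun s => hoi _ inferInstance⟩
  rw [IsAffineOpen.range_fromSpec]
  exact (exists_isAffineOpen_mem_and_subset (x := s) (U := (⊤ : S.Opens)) trivial).choose_spec.2.1

end Groth.Agent.H54.AdeqSite
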