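import Groth.Agent.H54.AdeqSite.Cech
import Groth.Agent.Lib.CechPsh.Nerve
import Mathlib.AlgebraicTopology.AlternatingFaceMapComplex

/-!
# The Amitsur complex of an abelian presheaf on a big site; injective presheaves
-/

universe u

open CategoryTheory CategoryTheory.Limits AlgebraicGeometry Opposite AlgebraicTopology

namespace Groth.Agent.H54.AdeqSite.AmitCx

open Groth.Agent.H54.Adeq Groth.Agent.Lib.CechPsh

variable {R : CommRingCat.{u}} (B : Type u) [CommRing B] [Algebra R B]

/-- The map of tensor powers attached to a map of indices. -/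
noncomputable def mapTp {n m : ℕ} (f : Fin (n + 1) → Fin (m + 1)) : Amitsur.Tp R B n ⟶ Amitsur.Tp R B m :=
  CommAlgCat.ofHom (Amitsur.exists_lift R B n fun k => Amitsur.π R B m (f k)).choose

lemma mapTp_π {n m : ℕ} (f : Fin (n + 1) → Fin (m + 1)) (k : Fin (n + 1)) :
    (mapTp B f).hom.comp (Amitsur.π R B n k) = Amitsur.π R B m (f k) :=
  (Amitsur.exists_lift R B n fun k => Amitsur.π R B m (f k)).choose_spec k

lemma mapTp_unique {n m : ℕ} (f : Fin (n + 1) → Fin (m + 1)) (g : Amitsur.Tp R B n ⟶ Amitsur.Tp R B m)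
    (h : ∀ k, g.hom.comp (Amitsur.π R B n k) = Amitsur.π R B m (f k)) : mapTp B f = g :=
  CommAlgCat.hom_ext (Amitsur.hom_ext R B n fun k => (mapTp_π B f k).trans (h k).symm)

lemma mapTp_comp {n m l : ℕ} (f : Fin (n + 1) → Fin (m + 1)) (g : Fin (m + 1) → Fin (l + 1)) :
    mapTp (R := R) B (g ∘ f) = mapTp B f ≫ mapTp B g :=
  mapTp_unique B _ _ fun k => by
    rw [CommAlgCat.hom_comp, AlgHom.comp_assoc, mapTp_π, mapTp_π]
    rfl

lemma mapTp_id (n : ℕ) : mapTp (R := R) B (id : Fin (n + 1) → Fin (n + 1)) = 𝟙 _ :=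
  mapTp_unique B _ _ fun k => AlgHom.id_comp _

lemma mapTp_succAbove (n : ℕ) (i : Fin (n + 2)) :
    mapTp (R := R) B i.succAbove = CommAlgCat.ofHom (Amitsur.δ R B n i) :=
  mapTp_unique B _ _ fun k => Amitsur.δ_comp_π R B n i k

variable {S : Scheme.{u}} (a : Spec R ⟶ S) (P : (Over S)ᵒᵖ ⥤ AddCommGrpCat.{u + 1})

/-- The cosimplicial group of sections on the tensor powers. -/
noncomputable def cosimplicial : CosimplicialObject AddCommGrpCat.{u + 1} where
  obj n := P.obj (op ((_root_.Adeq.specOver a).obj (op (Amitsur.Tp R B n.len))))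
  map f := P.map ((_root_.Adeq.specOver a).map (mapTp B f.toOrderHom).op).op
  map_id n := by
    rw [show mapTp B (SimplexCategory.Hom.toOrderHom (𝟙 n)) = 𝟙 (Amitsur.Tp R B n.len) from mapTp_id B n.len]
    simp
  map_comp f g := by
    rw [show mapTp B (SimplexCategory.Hom.toOrderHom (f ≫ g)) = mapTp (R := R) B f.toOrderHom ≫ mapTp B g.toOrderHom from
      mapTp_comp B f.toOrderHom g.toOrderHom]
    simp

/-- Sections on the tensor powers. -/
noncomputable abbrev cell (n : ℕ) : AddCommGrpCat.{u + 1} := P.obj (op ((_root_.Adeq.specOver a).obj (op (Amitsur.Tp R B n))))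

/-- The differential. -/
noncomputable def dd (n : ℕ) : cell B a P n →+ cell B a P (n + 1) :=
  ∑ i : Fin (n + 2), (-1 : ℤ) ^ (i : ℕ) • (P.map (sp a (CommAlgCat.ofHom (Amitsur.δ R B n i))).op).hom

lemma dd_apply (n : ℕ) (x : cell B a P n) :
    dd B a P n x = ∑ i : Fin (n + 2), (-1 : ℤ) ^ (i : ℕ) • P.map (sp a (CommAlgCat.ofHom (Amitsur.δ R B n i))).op x := by
  rw [dd, AddMonoidHom.finsetSum_apply]
  rfl

lemma objD_apply (n : ℕ) (x : cell B a P n) :
    AlternatingCofaceMapComplex.objD (cosimplicial B a P) n x = dd B a P n x := by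
  have hs : ∀ {G H : AddCommGrpCat.{u + 1}} (f : Fin (n + 2) → (G ⟶ H)) (s : Finset (Fin (n + 2))) (z : G),
      (∑ j ∈ s, f j) z = ∑ j ∈ s, f j z := fun f s z => by
    induction s using Finset.induction with
    | empty => simp
    | insert j s hj ih => simp [Finset.sum_insert hj, ← ih]
  rw [AlternatingCofaceMapComplex.objD, dd_apply]
  refine (hs _ _ x).trans (Finset.sum_congr rfl fun i _ => ?_)
  refine (DFunLike.congr_fun (AddCommGrpCat.hom_zsmul ((-1 : ℤ) ^ (i : ℕ)) ((cosimplicial B a P).δ i)) x).trans ?_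
  refine congrArg (fun z : cell B a P (n + 1) => ((-1 : ℤ) ^ (i : ℕ)) • z) ?_
  show P.map ((_root_.Adeq.specOver a).map (mapTp B (SimplexCategory.Hom.toOrderHom (SimplexCategory.δ i))).op).op x = _
  rw [← mapTp_succAbove B n i]
  rfl

lemma dd_dd (n : ℕ) (x : cell B a P n) : dd B a P (n + 1) (dd B a P n x) = 0 := by
  rw [← objD_apply, ← objD_apply]
  exact ConcreteCategory.congr_hom (AlternatingCofaceMapComplex.d_squared (cosimplicial B a P) n) x

variable {P} in
lemma map_dd {Q : (Over S)ᵒᵖ ⥤ AddCommGrpCat.{u + 1}} (φ : P ⟶ Q) (n : ℕ) (x : cell B a P n) :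
    φ.app _ (dd B a P n x) = dd B a Q n (φ.app _ x) := by
  rw [dd_apply, dd_apply, map_sum]
  refine Finset.sum_congr rfl fun i _ => ?_
  rw [map_zsmul]
  exact congrArg (HSMul.hSMul _) (NatTrans.naturality_apply φ (sp a (CommAlgCat.ofHom (Amitsur.δ R B n i))).op x)

/-- The covering map of affine objects. -/
noncomputable abbrev cov : PUnit.{u + 2} → Over ((_root_.Adeq.specOver a).obj (op (_root_.Adeq.algOf R R))) :=
  fun _ => Over.mk (sp a (CommAlgCat.ofHom (Algebra.ofId (R : Type u) B) : _root_.Adeq.algOf R R ⟶ _root_.Adeq.algOf R B))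

lemma spec_algOf_hom : Spec.map (CommRingCat.ofHom (algebraMap (R : Type u) (R : Type u))) = 𝟙 (Spec R) := by
  rw [Algebra.algebraMap_self, CommRingCat.ofHom_id, Spec.map_id]
  rfl

variable {n : ℕ} {V : Over S}

/-- A simplex as a map to the product over the base. -/
noncomputable def lifts (t : Nerve.T (cov B a) (Fin (n + 1)) V) :
    (Over.mk (t.1.1.left : V.left ⟶ Spec R) : Over (Spec R)) ⟶ Cech.Y R B n :=
  Pi.lift fun k => Over.homMk (U := Over.mk (t.1.1.left : V.left ⟶ Spec R)) (V := Cech.X R B) (t.1.2 k).2.left (congrArg Over.Hom.left (t.2 k))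

/-- The map of schemes classified by a simplex. -/
noncomputable def clL (t : Nerve.T (cov B a) (Fin (n + 1)) V) :
    V.left ⟶ Spec (CommRingCat.of (Amitsur.Tp R B n : Type u)) :=
  haveI := Cech.isIso_q R B n
  (lifts B a t ≫ inv (Cech.q R B n)).left

lemma clL_hom (t : Nerve.T (cov B a) (Fin (n + 1)) V) :
    clL B a t ≫ Spec.map (CommRingCat.ofHom (algebraMap (R : Type u) (Amitsur.Tp R B n : Type u))) = t.1.1.left :=
  haveI := Cech.isIso_q R B n
  Over.w (lifts B a t ≫ inv (Cech.q R B n))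

lemma clL_π (t : Nerve.T (cov B a) (Fin (n + 1)) V) (k : Fin (n + 1)) :
    clL B a t ≫ Spec.map (CommRingCat.ofHom (Amitsur.π R B n k).toRingHom) = (t.1.2 k).2.left := by
  haveI := Cech.isIso_q R B n
  have h : (lifts B a t ≫ inv (Cech.q R B n)) ≫
      Cech.σ (CommAlgCat.ofHom (Amitsur.π R B n k) : CommAlgCat.of R B ⟶ Amitsur.Tp R B n) =
      Over.homMk (U := Over.mk (t.1.1.left : V.left ⟶ Spec R)) (V := Cech.X R B) (t.1.2 k).2.left (congrArg Over.Hom.left (t.2 k)) := by
    rw [Category.assoc, ← Cech.q_π, IsIso.inv_hom_id_assoc, lifts, Pi.lift_π]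
  exact congrArg Over.Hom.left h

lemma clL_unique (t : Nerve.T (cov B a) (Fin (n + 1)) V) (l : V.left ⟶ Spec (CommRingCat.of (Amitsur.Tp R B n : Type u)))
    (h₀ : l ≫ Spec.map (CommRingCat.ofHom (algebraMap (R : Type u) (Amitsur.Tp R B n : Type u))) = t.1.1.left)
    (h : ∀ k, l ≫ Spec.map (CommRingCat.ofHom (Amitsur.π R B n k).toRingHom) = (t.1.2 k).2.left) : clL B a t = l := by
  haveI := Cech.isIso_q R B n
  let l' : (Over.mk (t.1.1.left : V.left ⟶ Spec R) : Over (Spec R)) ⟶ Cech.Sp (Amitsur.Tp R B n) := Over.homMk l h₀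
  have h' : lifts B a t ≫ inv (Cech.q R B n) = l' := by
    rw [IsIso.comp_inv_eq]
    refine Pi.hom_ext _ _ fun k => ?_
    rw [lifts, Pi.lift_π, Category.assoc, Cech.q_π]
    exact Over.OverMorphism.ext (h k).symm
  exact congrArg Over.Hom.left h'

/-- The map classified by a simplex. -/
noncomputable def cl (t : Nerve.T (cov B a) (Fin (n + 1)) V) :
    V ⟶ (_root_.Adeq.specOver a).obj (op (Amitsur.Tp R B n)) :=
  Over.homMk (clL B a t) (by
    show clL B a t ≫ Spec.map (CommRingCat.ofHom (algebraMap (R : Type u) (Amitsur.Tp R B n : Type u))) ≫ a = V.hom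
    rw [← Category.assoc, clL_hom]
    refine Eq.trans ?_ (Over.w t.1.1)
    show (t.1.1.left : V.left ⟶ Spec R) ≫ a = (t.1.1.left : V.left ⟶ Spec R) ≫ Spec.map (CommRingCat.ofHom (algebraMap (R : Type u) (R : Type u))) ≫ a
    exact congrArg (fun g => (t.1.1.left : V.left ⟶ Spec R) ≫ g) ((congrArg (· ≫ a) spec_algOf_hom).trans (Category.id_comp a)).symm)

/-- The universal simplex. -/
noncomputable def univ (n : ℕ) :
    Nerve.T (cov B a) (Fin (n + 1)) ((_root_.Adeq.specOver a).obj (op (Amitsur.Tp R B n))) :=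
  ⟨(sp a (CommAlgCat.ofHom (Algebra.ofId (R : Type u) (Amitsur.Tp R B n : Type u)) : _root_.Adeq.algOf R R ⟶ Amitsur.Tp R B n),
      fun k => ⟨PUnit.unit, sp a (CommAlgCat.ofHom (Amitsur.π R B n k) : _root_.Adeq.algOf R B ⟶ Amitsur.Tp R B n)⟩),
    fun k => ((_root_.Adeq.specOver a).map_comp _ _).symm.trans (by
      show sp a _ = sp a _
      congr 1
      exact CommAlgCat.hom_ext (Subsingleton.elim _ _))⟩

lemma cl_univ (n : ℕ) : cl B a (univ B a n) = 𝟙 _ :=
  Over.OverMorphism.ext (clL_unique B a (univ B a n) (𝟙 _) (Category.id_comp _) fun _ => Category.id_comp _)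

lemma cl_reindex (t : Nerve.T (cov B a) (Fin (n + 2)) V) (i : Fin (n + 2)) :
    cl B a (Nerve.reindex i.succAbove t) = cl B a t ≫ sp a (CommAlgCat.ofHom (Amitsur.δ R B n i)) := by
  apply Over.OverMorphism.ext
  show clL B a (Nerve.reindex i.succAbove t) = clL B a t ≫ Spec.map (CommRingCat.ofHom (Amitsur.δ R B n i).toRingHom)
  refine clL_unique B a _ _ ?_ fun k => ?_
  · rw [Category.assoc, ← Spec.map_comp, ← CommRingCat.ofHom_comp]
    rw [show ((Amitsur.δ R B n i).toRingHom.comp (algebraMap (R : Type u) (Amitsur.Tp R B n : Type u))) =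
      algebraMap (R : Type u) (Amitsur.Tp R B (n + 1) : Type u) from (Amitsur.δ R B n i).comp_algebraMap]
    exact clL_hom B a t
  · rw [Category.assoc, ← Spec.map_comp, ← CommRingCat.ofHom_comp]
    rw [show ((Amitsur.δ R B n i).toRingHom.comp (Amitsur.π R B n k).toRingHom) =
      (Amitsur.π R B (n + 1) (i.succAbove k)).toRingHom from congrArg AlgHom.toRingHom (Amitsur.δ_comp_π R B n i k)]
    exact clL_π B a t _

lemma cl_res {W : Over S} (g : W ⟶ V) (t : Nerve.T (cov B a) (Fin (n + 1)) V) :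
    cl B a (Nerve.res g t) = g ≫ cl B a t := by
  apply Over.OverMorphism.ext
  show clL B a (Nerve.res g t) = g.left ≫ clL B a t
  refine clL_unique B a _ _ ?_ fun k => ?_
  · rw [Category.assoc, clL_hom]
    rfl
  · rw [Category.assoc, clL_π]
    rfl

variable {P}

/-- The values of a section on simplices. -/
noncomputable def onCells (x : cell B a P n) (V : Over S) :
    Nerve.F.{u + 1, u, u + 1} (cov B a) (Fin (n + 1)) V →+ P.obj (op V) :=
  Nerve.lift.{u + 1, u, u + 1, u + 1} (Uf := cov B a) fun t : Nerve.T.{u + 1, u, u + 1} (cov B a) (Fin (n + 1)) V => P.map (cl B a t).op x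

lemma onCells_gen (x : cell B a P n) {V : Over S} (t : Nerve.T.{u + 1, u, u + 1} (cov B a) (Fin (n + 1)) V) :
    onCells B a x V (Nerve.gen t) = P.map (cl B a t).op x :=
  Nerve.lift_gen _ t

/-- The map out of the free presheaf on simplices defined by a section. -/
noncomputable def ofCell (x : cell B a P n) : Nerve.K.{u + 1, u, u + 1} (cov B a) (Fin (n + 1)) ⟶ P where
  app V := AddCommGrpCat.ofHom (onCells B a x V.unop)
  naturality V W g := AddCommGrpCat.hom_ext (Nerve.hom_ext.{u + 1, u, u + 1, u + 1} (Uf := cov B a) fun t => by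
    refine (congrArg (onCells B a x W.unop) (Nerve.fmap_gen (Nerve.res g.unop) t)).trans ?_
    refine (onCells_gen B a x _).trans (Eq.trans ?_ (congrArg (P.map g).hom (onCells_gen B a x t)).symm)
    rw [cl_res, op_comp, Functor.map_comp]
    rfl)

/-- An injective presheaf has exact Amitsur complexes. -/
theorem exists_dd_eq_of_injective [Injective P] (m : ℕ) (x : cell B a P (m + 1)) (hx : dd B a P (m + 1) x = 0) :
    ∃ y, dd B a P m y = x := by
  let φ := ofCell B a x
  have hφ : Nerve.d.{u + 1, u, u + 1} (cov B a) (m + 1) ≫ φ = 0 := by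
    ext V : 2
    refine AddCommGrpCat.hom_ext (Nerve.hom_ext.{u + 1, u, u + 1, u + 1} (Uf := cov B a) fun t => ?_)
    change onCells B a x V.unop (Nerve.dHom.{u + 1, u, u + 1} (m + 1) V.unop (Nerve.gen.{u + 1, u, u + 1} t)) = (0 : P.obj V)
    rw [Nerve.d_gen, map_sum]
    have h0 := congrArg (fun y => P.map (cl B a t).op y) hx
    simp only [map_zero] at h0
    rw [dd_apply, map_sum] at h0
    refine (Finset.sum_congr rfl fun i _ => ?_).trans h0
    rw [map_zsmul, onCells_gen, map_zsmul]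
    refine congrArg ((-1 : ℤ) ^ (i : ℕ) • ·) ?_
    rw [cl_reindex, op_comp, Functor.map_comp]
    rfl
  let hS := Nerve.exact.{u + 1, u, u + 1} (Uf := cov B a) m
  let ψ : Nerve.K.{u + 1, u, u + 1} (cov B a) (Fin (m + 1)) ⟶ P := hS.descToInjective φ hφ
  have hψ : Nerve.d.{u + 1, u, u + 1} (cov B a) m ≫ ψ = φ := hS.comp_descToInjective φ hφ
  refine ⟨(ψ.app (op _)).hom (Nerve.gen (univ B a m)), ?_⟩
  have h := ConcreteCategory.congr_hom (NatTrans.congr_app hψ (op ((_root_.Adeq.specOver a).obj (op (Amitsur.Tp R B (m + 1))))))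
    (Nerve.gen (univ B a (m + 1)))
  let ψh : Nerve.F.{u + 1, u, u + 1} (cov B a) (Fin (m + 1)) ((_root_.Adeq.specOver a).obj (op (Amitsur.Tp R B (m + 1)))) →+
      P.obj (op ((_root_.Adeq.specOver a).obj (op (Amitsur.Tp R B (m + 1))))) := (ψ.app (op _)).hom
  replace h : ψh (Nerve.dHom.{u + 1, u, u + 1} (Uf := cov B a) m _ (Nerve.gen (univ B a (m + 1)))) =
      P.map (cl B a (univ B a (m + 1))).op x := h.trans (onCells_gen B a x _)
  rw [Nerve.d_gen, map_sum, cl_univ] at h
  rw [dd_apply]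
  refine Eq.trans ((Finset.sum_congr rfl fun i _ => ?_)) (h.trans ?_)
  · rw [map_zsmul]
    refine congrArg ((-1 : ℤ) ^ (i : ℕ) • ·) ?_
    have e : Nerve.reindex i.succAbove (univ B a (m + 1)) = Nerve.res (sp a (CommAlgCat.ofHom (Amitsur.δ R B m i))) (univ B a m) := by
      refine Nerve.T.ext ?_ fun k => ?_
      · refine Eq.trans ?_ ((_root_.Adeq.specOver a).map_comp _ _)
        show sp a _ = sp a _
        congr 1
        exact CommAlgCat.hom_ext (Subsingleton.elim _ _)
      · refine Sigma.ext rfl (heq_of_eq ?_)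
        refine Eq.trans ?_ ((_root_.Adeq.specOver a).map_comp _ _)
        show sp a _ = sp a _
        congr 1
        exact CommAlgCat.hom_ext (Amitsur.δ_comp_π R B m i k).symm
    rw [e]
    exact (Nerve.natTrans_res ψ _ _).symm
  · exact ConcreteCategory.congr_hom (P.map_id _) _

end Groth.Agent.H54.AdeqSite.AmitCx
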