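import Groth.Agent.H54.AdeqSite.FFDescent
import Mathlib.RingTheory.Flat.FaithfullyFlat.Basic
import Mathlib.RingTheory.Flat.Stability

/-!
# The Amitsur complex of an adequate functor is exact in positive degrees
-/

universe u

open CategoryTheory TensorProduct

namespace Groth.Agent.H54.AdeqSite.Amitsur

open Groth.Agent.H54.Adeq

variable (R : Type u) [CommRing R] (B : Type u) [CommRing B] [Algebra R B]

/-- The tensor powers: `Tp n` has `n + 1` factors. -/
@[reducible] noncomputable def Tp : ℕ → _root_.Adeq.Alg R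
  | 0 => CommAlgCat.of R B
  | n + 1 => CommAlgCat.of R (B ⊗[R] (Tp n : Type u))

/-- The structure maps of the factors. -/
noncomputable def π : ∀ n, Fin (n + 1) → (B →ₐ[R] (Tp R B n : Type u))
  | 0 => fun _ => AlgHom.id R B
  | n + 1 => Fin.cases Algebra.TensorProduct.includeLeft
      fun k => Algebra.TensorProduct.includeRight.comp (π n k)

/-- The cofaces. -/
noncomputable def δ : ∀ n, Fin (n + 2) → ((Tp R B n : Type u) →ₐ[R] (Tp R B (n + 1) : Type u))
  | 0 => Fin.cases Algebra.TensorProduct.includeRight fun _ => Algebra.TensorProduct.includeLeft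
  | n + 1 => Fin.cases Algebra.TensorProduct.includeRight
      fun j => Algebra.TensorProduct.map (AlgHom.id R B) (δ n j)

lemma δ_zero : ∀ n, δ R B n 0 = Algebra.TensorProduct.includeRight
  | 0 => rfl
  | _ + 1 => rfl

lemma δ_succ (n : ℕ) (j : Fin (n + 2)) :
    δ R B (n + 1) j.succ = Algebra.TensorProduct.map (AlgHom.id R B) (δ R B n j) := rfl

lemma δ_comp_π : ∀ n (a : Fin (n + 2)) (k : Fin (n + 1)),
    (δ R B n a).comp (π R B n k) = π R B (n + 1) (a.succAbove k) := by
  intro n
  induction n with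
  | zero =>
    intro a k
    obtain rfl := Subsingleton.elim (α := Fin 1) k 0
    induction a using Fin.cases with
    | zero => rfl
    | succ j =>
      obtain rfl := Subsingleton.elim (α := Fin 1) j 0
      rw [Fin.succ_succAbove_zero]
      rfl
  | succ n ih =>
    intro a k
    induction a using Fin.cases with
    | zero => rfl
    | succ j =>
      induction k using Fin.cases with
      | zero =>
        rw [Fin.succ_succAbove_zero]
        refine AlgHom.ext fun b => ?_
        show Algebra.TensorProduct.map (AlgHom.id R B) (δ R B n j) (b ⊗ₜ[R] 1) = _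
        rw [Algebra.TensorProduct.map_tmul, map_one]
        rfl
      | succ k =>
        rw [Fin.succ_succAbove_succ]
        refine AlgHom.ext fun b => ?_
        show Algebra.TensorProduct.map (AlgHom.id R B) (δ R B n j) ((1 : B) ⊗ₜ[R] π R B n k b) = _
        rw [Algebra.TensorProduct.map_tmul, map_one]
        show (1 : B) ⊗ₜ[R] (δ R B n j).comp (π R B n k) b = _
        rw [ih]
        rfl

lemma exists_lift : ∀ n {D : Type u} [CommRing D] [Algebra R D] (h : Fin (n + 1) → (B →ₐ[R] D)),
    ∃ ψ : (Tp R B n : Type u) →ₐ[R] D, ∀ k, ψ.comp (π R B n k) = h k := by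
  intro n
  induction n with
  | zero =>
    intro D _ _ h
    refine ⟨h 0, fun k => ?_⟩
    obtain rfl := Subsingleton.elim (α := Fin 1) k 0
    rfl
  | succ n ih =>
    intro D _ _ h
    obtain ⟨ψ, hψ⟩ := ih fun k => h k.succ
    refine ⟨Algebra.TensorProduct.productMap (h 0) ψ, fun k => ?_⟩
    induction k using Fin.cases with
    | zero => exact Algebra.TensorProduct.productMap_left (h 0) ψ
    | succ k =>
      show ((Algebra.TensorProduct.productMap (h 0) ψ).comp Algebra.TensorProduct.includeRight).comp (π R B n k) = _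
      rw [Algebra.TensorProduct.productMap_right]
      exact hψ k

lemma hom_ext : ∀ n {D : Type u} [CommRing D] [Algebra R D] {ψ ψ' : (Tp R B n : Type u) →ₐ[R] D}
    (_ : ∀ k, ψ.comp (π R B n k) = ψ'.comp (π R B n k)), ψ = ψ' := by
  intro n
  induction n with
  | zero =>
    intro D _ _ ψ ψ' h
    exact h 0
  | succ n ih =>
    intro D _ _ ψ ψ' h
    refine Algebra.TensorProduct.ext (h 0) ?_
    exact ih fun k => h k.succ

variable {R B}

lemma flat_Tp [Module.Flat R B] : ∀ n, Module.Flat R (Tp R B n : Type u)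
  | 0 => ‹Module.Flat R B›
  | n + 1 =>
    haveI := flat_Tp n
    inferInstanceAs (Module.Flat R (B ⊗[R] (Tp R B n : Type u)))

/-- The alternating sum of the cofaces. -/
noncomputable def D (n : ℕ) (K : Type (u + 1)) [AddCommGroup K] [Module R K] :
    (Tp R B n : Type u) ⊗[R] K →ₗ[R] (Tp R B (n + 1) : Type u) ⊗[R] K :=
  ∑ a : Fin (n + 2), (-1 : ℤ) ^ (a : ℕ) • (δ R B n a).toLinearMap.rTensor K

lemma D_apply (n : ℕ) {K : Type (u + 1)} [AddCommGroup K] [Module R K] (z : (Tp R B n : Type u) ⊗[R] K) :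
    D n K z = ∑ a : Fin (n + 2), (-1 : ℤ) ^ (a : ℕ) • (δ R B n a).toLinearMap.rTensor K z := by
  rw [D, LinearMap.sum_apply]
  rfl

theorem exists_D_eq [Module.FaithfullyFlat R B] {K : Type (u + 1)} [AddCommGroup K] [Module R K] (m : ℕ)
    (z : (Tp R B (m + 1) : Type u) ⊗[R] K) (hz : D (m + 1) K z = 0) : ∃ w, D m K w = z := by
  suffices h : z ∈ LinearMap.range (D (B := B) m K) from h
  rw [← Submodule.Quotient.mk_eq_zero]
  refine (Module.FaithfullyFlat.one_tmul_eq_zero_iff R _ (A := B) _).1 ?_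
  let Θ : (B ⊗[R] (Tp R B (m + 1) : Type u)) ⊗[R] K →ₗ[R]
      B ⊗[R] (((Tp R B (m + 1) : Type u) ⊗[R] K) ⧸ LinearMap.range (D (B := B) m K)) :=
    (LinearMap.range (D (B := B) m K)).mkQ.lTensor B ∘ₗ (TensorProduct.assoc R B (Tp R B (m + 1) : Type u) K).toLinearMap
  have h0 : ∀ w, Θ ((δ R B (m + 1) 0).toLinearMap.rTensor K w) =
      (1 : B) ⊗ₜ[R] (LinearMap.range (D (B := B) m K)).mkQ w := by
    intro w
    rw [δ_zero]
    induction w with
    | zero => rw [map_zero, map_zero, map_zero, TensorProduct.tmul_zero]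
    | tmul t k => rfl
    | add x y hx hy => rw [map_add, map_add, hx, hy, map_add, TensorProduct.tmul_add]
  have h1 : ∀ w : (B ⊗[R] (Tp R B m : Type u)) ⊗[R] K,
      ∑ j : Fin (m + 2), (-1 : ℤ) ^ (j : ℕ) • Θ ((δ R B (m + 1) j.succ).toLinearMap.rTensor K w) = 0 := by
    intro w
    induction w with
    | zero => exact Finset.sum_eq_zero fun j _ => by rw [map_zero, map_zero, smul_zero]
    | tmul bt k =>
      induction bt with
      | zero => exact Finset.sum_eq_zero fun j _ => by rw [TensorProduct.zero_tmul, map_zero, map_zero, smul_zero]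
      | tmul b t =>
        have e : ∀ j : Fin (m + 2), Θ ((δ R B (m + 1) j.succ).toLinearMap.rTensor K ((b ⊗ₜ[R] t) ⊗ₜ[R] k)) =
            b ⊗ₜ[R] (LinearMap.range (D (B := B) m K)).mkQ ((δ R B m j).toLinearMap.rTensor K (t ⊗ₜ[R] k)) := by
          intro j
          rw [δ_succ]
          rfl
        simp only [e, ← TensorProduct.tmul_smul, ← TensorProduct.tmul_sum]
        refine (congrArg (fun q => b ⊗ₜ[R] q) ?_).trans (TensorProduct.tmul_zero _ b)
        refine Eq.trans ?_ (show (LinearMap.range (D (B := B) m K)).mkQ (D m K (t ⊗ₜ[R] k)) = 0 from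
          (Submodule.Quotient.mk_eq_zero _).2 ⟨_, rfl⟩)
        rw [D_apply, map_sum]
        exact Finset.sum_congr rfl fun j _ => (map_zsmul _ _ _).symm
      | add x y hx hy => simp only [TensorProduct.add_tmul, map_add, smul_add, Finset.sum_add_distrib, hx, hy, add_zero]
    | add x y hx hy => simp only [map_add, smul_add, Finset.sum_add_distrib, hx, hy, add_zero]
  have h2 := congrArg Θ hz
  rw [map_zero, D_apply, map_sum, Fin.sum_univ_succ] at h2
  simp only [map_zsmul, map_neg, Fin.val_zero, pow_zero, one_smul, Fin.val_succ, pow_succ, mul_neg, mul_one, neg_smul,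
    Finset.sum_neg_distrib] at h2
  rw [h0, h1 z, neg_zero, add_zero] at h2
  exact h2

theorem exists_primitive [Module.FaithfullyFlat R B] {F : _root_.Adeq.MVF R} (hF : _root_.Adeq.adequate R F) (m : ℕ)
    (x : Val F (Tp R B (m + 1)))
    (hx : ∑ a : Fin (m + 3), (-1 : ℤ) ^ (a : ℕ) • mp F (CommAlgCat.ofHom (δ R B (m + 1) a) : Tp R B (m + 1) ⟶ Tp R B (m + 2)) x = 0) :
    ∃ y : Val F (Tp R B m),
      ∑ a : Fin (m + 2), (-1 : ℤ) ^ (a : ℕ) • mp F (CommAlgCat.ofHom (δ R B m a) : Tp R B m ⟶ Tp R B (m + 1)) y = x := by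
  obtain ⟨M, N, g, ι, hι⟩ := exists_isKer hF
  let K := LinearMap.ker g.hom
  have hflat : ∀ n, Module.Flat R (Tp R B n : Type u) := fun n => flat_Tp n
  have hj : ∀ n, Function.Injective (K.subtype.lTensor (Tp R B n : Type u)) := fun n =>
    haveI := hflat n
    Module.Flat.lTensor_preserves_injective_linearMap _ K.injective_subtype
  have hex : ∀ n, Function.Exact (K.subtype.lTensor (Tp R B n : Type u)) (g.hom.lTensor (Tp R B n : Type u)) := fun n =>
    haveI := hflat n
    Module.Flat.lTensor_exact _ (LinearMap.exact_subtype_ker_map g.hom)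
  have nat : ∀ n (a : Fin (n + 2)) (w : (Tp R B n : Type u) ⊗[R] K),
      (δ R B n a).toLinearMap.rTensor M (K.subtype.lTensor (Tp R B n : Type u) w) =
        K.subtype.lTensor (Tp R B (n + 1) : Type u) ((δ R B n a).toLinearMap.rTensor K w) := fun n a w => by
    rw [← LinearMap.comp_apply, ← LinearMap.comp_apply, LinearMap.rTensor_comp_lTensor, LinearMap.lTensor_comp_rTensor]
  have hd : ∀ n (y : Val F (Tp R B n)) (w : (Tp R B n : Type u) ⊗[R] K),
      ap ι (Tp R B n) y = K.subtype.lTensor (Tp R B n : Type u) w →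
      ap ι (Tp R B (n + 1)) (∑ a : Fin (n + 2), (-1 : ℤ) ^ (a : ℕ) • mp F (CommAlgCat.ofHom (δ R B n a) : Tp R B n ⟶ Tp R B (n + 1)) y) =
        K.subtype.lTensor (Tp R B (n + 1) : Type u) (D n K w) := by
    intro n y w e
    rw [map_sum, D_apply, map_sum]
    refine Finset.sum_congr rfl fun a _ => ?_
    rw [map_zsmul, map_zsmul, ap_mp, e]
    exact congrArg (HSMul.hSMul _) (nat n a w)
  obtain ⟨z, hz⟩ := (hex (m + 1) (ap ι (Tp R B (m + 1)) x)).1 ((hι.exact _).apply_apply_eq_zero x)
  have hDz : D (m + 1) K z = 0 := by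
    refine hj (m + 2) ?_
    rw [← hd (m + 1) x z hz.symm, hx, map_zero, map_zero]
    rfl
  obtain ⟨w, hw⟩ := exists_D_eq m z hDz
  obtain ⟨y, hy⟩ := (hι.exact (Tp R B m) (K.subtype.lTensor (Tp R B m : Type u) w)).1 ((hex m).apply_apply_eq_zero w)
  exact ⟨y, hι.inj _ ((hd m y w hy).trans (by rw [hw, hz]))⟩

end Groth.Agent.H54.AdeqSite.Amitsur
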