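import Groth.Agent.H54.AdeqSite.Sequence
import Groth.Prelude.Def_BigSite
import Mathlib.RingTheory.Flat.FaithfullyFlat.Basic
import Mathlib.RingTheory.Flat.FaithfullyFlat.Algebra
import Mathlib.Tactic.TFAE

/-!
# Parasitic adequate modules and faithfully flat descent
-/

universe u

open CategoryTheory CategoryTheory.Limits AlgebraicGeometry Opposite TensorProduct

namespace Groth.Agent.H54.AdeqSite

open Groth.Agent.H54.Adeq

variable {S : Scheme.{u}}

set_option quotPrecheck false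
local notation "K" => Scheme.fppfPrecoverage

lemma eq_zero_of_cover (M : BigSite.Mod K S) (U : Over S) (x : BigSite.sectMod K M U) (T : Presieve U.left)
    (hT : T ∈ (Scheme.precoverage fppfP).coverings U.left)
    (h : ∀ ⦃V : Scheme.{u}⦄ (i : V ⟶ U.left), T i →
      M.val.presheaf.map (Over.homMk i : Over.mk (i ≫ U.hom) ⟶ U).op x = 0) : x = 0 := by
  let R : Sieve U := Presheaf.equalizerSieve (F := M.val.presheaf) (X := op U) x 0
  have hR : R ∈ QuotSh.J K S U := by
    rw [GrothendieckTopology.mem_over_iff]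
    refine GrothendieckTopology.superset_covering _ ?_ (Precoverage.generate_mem_toGrothendieck hT)
    rw [Sieve.generate_le_iff]
    intro V i hi
    show Sieve.overEquiv _ R i
    rw [Sieve.overEquiv_iff]
    exact (h i hi).trans (map_zero _).symm
  refine (((isSheaf_iff_isSheaf_of_type _ _).1
    ((Presheaf.isSheaf_iff_isSheaf_forget _ M.val.presheaf (CategoryTheory.forget AddCommGrpCat.{u + 1})).1 M.isSheaf))
    R hR).isSeparatedFor.ext ?_
  intro V i hi
  exact hi

theorem parasitic_of_exact (C : ShortComplex (BigSite.Mod K S)) (hC : C.Exact)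
    (p₁ : _root_.Adeq.parasitic K S C.X₁) (p₃ : _root_.Adeq.parasitic K S C.X₃) :
    _root_.Adeq.parasitic K S C.X₂ := by
  intro U hU
  suffices h : ∀ x : BigSite.sectMod K C.X₂ U, x = 0 from ⟨fun x y => (h x).trans (h y).symm⟩
  intro x
  have hx : C.g.val.app (op U) x = 0 := @Subsingleton.elim _ (p₃ U hU) _ _
  have hR := imageSieve_mem_of_exact C hC (op U) x hx
  rw [GrothendieckTopology.mem_over_iff] at hR
  haveI : fppfP.{u}.ContainsIdentities := ⟨fun X => fppf_hoi _ inferInstance⟩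
  change Sieve.overEquiv _ _ ∈ (Scheme.precoverage fppfP).toGrothendieck _ at hR
  rw [Precoverage.mem_toGrothendieck_iff_of_isStableUnderComposition] at hR
  obtain ⟨T, hT, hle⟩ := hR
  change T ∈ (Scheme.precoverage fppfP).coverings U.left at hT
  refine eq_zero_of_cover C.X₂ U x T hT fun V i hi => ?_
  have hi' : Sieve.overEquiv U (Presheaf.imageSieve ((PresheafOfModules.toPresheaf _).map C.f.val) (U := U) x) i := hle _ _ hi
  rw [Sieve.overEquiv_iff] at hi'
  obtain ⟨t, ht⟩ := hi'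
  haveI : Flat i := (hT.2 hi).1
  haveI : Flat U.hom := hU
  have h0 : t = 0 := @Subsingleton.elim _ (p₁ (Over.mk (i ≫ U.hom)) (inferInstanceAs (Flat (i ≫ U.hom)))) _ _
  exact (ht.symm.trans (by rw [h0]; exact map_zero _))

lemma subsingleton_of_flat {A : Type u} [CommRing A] {F : _root_.Adeq.MVF A} (hF : _root_.Adeq.adequate A F)
    (h0 : Subsingleton (Val F (CommAlgCat.of A A))) (B : _root_.Adeq.Alg A) [Module.Flat A (B : Type u)] :
    Subsingleton (Val F B) := by
  obtain ⟨M, N, g, ι, hι⟩ := exists_isKer hF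
  have hg : Function.Injective g.hom := (injective_iff_map_eq_zero _).2 fun m hm => by
    obtain ⟨x, hx⟩ := (hι.exact (CommAlgCat.of A A) ((1 : A) ⊗ₜ[A] m : A ⊗[A] M)).1 (by
      rw [ap_Um]
      show (1 : A) ⊗ₜ[A] g.hom m = 0
      rw [hm, TensorProduct.tmul_zero])
    rw [Subsingleton.elim x 0, map_zero] at hx
    have h := congrArg (TensorProduct.lid A M) hx.symm
    change TensorProduct.lid A M ((1 : A) ⊗ₜ[A] m) = TensorProduct.lid A M 0 at h
    rwa [TensorProduct.lid_tmul, one_smul, map_zero] at h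
  refine ⟨fun x y => hι.inj B ?_⟩
  refine Module.Flat.lTensor_preserves_injective_linearMap g.hom hg ?_
  have h : ∀ x, ap (Um g) B (ap ι B x) = 0 := fun x => (hι.exact B).apply_apply_eq_zero x
  exact (h x).trans (h y).symm

theorem parasitic_of_affine_cover (M : BigSite.Mod K S) (hM : _root_.Adeq.adequateMod K S M) (ι : Type u)
    (W : ι → S.Opens) (hW : ∀ i, IsAffineOpen (W i)) (htop : ⨆ i, W i = ⊤)
    (h : ∀ i, Subsingleton (BigSite.sectMod K M ((BigSite.zarIncl S).obj (W i)))) :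
    _root_.Adeq.parasitic K S M := by
  intro U hU
  haveI : Flat U.hom := hU
  suffices h' : ∀ x : BigSite.sectMod K M U, x = 0 from ⟨fun x y => (h' x).trans (h' y).symm⟩
  intro x
  have key : ∀ p : U.left, ∃ (i : ι) (V : U.left.Opens), IsAffineOpen V ∧ p ∈ V ∧ V ≤ U.hom ⁻¹ᵁ W i := fun p => by
    obtain ⟨i, hi⟩ := TopologicalSpace.Opens.mem_iSup.1 (htop.ge (Set.mem_univ (U.hom p)) : U.hom p ∈ ⨆ i, W i)
    obtain ⟨V, hV, hpV, hle⟩ := exists_isAffineOpen_mem_and_subset (x := p) (U := U.hom ⁻¹ᵁ W i) hi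
    exact ⟨i, V, hV, hpV, hle⟩
  choose idx V hV hpV hle using key
  refine eq_zero_of_cover M U x (Presieve.ofArrows _ fun p => (hV p).fromSpec) ?_ ?_
  · refine (Scheme.ofArrows_mem_precoverage_iff (P := fppfP)).2 ⟨fun p => ⟨p, ?_⟩, fun p => fppf_hoi _ inferInstance⟩
    rw [IsAffineOpen.range_fromSpec]
    exact hpV p
  · rintro _ _ ⟨p⟩
    let a := (hW (idx p)).fromSpec
    let φ := U.hom.appLE (W (idx p)) (V p) (hle p)
    letI : Algebra Γ(S, W (idx p)) Γ(U.left, V p) := φ.hom.toAlgebra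
    haveI : Module.Flat Γ(S, W (idx p)) Γ(U.left, V p) := U.hom.flat_appLE (hW (idx p)) (hV p) (hle p)
    let B : _root_.Adeq.Alg Γ(S, W (idx p)) := CommAlgCat.of Γ(S, W (idx p)) Γ(U.left, V p)
    have h0 : Subsingleton (Val ((_root_.Adeq.toMVF K a).obj M) (CommAlgCat.of Γ(S, W (idx p)) Γ(S, W (idx p)))) := by
      let e : (_root_.Adeq.specOver a).obj (op (CommAlgCat.of Γ(S, W (idx p)) Γ(S, W (idx p)))) ≅
          (BigSite.zarIncl S).obj (W (idx p)) :=
        Over.isoMk (hW (idx p)).isoSpec.symm (by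
          show (hW (idx p)).isoSpec.inv ≫ (W (idx p)).ι = Spec.map (CommRingCat.ofHom (RingHom.id _)) ≫ a
          rw [CommRingCat.ofHom_id, Spec.map_id, Category.id_comp]
          exact (hW (idx p)).isoSpec_inv_ι)
      exact @Equiv.subsingleton _ _ ((M.val.presheaf.mapIso e.op).addCommGroupIsoToAddEquiv.symm.toEquiv) (h (idx p))
    have hs := subsingleton_of_flat (adequate_toMVF_fppf M hM _ a) h0 B
    let e : Over.mk ((hV p).fromSpec ≫ U.hom) ≅ (_root_.Adeq.specOver a).obj (op B) :=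
      Over.isoMk (Iso.refl _) ((Category.id_comp _).trans (IsAffineOpen.SpecMap_appLE_fromSpec U.hom (hW (idx p)) (hV p) (hle p)))
    have : Subsingleton (M.val.presheaf.obj (op (Over.mk ((hV p).fromSpec ≫ U.hom)))) :=
      (@Equiv.subsingleton _ _ ((M.val.presheaf.mapIso e.op).addCommGroupIsoToAddEquiv.symm.toEquiv) hs)
    exact Subsingleton.elim _ _

theorem parasitic_tfae (M : BigSite.Mod K S) (hM : _root_.Adeq.adequateMod K S M) :
    List.TFAE [_root_.Adeq.parasitic K S M, _root_.Adeq.parasiticFor K S M,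
      ∀ U : S.Opens, Subsingleton (BigSite.sectMod K M ((BigSite.zarIncl S).obj U)),
      ∃ (ι : Type u) (U : ι → S.Opens), (∀ i, IsAffineOpen (U i)) ∧ (⨆ i, U i) = ⊤ ∧
        ∀ i, Subsingleton (BigSite.sectMod K M ((BigSite.zarIncl S).obj (U i)))] := by
  choose W hW hxW _ using fun s : S => exists_isAffineOpen_mem_and_subset (x := s) (U := (⊤ : S.Opens)) trivial
  have htop : ⨆ s, W s = ⊤ := top_le_iff.1 fun s _ => TopologicalSpace.Opens.mem_iSup.2 ⟨s, hxW s⟩
  tfae_have 1 → 2 := fun h P hP V g hg => h (Over.mk g)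
    (((show P ∈ (Scheme.precoverage fppfP).coverings S from hP).2 hg).1)
  tfae_have 1 → 3 := fun h U => h ((BigSite.zarIncl S).obj U) (inferInstanceAs (Flat U.ι))
  tfae_have 3 → 4 := fun h => ⟨_, W, hW, htop, fun s => h (W s)⟩
  tfae_have 2 → 4 := fun h => ⟨_, W, hW, htop, fun s => by
    have hcov : Presieve.ofArrows (fun s => (W s : Scheme.{u})) (fun s => (W s).ι) ∈ (Scheme.precoverage fppfP).coverings S :=
      (Scheme.ofArrows_mem_precoverage_iff (P := fppfP)).2
        ⟨fun s => ⟨s, ⟨s, hxW s⟩, rfl⟩, fun s => fppf_hoi _ inferInstance⟩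
    exact h hcov (W s).ι ⟨s⟩⟩
  tfae_have 4 → 1 := fun ⟨ι, U, hU, htop, h⟩ => parasitic_of_affine_cover M hM ι U hU htop h
  tfae_finish

theorem faithfullyFlat_descent (M : BigSite.Mod K S) (hM : _root_.Adeq.adequateMod K S M) (R : CommRingCat.{u})
    (a : Spec R ⟶ S) (B : Type u) [CommRing B] [Algebra R B] [Module.FaithfullyFlat R B] :
    Function.Injective (mp ((_root_.Adeq.toMVF K a).obj M)
        (CommAlgCat.ofHom (Algebra.ofId R B) : _root_.Adeq.algOf R R ⟶ _root_.Adeq.algOf R B)) ∧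
      ∀ y, mp ((_root_.Adeq.toMVF K a).obj M) (CommAlgCat.ofHom
            (Algebra.TensorProduct.includeLeft : B →ₐ[R] B ⊗[R] B) : _root_.Adeq.algOf R B ⟶ _root_.Adeq.algOf R (B ⊗[R] B)) y =
          mp ((_root_.Adeq.toMVF K a).obj M) (CommAlgCat.ofHom
            (Algebra.TensorProduct.includeRight : B →ₐ[R] B ⊗[R] B) : _root_.Adeq.algOf R B ⟶ _root_.Adeq.algOf R (B ⊗[R] B)) y →
        y ∈ Set.range (mp ((_root_.Adeq.toMVF K a).obj M)
          (CommAlgCat.ofHom (Algebra.ofId R B) : _root_.Adeq.algOf R R ⟶ _root_.Adeq.algOf R B)) := by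
  let f : Fin 1 → ((_root_.Adeq.algOf R R) ⟶ _root_.Adeq.algOf R B) := fun _ => CommAlgCat.ofHom (Algebra.ofId R B)
  have hf : FlatCover f :=
    ⟨fun _ => RingHom.flat_algebraMap_iff.2 (inferInstanceAs (Module.Flat R B)),
      fun p => ⟨0, PrimeSpectrum.comap_surjective_of_faithfullyFlat (A := (R : Type u)) (B := B) p⟩⟩
  have hF := adequate_toMVF_fppf M hM R a
  refine ⟨(injective_iff_map_eq_zero _).2 fun x hx => hf.eq_zero hF x fun _ => hx, fun y hy => ?_⟩
  obtain ⟨x, hx⟩ := hf.exists_glue hF (fun _ => y) fun k l D α β e => by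
    let h : _root_.Adeq.algOf R (B ⊗[R] B) ⟶ D := CommAlgCat.ofHom (Algebra.TensorProduct.productMap α.hom β.hom)
    have hl : (CommAlgCat.ofHom (Algebra.TensorProduct.includeLeft : B →ₐ[R] B ⊗[R] B) :
        _root_.Adeq.algOf R B ⟶ _root_.Adeq.algOf R (B ⊗[R] B)) ≫ h = α :=
      CommAlgCat.hom_ext (Algebra.TensorProduct.productMap_left α.hom β.hom)
    have hr : (CommAlgCat.ofHom (Algebra.TensorProduct.includeRight : B →ₐ[R] B ⊗[R] B) :
        _root_.Adeq.algOf R B ⟶ _root_.Adeq.algOf R (B ⊗[R] B)) ≫ h = β :=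
      CommAlgCat.hom_ext (Algebra.TensorProduct.productMap_right α.hom β.hom)
    rw [← hl, ← hr, mp_comp, mp_comp, hy]
  exact ⟨x, hx 0⟩

end Groth.Agent.H54.AdeqSite
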