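import Groth.Agent.H54.AdeqSite.AmitComplex
import Groth.Agent.H54.AdeqSite.Parasitic
import Groth.Prelude.Def_BigSite
import Mathlib.AlgebraicGeometry.Limits
import Mathlib.CategoryTheory.Sites.SheafCohomology.Basic
import Mathlib.Algebra.Homology.DerivedCategory.Ext.ExactSequences
import Mathlib.Algebra.Homology.DerivedCategory.Ext.EnoughInjectives
import Mathlib.LinearAlgebra.DFinsupp
import Mathlib.CategoryTheory.Adjunction.Limits

/-!
# Vanishing of fppf cohomology on affine schemes from exactness of Amitsur complexes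
-/

universe u

open CategoryTheory CategoryTheory.Limits AlgebraicGeometry Opposite Abelian

namespace Groth.Agent.H54.AdeqSite.Cartan

open Groth.Agent.H54.Adeq Groth.Agent.Lib.CechPsh AmitCx

variable {S : Scheme.{u}}

local notation "K" => Scheme.fppfPrecoverage

/-- Exactness in positive degrees of all Amitsur complexes. -/
def Amit (F : BigSite.Ab Scheme.fppfPrecoverage S) : Prop :=
  ∀ (R : CommRingCat.{u}) (a : Spec R ⟶ S) (B : Type u) [CommRing B] [Algebra R B] [Module.FaithfullyFlat R B]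
    (m : ℕ) (x : cell B a F.obj (m + 1)), dd B a F.obj (m + 1) x = 0 → ∃ y, dd B a F.obj m y = x

lemma isSheafFor_of_cover (F : BigSite.Ab K S) (U : Over S) {ι : Type*} (X : ι → Over S) (f : ∀ k, X k ⟶ U)
    (hsurj : ∀ x : U.left, ∃ k, x ∈ Set.range (f k).left) (hP : ∀ k, fppfP (f k).left) :
    Presieve.IsSheafFor (F.obj ⋙ CategoryTheory.forget AddCommGrpCat.{u + 1}) (Presieve.ofArrows X f) := by
  rw [Presieve.isSheafFor_iff_generate]
  refine ((isSheaf_iff_isSheaf_of_type _ _).1
    ((Presheaf.isSheaf_iff_isSheaf_forget _ F.obj (CategoryTheory.forget AddCommGrpCat.{u + 1})).1 F.property)) _ ?_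
  show Sieve.ofArrows _ f ∈ _
  rw [GrothendieckTopology.mem_over_iff, Sieve.overEquiv_ofArrows]
  exact Precoverage.generate_mem_toGrothendieck ((Scheme.ofArrows_mem_precoverage_iff (P := fppfP)).2 ⟨hsurj, hP⟩)

lemma subsingleton_of_isEmpty (F : BigSite.Ab K S) (U : Over S) [IsEmpty U.left] :
    Subsingleton (F.obj.obj (op U)) :=
  ⟨fun x y => (isSheafFor_of_cover F U (ι := PEmpty.{1}) (fun k => k.elim) (fun k => k.elim)
    (fun x => isEmptyElim x) (fun k => k.elim)).isSeparatedFor.ext (fun _ _ h => by cases h with | mk k => exact k.elim)⟩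

lemma injective_app {F G : BigSite.Ab K S} (φ : F ⟶ G) [Mono φ] (U : (Over S)ᵒᵖ) :
    Function.Injective (φ.hom.app U) := by
  haveI : Mono φ.hom := inferInstanceAs (Mono ((sheafToPresheaf _ _).map φ))
  haveI : Mono (φ.hom.app U) := inferInstance
  exact (AddCommGrpCat.mono_iff_injective _).1 this

lemma exists_app_eq (C : ShortComplex (BigSite.Ab K S)) (hC : C.ShortExact) (U : (Over S)ᵒᵖ)
    (x : C.X₂.obj.obj U) (hx : C.g.hom.app U x = 0) : ∃ k, C.f.hom.app U k = x := by
  let E := sheafToPresheaf (QuotSh.J K S) AddCommGrpCat.{u + 1} ⋙ (evaluation _ _).obj U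
  haveI : PreservesLimit (parallelPair C.g 0) E := inferInstance
  exact ((ShortComplex.ab_exact_iff _).1
    (ShortComplex.exact_of_f_is_kernel (C.map E) (isLimitForkMapOfIsLimit' E C.zero hC.fIsKernel))) x hx

variable {R : CommRingCat.{u}} (a : Spec R ⟶ S)

theorem surjective_app_algOf (C : ShortComplex (BigSite.Ab K S)) (hC : C.ShortExact) (h₁ : Amit C.X₁) :
    Function.Surjective (C.g.hom.app (op ((_root_.Adeq.specOver a).obj (op (_root_.Adeq.algOf R R))))) := by
  intro y
  haveI := hC.epi_g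
  haveI := hC.mono_f
  haveI := (Sheaf.isLocallySurjective_iff_epi' AddCommGrpCat.{u + 1} C.g).2 inferInstance
  obtain ⟨n, D, f, hP, hsurj, hm⟩ := exists_cover_of_mem a (B := _root_.Adeq.algOf R R) _
    (Presheaf.imageSieve_mem (QuotSh.J K S) C.g.hom y)
  choose t ht using hm
  let B : Type u := ∀ k, (D k : Type u)
  let pr : ∀ k, _root_.Adeq.algOf R B ⟶ D k := fun k =>
    CommAlgCat.ofHom (Pi.evalAlgHom (R : Type u) (fun k => (D k : Type u)) k)
  let f₀ : _root_.Adeq.algOf R R ⟶ _root_.Adeq.algOf R B := CommAlgCat.ofHom (Algebra.ofId (R : Type u) B)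
  have hf₀ : ∀ k, f₀ ≫ pr k = f k := fun k => CommAlgCat.hom_ext (Subsingleton.elim _ _)
  haveI : ∀ k, Module.Flat (R : Type u) (D k : Type u) := fun k => by
    have := (flatCover_of f hP hsurj).flat k
    rw [show (f k).hom = Algebra.ofId (R : Type u) (D k : Type u) from Subsingleton.elim _ _] at this
    exact RingHom.flat_algebraMap_iff.1 this
  haveI : Module.Flat (R : Type u) B :=
    Module.Flat.of_linearEquiv (DFinsupp.linearEquivFunOnFintype (R := (R : Type u)) (M := fun k => (D k : Type u))).symm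
  haveI : Module.FaithfullyFlat (R : Type u) B := Module.FaithfullyFlat.of_comap_surjective fun p => by
    obtain ⟨k, q, hq⟩ := hsurj p
    refine ⟨PrimeSpectrum.comap (pr k).hom.toRingHom q, ?_⟩
    rw [← hq]
    refine PrimeSpectrum.ext (Ideal.ext fun r => ?_)
    show (pr k).hom (algebraMap (R : Type u) B r) ∈ q.asIdeal ↔ (f k).hom r ∈ q.asIdeal
    rw [show (f k).hom r = algebraMap (R : Type u) (D k : Type u) r from (f k).hom.commutes r]
    rfl
  let P : ∀ F : BigSite.Ab K S, (Over S)ᵒᵖ ⥤ AddCommGrpCat.{u + 1} := fun F => F.obj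
  let T₀ : Over S := (_root_.Adeq.specOver a).obj (op (_root_.Adeq.algOf R B))
  let X : Fin n → Over S := fun k => (_root_.Adeq.specOver a).obj (op (D k))
  have hoi : ∀ k, IsOpenImmersion (sp a (pr k)).left := fun k =>
    inferInstanceAs (IsOpenImmersion (Spec.map (CommRingCat.ofHom (Pi.evalRingHom (fun k => (D k : Type u)) k))))
  have hcov : ∀ p : T₀.left, ∃ k, p ∈ Set.range (sp a (pr k)).left := fun p => by
    obtain ⟨k, q, hq⟩ := PrimeSpectrum.exists_comap_evalRingHom_eq (R := fun k => (D k : Type u)) p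
    exact ⟨k, q, hq⟩
  have hc : ∀ (F : BigSite.Ab K S) {U V W : Over S} (r : U ⟶ V) (s : V ⟶ W) (w : F.obj.obj (op W)),
      F.obj.map r.op (F.obj.map s.op w) = F.obj.map (r ≫ s).op w := fun F {U V W} r s w => by
    rw [op_comp, Functor.map_comp, ConcreteCategory.comp_apply]
  obtain ⟨x, hx⟩ := ((Presieve.isSheafFor_arrows_iff _ _).1
    (isSheafFor_of_cover C.X₂ T₀ X (fun k => sp a (pr k)) hcov (fun k => fppf_hoi _ (hoi k))) t
    (fun i j W gi gj e => by
      by_cases hij : i = j
      · subst hij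
        haveI := hoi i
        rw [show gi = gj from Over.OverMorphism.ext ((cancel_mono (sp a (pr i)).left).1 (congrArg Over.Hom.left e))]
      · haveI : IsEmpty W.left := ⟨fun w => by
          have h := congrArg (fun g : W ⟶ T₀ => g.left w) e
          change PrimeSpectrum.comap (Pi.evalRingHom (fun i => (D i : Type u)) i) (gi.left w) =
            PrimeSpectrum.comap (Pi.evalRingHom (fun i => (D i : Type u)) j) (gj.left w) at h
          have h1 : (Pi.single i 1 : B) ∈ (PrimeSpectrum.comap (Pi.evalRingHom (fun i => (D i : Type u)) j) (gj.left w)).asIdeal := by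
            show Pi.evalRingHom (fun i => (D i : Type u)) j (Pi.single i 1 : B) ∈ (show PrimeSpectrum (D j : Type u) from gj.left w).asIdeal
            rw [Pi.evalRingHom_apply, Pi.single_eq_of_ne (Ne.symm hij)]
            exact Ideal.zero_mem _
          rw [← h] at h1
          change Pi.evalRingHom (fun i => (D i : Type u)) i (Pi.single i 1 : B) ∈ (show PrimeSpectrum (D i : Type u) from gi.left w).asIdeal at h1
          rw [Pi.evalRingHom_apply, Pi.single_eq_same] at h1
          exact (PrimeSpectrum.isPrime _).ne_top ((Ideal.eq_top_iff_one _).2 h1)⟩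
        exact (subsingleton_of_isEmpty C.X₂ W).elim _ _)).exists
  have hgx : C.g.hom.app _ x = C.X₃.obj.map (sp a f₀).op y := by
    refine (isSheafFor_of_cover C.X₃ T₀ X (fun k => sp a (pr k)) hcov (fun k => fppf_hoi _ (hoi k))).isSeparatedFor.ext ?_
    rintro _ _ ⟨k⟩
    show C.X₃.obj.map (sp a (pr k)).op (C.g.hom.app _ x) = C.X₃.obj.map (sp a (pr k)).op (C.X₃.obj.map (sp a f₀).op y)
    rw [← NatTrans.naturality_apply C.g.hom (sp a (pr k)).op x, hc, show sp a (pr k) ≫ sp a f₀ = sp a (f k) by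
      rw [← hf₀ k]; exact ((_root_.Adeq.specOver a).map_comp _ _).symm]
    exact (congrArg (C.g.hom.app _) (hx k)).trans (ht k)
  let x₀ : cell B a C.X₂.obj 0 := x
  have hdx : C.g.hom.app _ (dd B a C.X₂.obj 0 x₀) = 0 := by
    rw [map_dd, dd_apply, Fin.sum_univ_two]
    simp only [Fin.val_zero, pow_zero, one_smul, Fin.val_one, pow_one, neg_smul]
    rw [hgx]
    show C.X₃.obj.map _ (C.X₃.obj.map (sp a f₀).op y) + -C.X₃.obj.map _ (C.X₃.obj.map (sp a f₀).op y) = 0
    rw [hc, hc]
    have e : ∀ i, sp a (CommAlgCat.ofHom (Amitsur.δ (R : Type u) B 0 i)) ≫ sp a f₀ =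
        sp a (CommAlgCat.ofHom (Algebra.ofId (R : Type u) (Amitsur.Tp (R : Type u) B 1 : Type u)) :
          _root_.Adeq.algOf R R ⟶ Amitsur.Tp (R : Type u) B 1) := fun i => by
      refine ((_root_.Adeq.specOver a).map_comp _ _).symm.trans ?_
      show sp a _ = sp a _
      congr 1
      exact CommAlgCat.hom_ext (Subsingleton.elim _ _)
    rw [e, e, add_neg_cancel]
  obtain ⟨v, hv⟩ := exists_app_eq C hC _ _ hdx
  have hdv : dd B a C.X₁.obj 1 v = 0 := injective_app C.f _ (by rw [map_dd, hv, dd_dd, map_zero])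
  obtain ⟨z, hz⟩ := h₁ R a B 0 v hdv
  let x' : cell B a C.X₂.obj 0 := x₀ - C.f.hom.app _ z
  have hdx' : dd B a C.X₂.obj 0 x' = 0 := by
    rw [map_sub, ← map_dd, hz, hv, sub_self]
  rw [dd_apply, Fin.sum_univ_two] at hdx'
  simp only [Fin.val_zero, pow_zero, one_smul, Fin.val_one, pow_one, neg_smul, add_neg_eq_zero] at hdx'
  obtain ⟨x₁, hx₁⟩ := ((Presieve.isSheafFor_arrows_iff _ _).1
    (isSheafFor_of_cover C.X₂ _ X (fun k => sp a (f k)) hsurj (fun k => hP k))
    (fun k => C.X₂.obj.map (sp a (pr k)).op x')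
    (fun i j W gi gj e => by
      show C.X₂.obj.map gi.op (C.X₂.obj.map (sp a (pr i)).op x') = C.X₂.obj.map gj.op (C.X₂.obj.map (sp a (pr j)).op x')
      rw [hc, hc]
      let r : Fin 2 → (W ⟶ T₀) := Fin.cases (gi ≫ sp a (pr i)) fun _ => gj ≫ sp a (pr j)
      have hr : ∀ k, r k ≫ sp a f₀ = gi ≫ sp a (f i) := by
        have h2 : ∀ k, sp a (pr k) ≫ sp a f₀ = sp a (f k) := fun k => by
          rw [← hf₀ k]; exact ((_root_.Adeq.specOver a).map_comp _ _).symm
        intro k
        induction k using Fin.cases with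
        | zero => exact (Category.assoc _ _ _).trans (by rw [h2])
        | succ k => exact ((Category.assoc _ _ _).trans (by rw [h2])).trans e.symm
      let τ : Nerve.T.{u + 1, u, u + 1} (cov B a) (Fin 2) W := ⟨(gi ≫ sp a (f i), fun k => ⟨PUnit.unit, r k⟩), fun k => by
        refine Eq.trans ?_ (hr k)
        rfl⟩
      have hcl : ∀ b : Fin 2, cl B a (Nerve.reindex b.succAbove τ) = r (b.succAbove 0) := fun b => by
        apply Over.OverMorphism.ext
        refine clL_unique B a _ _ ?_ fun k => ?_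
        · exact congrArg Over.Hom.left (hr (b.succAbove 0))
        · obtain rfl := Subsingleton.elim (α := Fin 1) k 0
          show (r (b.succAbove 0)).left ≫ Spec.map (CommRingCat.ofHom (RingHom.id B)) = _
          rw [CommRingCat.ofHom_id, Spec.map_id]
          exact Category.comp_id _
      have h0 := hcl 0
      have h1 := hcl 1
      rw [cl_reindex] at h0 h1
      change C.X₂.obj.map (r 0).op x' = C.X₂.obj.map (r 1).op x'
      have k1 : (1 : Fin 2).succAbove 0 = 0 := rfl
      have k0 : (0 : Fin 2).succAbove 0 = 1 := rfl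
      rw [k0] at h0
      rw [k1] at h1
      rw [← h0, ← h1, ← hc, ← hc, hdx'])).exists
  refine ⟨x₁, (isSheafFor_of_cover C.X₃ _ X (fun k => sp a (f k)) hsurj (fun k => hP k)).isSeparatedFor.ext ?_⟩
  rintro _ _ ⟨k⟩
  show C.X₃.obj.map (sp a (f k)).op (C.g.hom.app _ x₁) = C.X₃.obj.map (sp a (f k)).op y
  rw [← NatTrans.naturality_apply C.g.hom (sp a (f k)).op x₁]
  refine (congrArg (C.g.hom.app _) (hx₁ k)).trans ?_
  rw [NatTrans.naturality_apply C.g.hom (sp a (pr k)).op x', map_sub, ← ConcreteCategory.comp_apply (C.f.hom.app _),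
    ← NatTrans.comp_app, show C.f.hom ≫ C.g.hom = (C.f ≫ C.g).hom from rfl, C.zero]
  show C.X₃.obj.map (sp a (pr k)).op (C.g.hom.app _ x₀ - 0) = _
  rw [sub_zero, hgx, hc, show sp a (pr k) ≫ sp a f₀ = sp a (f k) by
    rw [← hf₀ k]; exact ((_root_.Adeq.specOver a).map_comp _ _).symm]

theorem surjective_app (C : ShortComplex (BigSite.Ab K S)) (hC : C.ShortExact) (h₁ : Amit C.X₁) (U : Over S)
    [IsAffine U.left] : Function.Surjective (C.g.hom.app (op U)) := by
  intro y
  let b : Spec Γ(U.left, ⊤) ⟶ S := U.left.isoSpec.inv ≫ U.hom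
  let e : (_root_.Adeq.specOver b).obj (op (_root_.Adeq.algOf Γ(U.left, ⊤) Γ(U.left, ⊤))) ≅ U :=
    Over.isoMk U.left.isoSpec.symm (by
      show U.left.isoSpec.inv ≫ U.hom = Spec.map (CommRingCat.ofHom (algebraMap Γ(U.left, ⊤) Γ(U.left, ⊤))) ≫ b
      rw [Algebra.algebraMap_self, CommRingCat.ofHom_id, Spec.map_id]
      exact (Category.id_comp b).symm)
  obtain ⟨x, hx⟩ := surjective_app_algOf b C hC h₁ (C.X₃.obj.map e.hom.op y)
  refine ⟨C.X₂.obj.map e.inv.op x, ?_⟩
  rw [NatTrans.naturality_apply C.g.hom e.inv.op x, hx, ← ConcreteCategory.comp_apply, ← Functor.map_comp, ← op_comp,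
    e.inv_hom_id, op_id]
  exact Functor.map_id_apply _ _ _

theorem amit_X₃ (C : ShortComplex (BigSite.Ab K S)) (hC : C.ShortExact) (h₁ : Amit C.X₁) (h₂ : Amit C.X₂) :
    Amit C.X₃ := by
  intro R a B _ _ _ m x hx
  haveI := hC.mono_f
  haveI : ∀ n, IsAffine ((_root_.Adeq.specOver a).obj (op (Amitsur.Tp R B n))).left := fun n =>
    inferInstanceAs (IsAffine (Spec (CommRingCat.of (Amitsur.Tp R B n : Type u))))
  obtain ⟨x₂, rfl⟩ := surjective_app C hC h₁ _ x
  rw [← map_dd] at hx
  obtain ⟨v, hv⟩ := exists_app_eq C hC _ _ hx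
  have hdv : dd B a C.X₁.obj (m + 2) v = 0 := injective_app C.f _ (by rw [map_dd, hv, dd_dd, map_zero])
  obtain ⟨z, hz⟩ := h₁ R a B (m + 1) v hdv
  have hd : dd B a C.X₂.obj (m + 1) (x₂ - C.f.hom.app _ z) = 0 := by rw [map_sub, ← map_dd, hz, hv, sub_self]
  obtain ⟨y, hy⟩ := h₂ R a B m _ hd
  refine ⟨C.g.hom.app _ y, ?_⟩
  rw [← map_dd, hy, map_sub, ← ConcreteCategory.comp_apply (C.f.hom.app _),
    ← NatTrans.comp_app, show C.f.hom ≫ C.g.hom = (C.f ≫ C.g).hom from rfl, C.zero]
  exact sub_zero _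

lemma amit_injective (I : BigSite.Ab K S) [Injective I] : Amit I := by
  intro R a B _ _ _ m x hx
  haveI : Injective I.obj := (sheafificationAdjunction (QuotSh.J K S) AddCommGrpCat.{u + 1}).map_injective I inferInstance
  exact exists_dd_eq_of_injective B a m x hx

/-- Affine schemes have no cohomology in positive degrees with exact Amitsur complexes. -/
theorem subsingleton_H [IsAffine S] (q : ℕ) :
    ∀ F : BigSite.Ab K S, Amit F → Subsingleton (BigSite.H K S F (q + 1)) := by
  haveI : IsAffine (Over.mk (𝟙 S)).left := inferInstanceAs (IsAffine S)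
  have hses : ∀ F : BigSite.Ab K S,
      (ShortComplex.mk (Injective.ι F) (cokernel.π (Injective.ι F)) (cokernel.condition _)).ShortExact := fun F =>
    ShortComplex.ShortExact.mk' (ShortComplex.exact_of_g_is_cokernel _ (cokernelIsCokernel _)) inferInstance inferInstance
  induction q with
  | zero =>
    intro F hF
    refine subsingleton_of_forall_eq 0 fun x => ?_
    obtain ⟨y, rfl⟩ := Ext.covariant_sequence_exact₁ (n₀ := 0) _ (hses F) x (Ext.eq_zero_of_injective _) rfl
    obtain ⟨t, ht⟩ := surjective_app _ (hses F) hF (Over.mk (𝟙 S)) (Sheaf.H.equiv₀ _ Over.mkIdTerminal y)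
    have hy : Sheaf.H.map (cokernel.π (Injective.ι F)) 0 ((Sheaf.H.equiv₀ _ Over.mkIdTerminal).symm t) = y := by
      rw [Sheaf.H.equiv₀_symm_naturality]
      exact (congrArg _ ht).trans (AddEquiv.symm_apply_apply _ _)
    rw [← hy, Sheaf.H.map_apply, Ext.comp_assoc (a₁₂ := 0) (a₂₃ := 1) _ _ _ (add_zero 0) (zero_add 1) (by omega)]
    exact (congrArg (fun z => Ext.comp _ z _) (hses F).comp_extClass).trans (Ext.comp_zero _ _ _ _ _)
  | succ q ih =>
    intro F hF
    refine subsingleton_of_forall_eq 0 fun x => ?_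
    obtain ⟨y, rfl⟩ := Ext.covariant_sequence_exact₁ (n₀ := q + 1) _ (hses F) x (Ext.eq_zero_of_injective _) rfl
    rw [@Subsingleton.elim _ (ih _ (amit_X₃ _ (hses F) hF (amit_injective _))) y 0, Ext.zero_comp]

lemma amit_toAbMod (M : BigSite.Mod K S) (hM : _root_.Adeq.adequateMod K S M) : Amit ((BigSite.toAbMod K S).obj M) := by
  intro R a B _ _ _ m x hx
  let F := (_root_.Adeq.toMVF K a).obj M
  rw [dd_apply] at hx
  obtain ⟨y, hy⟩ := Amitsur.exists_primitive (adequate_toMVF_fppf M hM R a) m (x : Val F (Amitsur.Tp R B (m + 1))) hx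
  exact ⟨y, (dd_apply B a _ m y).trans hy⟩

theorem subsingleton_HU_affine (M : BigSite.Mod K S) (hM : _root_.Adeq.adequateMod K S M) (U : Over S)
    [IsAffine U.left] (q : ℕ) (hq : 0 < q) :
    Subsingleton (BigSite.HU K ((BigSite.toAbMod K S).obj M) q U) := by
  obtain ⟨q, rfl⟩ : ∃ p, q = p + 1 := ⟨q - 1, by omega⟩
  exact subsingleton_H q ((BigSite.toAbMod K U.left).obj ((BigSite.pullMod K U.hom).obj M))
    (amit_toAbMod _ (adequateMod_pull U.hom M hM))

end Groth.Agent.H54.AdeqSite.Cartan
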