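import Groth.Agent.H54.AdeqSite.Affine
import Mathlib.AlgebraicGeometry.Morphisms.UniversallyOpen
import Mathlib.AlgebraicGeometry.Morphisms.Flat

/-!
# The fppf and Zariski cases; restriction
-/

universe u

open CategoryTheory CategoryTheory.Limits AlgebraicGeometry Opposite TensorProduct

namespace Groth.Agent.H54.AdeqSite

open Groth.Agent.H54.Adeq

/-- Flat and locally of finite presentation. -/
abbrev fppfP : MorphismProperty Scheme.{u} := @Flat ⊓ @LocallyOfFinitePresentation

instance : BigSite.OSh (Scheme.precoverage fppfP.{u}) := inferInstanceAs (BigSite.OSh Scheme.fppfPrecoverage.{u})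

lemma fppf_hoi {X Y : Scheme.{u}} (f : X ⟶ Y) (_ : IsOpenImmersion f) : fppfP f :=
  ⟨inferInstance, inferInstance⟩

lemma fppf_hopen {X Y : Scheme.{u}} (f : X ⟶ Y) (h : fppfP f) : IsOpenMap f :=
  haveI : Flat f := h.1
  haveI : LocallyOfFinitePresentation f := h.2
  f.isOpenMap

theorem adequate_toMVF_fppf {S : Scheme.{u}} (M : BigSite.Mod Scheme.fppfPrecoverage S)
    (hM : _root_.Adeq.adequateMod Scheme.fppfPrecoverage S M) (A : CommRingCat.{u}) (a : Spec A ⟶ S) :
    _root_.Adeq.adequate A ((_root_.Adeq.toMVF Scheme.fppfPrecoverage a).obj M) :=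
  adequate_toMVF (P := fppfP) fppf_hoi fppf_hopen M hM A a

theorem adequateMod_fppf {S : Scheme.{u}} (M : BigSite.Mod Scheme.fppfPrecoverage S)
    (h : ∀ (A : CommRingCat.{u}) (a : Spec A ⟶ S), _root_.Adeq.adequate A ((_root_.Adeq.toMVF Scheme.fppfPrecoverage a).obj M)) :
    _root_.Adeq.adequateMod Scheme.fppfPrecoverage S M :=
  adequateMod_of_forall (P := fppfP) fppf_hoi M h

theorem adequate_toMVF_zariski {S : Scheme.{u}} (M : BigSite.Mod Scheme.zariskiPrecoverage S)
    (hM : _root_.Adeq.adequateMod Scheme.zariskiPrecoverage S M) (A : CommRingCat.{u}) (a : Spec A ⟶ S) :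
    _root_.Adeq.adequate A ((_root_.Adeq.toMVF Scheme.zariskiPrecoverage a).obj M) :=
  haveI : BigSite.OSh (Scheme.precoverage @IsOpenImmersion) := inferInstanceAs (BigSite.OSh Scheme.zariskiPrecoverage.{u})
  adequate_toMVF (P := @IsOpenImmersion) (fun _ h => h) (fun f h => haveI := h; f.isOpenEmbedding.isOpenMap) M hM A a

section Pull

variable (K : Precoverage Scheme.{u}) [BigSite.OSh K] {S T : Scheme.{u}} (f : T ⟶ S) (M : BigSite.Mod K S)
  {A : CommRingCat.{u}} (a : Spec A ⟶ T)

/-- Affine objects of the target seen in the source of the restriction. -/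
noncomputable def pullObj (B : _root_.Adeq.Alg A) :
    (_root_.Adeq.specOver (a ≫ f)).obj (op B) ⟶ (Over.map f).obj ((_root_.Adeq.specOver a).obj (op B)) :=
  Over.homMk (𝟙 _) ((Category.id_comp _).trans (Category.assoc _ a f))

instance (B : _root_.Adeq.Alg A) : IsIso (pullObj f a B) := by
  haveI : IsIso ((Over.forget S).map (pullObj f a B)) := inferInstanceAs (IsIso (𝟙 _))
  exact isIso_of_reflects_iso _ (Over.forget S)

/-- The functor of a restricted module. -/
noncomputable def pullCmp :
    (_root_.Adeq.toMVF K a).obj ((BigSite.pullMod K f).obj M) ⟶ (_root_.Adeq.toMVF K (a ≫ f)).obj M :=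
  mkHom (fun B =>
    { toFun := fun x => M.val.presheaf.map (pullObj f a B).op x
      map_add' := fun x y => map_add (M.val.presheaf.map (pullObj f a B).op).hom x y
      map_smul' := fun c x => by
        refine (M.val.map_smul (pullObj f a B).op (_root_.Adeq.toSect K a B c) x).trans ?_
        congr 1 })
    fun B B' g x => by
      show M.val.presheaf.map (pullObj f a B').op
          (M.val.presheaf.map ((Over.map f).map ((_root_.Adeq.specOver a).map g.op)).op x) =
        M.val.presheaf.map ((_root_.Adeq.specOver (a ≫ f)).map g.op).op (M.val.presheaf.map (pullObj f a B).op x)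
      rw [← ConcreteCategory.comp_apply, ← ConcreteCategory.comp_apply, ← Functor.map_comp, ← Functor.map_comp,
        ← op_comp, ← op_comp]
      congr 3

instance : IsIso (pullCmp K f M a) := by
  have hb : ∀ B, Function.Bijective (ap (pullCmp K f M a) B) := fun B =>
    ConcreteCategory.bijective_of_isIso (M.val.presheaf.map (pullObj f a B).op)
  have : Mono (pullCmp K f M a) := mono_of_ap fun B => (hb B).1
  have : Epi (pullCmp K f M a) := epi_of_ap fun B => (hb B).2
  exact isIso_of_mono_of_epi _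

theorem adequate_pull_iff :
    _root_.Adeq.adequate A ((_root_.Adeq.toMVF K a).obj ((BigSite.pullMod K f).obj M)) ↔
      _root_.Adeq.adequate A ((_root_.Adeq.toMVF K (a ≫ f)).obj M) :=
  (_root_.Adeq.adequate A).prop_iff_of_iso (asIso (pullCmp K f M a))

end Pull

end Groth.Agent.H54.AdeqSite

namespace Groth.Agent.H54.AdeqSite

theorem adequateMod_pull {S T : Scheme.{u}} (f : T ⟶ S) (M : BigSite.Mod Scheme.fppfPrecoverage S)
    (hM : _root_.Adeq.adequateMod Scheme.fppfPrecoverage S M) :
    _root_.Adeq.adequateMod Scheme.fppfPrecoverage T ((BigSite.pullMod Scheme.fppfPrecoverage f).obj M) :=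
  adequateMod_fppf _ fun _ a => (adequate_pull_iff _ f M a).2 (adequate_toMVF_fppf M hM _ _)

theorem adequateMod_of_cover {S : Scheme.{u}} (M : BigSite.Mod Scheme.fppfPrecoverage S) (ι : Type u)
    (T : ι → Scheme.{u}) (f : ∀ i, T i ⟶ S) (hcov : Presieve.ofArrows T f ∈ Scheme.fppfPrecoverage.coverings S)
    (h : ∀ i, _root_.Adeq.adequateMod Scheme.fppfPrecoverage (T i) ((BigSite.pullMod Scheme.fppfPrecoverage (f i)).obj M)) :
    _root_.Adeq.adequateMod Scheme.fppfPrecoverage S M := by
  choose κ R t ht had using h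
  refine ⟨Σ i, κ i, fun p => R p.1 p.2, fun p => t p.1 p.2 ≫ f p.1, ?_, fun p => (adequate_pull_iff _ (f p.1) M _).1 (had p.1 p.2)⟩
  have hcov' := (Scheme.ofArrows_mem_precoverage_iff (P := fppfP)).1 hcov
  have ht' := fun i => (Scheme.ofArrows_mem_precoverage_iff (P := fppfP)).1 (ht i)
  refine (Scheme.ofArrows_mem_precoverage_iff (P := fppfP)).2 ⟨fun x => ?_, fun p => ?_⟩
  · obtain ⟨i, y, hy⟩ := hcov'.1 x
    obtain ⟨j, z, hz⟩ := (ht' i).1 y
    refine ⟨⟨i, j⟩, z, ?_⟩
    show f i (t i j z) = x
    rw [hz, hy]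
  · exact MorphismProperty.comp_mem _ _ _ ((ht' p.1).2 p.2) (hcov'.2 p.1)

end Groth.Agent.H54.AdeqSite
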