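import Groth.Agent.H54.AdeqSite.Amitsur
import Groth.Agent.H54.AdeqSite.Main
import Mathlib.CategoryTheory.Sites.SheafCohomology.Cech
import Mathlib.CategoryTheory.Limits.Constructions.Over.Basic

/-!
# The Cech complex of an adequate module along a faithfully flat map
-/

universe u

open CategoryTheory CategoryTheory.Limits AlgebraicGeometry Opposite TensorProduct

namespace Groth.Agent.H54.AdeqSite.Cech

open Groth.Agent.H54.Adeq Amitsur AlgebraicTopology

variable (R : CommRingCat.{u}) (B : Type u) [CommRing B] [Algebra R B]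

/-- The covering object. -/
noncomputable abbrev X : Over (Spec R) := Over.mk (Spec.map (CommRingCat.ofHom (algebraMap R B)))

/-- The self products. -/
noncomputable abbrev Y (n : ℕ) : Over (Spec R) := ∏ᶜ (fun _ : Fin (n + 1) => X R B)

/-- The faces. -/
noncomputable abbrev face (n : ℕ) (a : Fin (n + 2)) : Y R B (n + 1) ⟶ Y R B n :=
  Pi.lift fun b => Pi.π (fun _ : Fin (n + 2) => X R B) (a.succAbove b)

variable {R} in
/-- The spectrum of an algebra over the base. -/
noncomputable abbrev Sp (C : _root_.Adeq.Alg R) : Over (Spec R) :=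
  Over.mk (Spec.map (CommRingCat.ofHom (algebraMap R (C : Type u))))

variable {R} in
/-- The map of spectra of a map of algebras. -/
noncomputable def σ {C C' : _root_.Adeq.Alg R} (f : C ⟶ C') : Sp C' ⟶ Sp C :=
  Over.homMk (Spec.map (rh f)) (by
    show Spec.map (rh f) ≫ Spec.map (CommRingCat.ofHom (algebraMap R (C : Type u))) = _
    rw [← Spec.map_comp]
    congr 1
    exact CommRingCat.hom_ext f.hom.comp_algebraMap)

/-- The comparison map to the product. -/
noncomputable def q (n : ℕ) : Sp (Tp R B n) ⟶ Y R B n :=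
  Pi.lift fun k => σ (CommAlgCat.ofHom (π R B n k) : CommAlgCat.of R B ⟶ Tp R B n)

lemma q_π (n : ℕ) (k : Fin (n + 1)) :
    q R B n ≫ Pi.π (fun _ : Fin (n + 1) => X R B) k = σ (CommAlgCat.ofHom (π R B n k) : CommAlgCat.of R B ⟶ Tp R B n) :=
  Pi.lift_π _ k

lemma σ_q (n : ℕ) (a : Fin (n + 2)) :
    σ (CommAlgCat.ofHom (δ R B n a) : Tp R B n ⟶ Tp R B (n + 1)) ≫ q R B n = q R B (n + 1) ≫ face R B n a := by
  refine Pi.hom_ext _ _ fun k => ?_
  rw [Category.assoc, q_π, Category.assoc, Pi.lift_π, q_π]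
  apply Over.OverMorphism.ext
  show Spec.map (rh _) ≫ Spec.map (rh _) = Spec.map (rh _)
  rw [← Spec.map_comp]
  congr 1
  exact CommRingCat.hom_ext (congrArg AlgHom.toRingHom (δ_comp_π R B n a k))

lemma isIso_q (n : ℕ) : IsIso (q R B n) := by
  letI : Algebra R Γ((Y R B n).left, ⊤) :=
    ((Scheme.ΓSpecIso R).inv ≫ (Y R B n).hom.appTop).hom.toAlgebra
  let h : Fin (n + 1) → (B →ₐ[R] Γ((Y R B n).left, ⊤)) := fun k =>
    { ((Scheme.ΓSpecIso (CommRingCat.of B)).inv ≫ (Pi.π (fun _ : Fin (n + 1) => X R B) k).left.appTop).hom with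
      commutes' := fun r => by
        show ((CommRingCat.ofHom (algebraMap R B) ≫ (Scheme.ΓSpecIso (CommRingCat.of B)).inv) ≫
            (Pi.π (fun _ : Fin (n + 1) => X R B) k).left.appTop) r =
          ((Scheme.ΓSpecIso R).inv ≫ (Y R B n).hom.appTop) r
        rw [Scheme.ΓSpecIso_inv_naturality, Category.assoc, ← Scheme.Hom.comp_appTop,
          show (Pi.π (fun _ : Fin (n + 1) => X R B) k).left ≫ Spec.map (CommRingCat.ofHom (algebraMap R B)) = (Y R B n).hom from
            Over.w (Pi.π (fun _ : Fin (n + 1) => X R B) k)]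
        rfl }
  obtain ⟨ψ, hψ⟩ := exists_lift R B n h
  have hnat : ∀ {C : CommRingCat.{u}} (g : (Y R B n).left ⟶ Spec C),
      (Y R B n).left.toSpecΓ ≫ Spec.map ((Scheme.ΓSpecIso C).inv ≫ g.appTop) = g := fun {C} g => by
    rw [Spec.map_comp, ← Category.assoc, ← Scheme.toSpecΓ_naturality, Category.assoc, toSpecΓ_SpecMap_ΓSpecIso_inv,
      Category.comp_id]
  let r : Y R B n ⟶ Sp (Tp R B n) := Over.homMk ((Y R B n).left.toSpecΓ ≫ Spec.map (CommRingCat.ofHom ψ.toRingHom)) (by
    show ((Y R B n).left.toSpecΓ ≫ Spec.map (CommRingCat.ofHom ψ.toRingHom)) ≫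
        Spec.map (CommRingCat.ofHom (algebraMap R (Tp R B n : Type u))) = (Y R B n).hom
    rw [Category.assoc, ← Spec.map_comp]
    refine Eq.trans ?_ (hnat (Y R B n).hom)
    congr 2
    exact CommRingCat.hom_ext ψ.comp_algebraMap)
  have hr : r ≫ q R B n = 𝟙 _ := Pi.hom_ext _ _ fun k => by
    rw [Category.assoc, q_π, Category.id_comp]
    apply Over.OverMorphism.ext
    show ((Y R B n).left.toSpecΓ ≫ Spec.map (CommRingCat.ofHom ψ.toRingHom)) ≫ Spec.map (rh _) = _
    rw [Category.assoc, ← Spec.map_comp]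
    refine Eq.trans ?_ (hnat (C := CommRingCat.of B) (Pi.π (fun _ : Fin (n + 1) => X R B) k).left)
    congr 2
    exact CommRingCat.hom_ext (congrArg AlgHom.toRingHom (hψ k))
  refine ⟨r, ?_, hr⟩
  have hw : ((q R B n ≫ r).left) ≫ Spec.map (CommRingCat.ofHom (algebraMap R (Tp R B n : Type u))) =
      Spec.map (CommRingCat.ofHom (algebraMap R (Tp R B n : Type u))) := Over.w (q R B n ≫ r)
  obtain ⟨χ, hχ⟩ := Spec.map_surjective (q R B n ≫ r).left
  rw [← hχ, ← Spec.map_comp] at hw
  have hw' := congrArg CommRingCat.Hom.hom (Spec.map_injective hw)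
  let χ' : (Tp R B n : Type u) →ₐ[R] (Tp R B n : Type u) :=
    { χ.hom with commutes' := fun x => RingHom.congr_fun hw' x }
  have hid : χ' = AlgHom.id R (Tp R B n : Type u) := Amitsur.hom_ext R B n fun k => AlgHom.ext fun b => by
    have e : (q R B n ≫ r) ≫ σ (CommAlgCat.ofHom (π R B n k) : CommAlgCat.of R B ⟶ Tp R B n) =
        σ (CommAlgCat.ofHom (π R B n k) : CommAlgCat.of R B ⟶ Tp R B n) := by
      rw [← q_π, Category.assoc, reassoc_of% hr]
    have e' := congrArg Over.Hom.left e
    rw [Over.comp_left, ← hχ] at e'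
    change Spec.map χ ≫ Spec.map (rh _) = Spec.map (rh _) at e'
    rw [← Spec.map_comp] at e'
    exact RingHom.congr_fun (congrArg CommRingCat.Hom.hom (Spec.map_injective e')) b
  apply Over.OverMorphism.ext
  rw [← hχ, show χ = 𝟙 _ from CommRingCat.hom_ext (congrArg AlgHom.toRingHom hid)]
  exact Spec.map_id _

variable {R} {S : Scheme.{u}} (a : Spec R ⟶ S) (M : BigSite.Mod Scheme.fppfPrecoverage S)

/-- The presheaf on the slice. -/
noncomputable abbrev P : (Over (Spec R))ᵒᵖ ⥤ AddCommGrpCat.{u + 1} :=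
  (Over.map a).op ⋙ ((BigSite.toAbMod Scheme.fppfPrecoverage S).obj M).obj

/-- The Cech complex. -/
noncomputable abbrev cplx : CochainComplex AddCommGrpCat.{u + 1} ℕ :=
  (cechComplexFunctor (A := AddCommGrpCat.{u + 1}) (fun _ : PUnit.{u + 2} => X R B)).obj (P a M)

/-- The only component of a cochain. -/
noncomputable def proj (n : ℕ) : (cplx B a M).X n ⟶ (P a M).obj (op (Y R B n)) :=
  Pi.π (fun _ : Fin (n + 1) → PUnit.{u + 2} => (P a M).obj (op (Y R B n))) (fun _ => PUnit.unit)

lemma proj_d (n : ℕ) :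
    (cplx B a M).d n (n + 1) ≫ proj B a M (n + 1) =
      ∑ i : Fin (n + 2), (-1 : ℤ) ^ (i : ℕ) • (proj B a M n ≫ (P a M).map (face R B n i).op) := by
  have hd : (cplx B a M).d n (n + 1) = AlternatingCofaceMapComplex.objD
      ((FormalCoproduct.cosimplicialObjectFunctor (FormalCoproduct.mk _ (fun _ : PUnit.{u + 2} => X R B)).cech).obj (P a M)) n :=
    CochainComplex.of_d
      (fun n => ((FormalCoproduct.cosimplicialObjectFunctor (FormalCoproduct.mk _ (fun _ : PUnit.{u + 2} => X R B)).cech).obj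
        (P a M)).obj (SimplexCategory.mk n))
      (AlternatingCofaceMapComplex.objD _) n
  rw [hd]
  simp only [AlternatingCofaceMapComplex.objD]
  erw [Preadditive.sum_comp]
  refine Finset.sum_congr rfl fun j _ => ?_
  erw [Preadditive.zsmul_comp]
  congr 1
  dsimp [proj, CosimplicialObject.δ]
  erw [Pi.lift_π]
  rfl

lemma proj_injective (n : ℕ) : Function.Injective (proj B a M n) := fun x y h =>
  (Concrete.productEquiv (fun _ : Fin (n + 1) → PUnit.{u + 2} => (P a M).obj (op (Y R B n)))).injective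
    (funext fun i => by
      rw [Concrete.productEquiv_apply_apply, Concrete.productEquiv_apply_apply,
        show i = fun _ => PUnit.unit from funext fun _ => rfl]
      exact h)

lemma proj_surjective (n : ℕ) (b : (P a M).obj (op (Y R B n))) : ∃ x, proj B a M n x = b :=
  ⟨(Concrete.productEquiv (fun _ : Fin (n + 1) → PUnit.{u + 2} => (P a M).obj (op (Y R B n)))).symm fun _ => b,
    Concrete.productEquiv_symm_apply_π _ _ _⟩

/-- The transport of sections on a product to the tensor power. -/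
noncomputable def tr (n : ℕ) : (P a M).obj (op (Y R B n)) →+ Val ((_root_.Adeq.toMVF Scheme.fppfPrecoverage a).obj M) (Tp R B n) :=
  ((P a M).map (q R B n).op).hom

lemma tr_bijective (n : ℕ) : Function.Bijective (tr B a M n) := by
  haveI := isIso_q R B n
  exact ConcreteCategory.bijective_of_isIso ((P a M).map (q R B n).op)

lemma tr_proj_d (n : ℕ) (x : (cplx B a M).X n) :
    tr B a M (n + 1) (proj B a M (n + 1) ((cplx B a M).d n (n + 1) x)) =
      ∑ i : Fin (n + 2), (-1 : ℤ) ^ (i : ℕ) •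
        mp ((_root_.Adeq.toMVF Scheme.fppfPrecoverage a).obj M) (CommAlgCat.ofHom (δ R B n i) : Tp R B n ⟶ Tp R B (n + 1))
          (tr B a M n (proj B a M n x)) := by
  have h := ConcreteCategory.congr_hom (proj_d B a M n) x
  rw [ConcreteCategory.comp_apply] at h
  rw [h]
  have hs : ∀ {G H : AddCommGrpCat.{u + 1}} (f : Fin (n + 2) → (G ⟶ H)) (s : Finset (Fin (n + 2))) (z : G),
      (∑ j ∈ s, f j) z = ∑ j ∈ s, f j z := fun f s z => by
    induction s using Finset.induction with
    | empty => simp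
    | insert j s hj ih => simp [Finset.sum_insert hj, ← ih]
  rw [hs, map_sum]
  refine Finset.sum_congr rfl fun i _ => ?_
  refine (map_zsmul (tr B a M (n + 1)) _ _).trans ?_
  refine congrArg (HSMul.hSMul _) ?_
  show (P a M).map (q R B (n + 1)).op ((P a M).map (face R B n i).op (proj B a M n x)) =
    (P a M).map (σ (CommAlgCat.ofHom (δ R B n i) : Tp R B n ⟶ Tp R B (n + 1))).op ((P a M).map (q R B n).op (proj B a M n x))
  have hc : ∀ {U V W : Over (Spec R)} (f : U ⟶ V) (g : V ⟶ W) (z : (P a M).obj (op W)),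
      (P a M).map f.op ((P a M).map g.op z) = (P a M).map (f ≫ g).op z := fun f g z => by
    rw [op_comp, Functor.map_comp, ConcreteCategory.comp_apply]
  rw [hc, hc, σ_q]

theorem exactAt [Module.FaithfullyFlat R B] (hM : _root_.Adeq.adequateMod Scheme.fppfPrecoverage S M) (n : ℕ) (hn : 0 < n) :
    (cplx B a M).ExactAt n := by
  obtain ⟨m, rfl⟩ : ∃ m, n = m + 1 := ⟨n - 1, by omega⟩
  rw [HomologicalComplex.exactAt_iff' _ m (m + 1) (m + 2) (by simp) (by simp), ShortComplex.ab_exact_iff]
  intro x hx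
  change (cplx B a M).d (m + 1) (m + 2) x = 0 at hx
  obtain ⟨y, hy⟩ := exists_primitive (adequate_toMVF_fppf M hM R a) m (tr B a M (m + 1) (proj B a M (m + 1) x))
    (by rw [← tr_proj_d, hx, map_zero, map_zero])
  obtain ⟨y', rfl⟩ := (tr_bijective B a M m).2 y
  obtain ⟨w, rfl⟩ := proj_surjective B a M m y'
  refine ⟨w, proj_injective B a M (m + 1) ((tr_bijective B a M (m + 1)).1 ?_)⟩
  exact (tr_proj_d B a M m w).trans hy

end Groth.Agent.H54.AdeqSite.Cech
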