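import Groth.Agent.H54.AdeqSite.Local
import Mathlib.Algebra.Category.ModuleCat.Presheaf.Colimits
import Mathlib.Algebra.Category.ModuleCat.Presheaf.Limits
import Mathlib.CategoryTheory.Adjunction.Limits

/-!
# Kernels, cokernels and colimits of adequate modules
-/

universe u

open CategoryTheory CategoryTheory.Limits AlgebraicGeometry Opposite

namespace Groth.Agent.H54.AdeqSite

open Groth.Agent.H54.Adeq

variable {S : Scheme.{u}}

set_option quotPrecheck false
local notation "K" => Scheme.fppfPrecoverage
local notation "Pre" => PresheafOfModules (BigSite.ORing Scheme.fppfPrecoverage S).obj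

instance toPresheaf_reflectsIso' {A : CommRingCat.{u}} :
    (PresheafOfModules.toPresheaf.{u + 1} (_root_.Adeq.ringOf (A : Type u))).ReflectsIsomorphisms := inferInstance

lemma preservesColimit_toMVFPre {J : Type*} [Category* J] {A : CommRingCat.{u}} (a : Spec A ⟶ S) (D : J ⥤ Pre)
    [HasColimit D] [PreservesColimit D (PresheafOfModules.toPresheaf (BigSite.ORing K S).obj)]
    [HasColimitsOfShape J AddCommGrpCat.{u + 1}] [HasColimit (D ⋙ _root_.Adeq.toMVFPre K a)]
    [PreservesColimit (D ⋙ _root_.Adeq.toMVFPre K a) (PresheafOfModules.toPresheaf (_root_.Adeq.ringOf (A : Type u)))] :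
    PreservesColimit D (_root_.Adeq.toMVFPre K a) := by
  haveI : PreservesColimit D (_root_.Adeq.toMVFPre K a ⋙ PresheafOfModules.toPresheaf (_root_.Adeq.ringOf (A : Type u))) :=
    inferInstanceAs (PreservesColimit D (PresheafOfModules.toPresheaf (BigSite.ORing K S).obj ⋙
      (Functor.whiskeringLeft _ _ _).obj (_root_.Adeq.specOver a).op))
  haveI : ReflectsColimit (D ⋙ _root_.Adeq.toMVFPre K a) (PresheafOfModules.toPresheaf (_root_.Adeq.ringOf (A : Type u))) :=
    reflectsColimit_of_reflectsIsomorphisms _ _
  exact preservesColimit_of_reflects_of_preserves (_root_.Adeq.toMVFPre K a) (PresheafOfModules.toPresheaf (_root_.Adeq.ringOf (A : Type u)))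

lemma preservesLimit_toMVFPre {J : Type*} [Category* J] {A : CommRingCat.{u}} (a : Spec A ⟶ S) (D : J ⥤ Pre)
    [HasLimit D] [PreservesLimit D (PresheafOfModules.toPresheaf (BigSite.ORing K S).obj)]
    [HasLimitsOfShape J AddCommGrpCat.{u + 1}] [HasLimit (D ⋙ _root_.Adeq.toMVFPre K a)]
    [PreservesLimit (D ⋙ _root_.Adeq.toMVFPre K a) (PresheafOfModules.toPresheaf (_root_.Adeq.ringOf (A : Type u)))] :
    PreservesLimit D (_root_.Adeq.toMVFPre K a) := by
  haveI : PreservesLimit D (_root_.Adeq.toMVFPre K a ⋙ PresheafOfModules.toPresheaf (_root_.Adeq.ringOf (A : Type u))) :=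
    inferInstanceAs (PreservesLimit D (PresheafOfModules.toPresheaf (BigSite.ORing K S).obj ⋙
      (Functor.whiskeringLeft _ _ _).obj (_root_.Adeq.specOver a).op))
  haveI : ReflectsLimit (D ⋙ _root_.Adeq.toMVFPre K a) (PresheafOfModules.toPresheaf (_root_.Adeq.ringOf (A : Type u))) :=
    reflectsLimit_of_reflectsIsomorphisms _ _
  exact preservesLimit_of_reflects_of_preserves (_root_.Adeq.toMVFPre K a) (PresheafOfModules.toPresheaf (_root_.Adeq.ringOf (A : Type u)))

theorem adequateMod_kernel {M N : BigSite.Mod K S} (φ : M ⟶ N)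
    (hM : _root_.Adeq.adequateMod K S M) (hN : _root_.Adeq.adequateMod K S N) :
    _root_.Adeq.adequateMod K S (kernel φ) := by
  refine adequateMod_fppf _ fun A a => ?_
  haveI := preservesLimit_toMVFPre (J := WalkingParallelPair) a (parallelPair φ 0 ⋙ SheafOfModules.forget _)
  haveI : PreservesLimit (parallelPair φ 0) (_root_.Adeq.toMVF K a) :=
    inferInstanceAs (PreservesLimit (parallelPair φ 0) (SheafOfModules.forget _ ⋙ _root_.Adeq.toMVFPre K a))
  exact (_root_.Adeq.adequate A).prop_of_iso (PreservesKernel.iso (_root_.Adeq.toMVF K a) φ).symm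
    (Adeq.adequate_kernel _ (adequate_toMVF_fppf M hM A a) (adequate_toMVF_fppf N hN A a))

theorem adequateMod_colimit {J : Type (u + 1)} [SmallCategory J] (D : J ⥤ BigSite.Mod K S)
    (hD : ∀ j, _root_.Adeq.adequateMod K S (D.obj j)) : _root_.Adeq.adequateMod K S (colimit D) := by
  let L := PresheafOfModules.sheafification.{u + 1} (𝟙 (BigSite.ORing K S).obj)
  let adj := PresheafOfModules.sheafificationAdjunction.{u + 1} (𝟙 (BigSite.ORing K S).obj)
  let E : J ⥤ Pre := D ⋙ SheafOfModules.forget _
  haveI : L.IsLeftAdjoint := adj.isLeftAdjoint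
  haveI : IsIso adj.counit :=
    inferInstanceAs (IsIso (PresheafOfModules.sheafificationAdjunction.{u + 1} (𝟙 (BigSite.ORing K S).obj)).counit)
  have h := adequateMod_sheafification (colimit E) fun A a => by
    haveI := preservesColimit_toMVFPre a E
    exact (_root_.Adeq.adequate A).prop_of_iso (preservesColimitIso (_root_.Adeq.toMVFPre K a) E).symm
      (Adeq.adequate_colimit _ fun j => adequate_toMVF_fppf (D.obj j) (hD j) A a)
  exact (_root_.Adeq.adequateMod K S).prop_of_iso
    (preservesColimitIso L E ≪≫ HasColimit.isoOfNatIso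
      (NatIso.ofComponents (fun j => (asIso adj.counit).app (D.obj j)) fun f => adj.counit.naturality (D.map f))) h

theorem adequateMod_cokernel {M N : BigSite.Mod K S} (φ : M ⟶ N)
    (hM : _root_.Adeq.adequateMod K S M) (hN : _root_.Adeq.adequateMod K S N) :
    _root_.Adeq.adequateMod K S (cokernel φ) := by
  let L := PresheafOfModules.sheafification.{u + 1} (𝟙 (BigSite.ORing K S).obj)
  let adj := PresheafOfModules.sheafificationAdjunction.{u + 1} (𝟙 (BigSite.ORing K S).obj)
  haveI : L.IsLeftAdjoint := adj.isLeftAdjoint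
  haveI : IsIso adj.counit :=
    inferInstanceAs (IsIso (PresheafOfModules.sheafificationAdjunction.{u + 1} (𝟙 (BigSite.ORing K S).obj)).counit)
  haveI : L.PreservesZeroMorphisms := inferInstance
  have h := adequateMod_sheafification (cokernel φ.val) fun A a => by
    haveI := preservesColimit_toMVFPre (J := WalkingParallelPair) a (parallelPair φ.val 0)
    exact (_root_.Adeq.adequate A).prop_of_iso (PreservesCokernel.iso (_root_.Adeq.toMVFPre K a) φ.val).symm
      (Adeq.adequate_cokernel _ (covered_of_adequate (adequate_toMVF_fppf M hM A a)) (adequate_toMVF_fppf N hN A a))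
  exact (_root_.Adeq.adequateMod K S).prop_of_iso
    (PreservesCokernel.iso L φ.val ≪≫
      cokernel.mapIso (L.map φ.val) φ ((asIso adj.counit).app M) ((asIso adj.counit).app N)
        (adj.counit.naturality φ)) h

end Groth.Agent.H54.AdeqSite
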