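import Groth.Agent.H54.Adeq.Basic
import Mathlib.RingTheory.Flat.Basic
import Mathlib.RingTheory.RingHom.Flat
import Mathlib.RingTheory.Spectrum.Prime.Basic
import Mathlib.LinearAlgebra.TensorProduct.Tower
import Mathlib.LinearAlgebra.TensorProduct.Pi

/-!
# Adequate functors satisfy descent along flat jointly surjective finite families
-/

universe v u

open CategoryTheory TensorProduct

namespace Groth.Agent.H54.AdeqSite

section Algebra

variable {B : Type u} [CommRing B] {ι : Type} (C : ι → Type u) [∀ k, CommRing (C k)] [∀ k, Algebra B (C k)]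

variable (B) in
/-- The family is flat and jointly surjective on spectra. -/
structure JointFF : Prop where
  flat : ∀ k, Module.Flat B (C k)
  surj : ∀ p : PrimeSpectrum B, ∃ k, p ∈ Set.range (PrimeSpectrum.comap (algebraMap B (C k)))

variable {C}

lemma JointFF.eq_zero (hC : JointFF B C) {Q : Type v} [AddCommGroup Q] [Module B Q] (q : Q)
    (h : ∀ k, (1 : C k) ⊗ₜ[B] q = 0) : q = 0 := by
  let I : Ideal B := LinearMap.ker (LinearMap.toSpanSingleton B Q q)
  by_contra hq
  have hI : I ≠ ⊤ := fun e => hq (by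
    have h1 : (1 : B) • q = 0 := (e ▸ Submodule.mem_top : (1 : B) ∈ I)
    rwa [one_smul] at h1)
  obtain ⟨m, hm, hIm⟩ := I.exists_le_maximal hI
  obtain ⟨k, P, hP⟩ := hC.surj ⟨m, hm.isPrime⟩
  haveI := hC.flat k
  let j : (B ⧸ I) →ₗ[B] Q := I.liftQ (LinearMap.toSpanSingleton B Q q) le_rfl
  have hj : Function.Injective j := LinearMap.ker_eq_bot.mp (Submodule.ker_liftQ_eq_bot _ _ _ le_rfl)
  have h0 : (1 : C k) ⊗ₜ[B] (Submodule.Quotient.mk (1 : B) : B ⧸ I) = 0 := by
    apply Module.Flat.lTensor_preserves_injective_linearMap j hj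
    rw [LinearMap.lTensor_tmul, map_zero]
    show (1 : C k) ⊗ₜ[B] ((1 : B) • q) = 0
    rw [one_smul]
    exact h k
  let ψ : (B ⧸ I) →ₗ[B] (C k ⧸ P.asIdeal) := I.liftQ (Algebra.linearMap B (C k ⧸ P.asIdeal)) fun b hb => by
    rw [LinearMap.mem_ker, Algebra.linearMap_apply, ← Ideal.Quotient.mk_algebraMap, Ideal.Quotient.eq_zero_iff_mem]
    have : b ∈ m := hIm hb
    rw [show m = P.asIdeal.comap (algebraMap B (C k)) from congrArg PrimeSpectrum.asIdeal hP.symm] at this
    exact this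
  have h1 := congrArg (LinearMap.liftBaseChange (C k) ψ) h0
  rw [LinearMap.liftBaseChange_tmul, one_smul, map_zero] at h1
  change algebraMap B (C k ⧸ P.asIdeal) 1 = 0 at h1
  rw [map_one] at h1
  exact one_ne_zero h1

variable {A : Type u} [CommRing A] [Algebra A B] [∀ k, Algebra A (C k)] [∀ k, IsScalarTower A B (C k)]
  {M : Type v} [AddCommGroup M] [Module A M]

lemma JointFF.eq_zero_rTensor (hC : JointFF B C) (m : B ⊗[A] M)
    (h : ∀ k, (IsScalarTower.toAlgHom A B (C k)).toLinearMap.rTensor M m = 0) : m = 0 := by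
  refine hC.eq_zero m fun k => ?_
  apply (AlgebraTensorModule.cancelBaseChange A B B (C k) M).injective
  rw [map_zero, ← h k]
  clear h
  induction m with
  | zero => simp
  | tmul b x => simp [Algebra.smul_def]
  | add x y hx hy => rw [TensorProduct.tmul_add, map_add, map_add, hx, hy]

lemma JointFF.exists_glue [Fintype ι] (hC : JointFF B C) (z : ∀ k, C k ⊗[A] M)
    (hz : ∀ k l, ((Algebra.TensorProduct.includeRight : C k →ₐ[B] C l ⊗[B] C k).restrictScalars A).toLinearMap.rTensor M (z k) =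
      ((Algebra.TensorProduct.includeLeft : C l →ₐ[B] C l ⊗[B] C k).restrictScalars A).toLinearMap.rTensor M (z l)) :
    ∃ m : B ⊗[A] M, ∀ k, (IsScalarTower.toAlgHom A B (C k)).toLinearMap.rTensor M m = z k := by
  classical
  let φ : B ⊗[A] M →ₗ[B] ∀ k, C k ⊗[A] M :=
    LinearMap.pi fun k => AlgebraTensorModule.map (Algebra.linearMap B (C k)) (LinearMap.id (R := A) (M := M))
  have hφ : ∀ m k, φ m k = (IsScalarTower.toAlgHom A B (C k)).toLinearMap.rTensor M m := fun m k => by
    induction m with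
    | zero => simp
    | tmul b x => rfl
    | add x y hx hy => rw [map_add, map_add, Pi.add_apply, hx, hy]
  suffices hz0 : z ∈ LinearMap.range φ by
    obtain ⟨m, rfl⟩ := hz0
    exact ⟨m, fun k => (hφ m k).symm⟩
  rw [← Submodule.Quotient.mk_eq_zero]
  refine hC.eq_zero _ fun l => ?_
  let g : ∀ k, C k ⊗[A] M →ₗ[B] (∀ k, C k ⊗[A] M) ⧸ LinearMap.range φ := fun k =>
    (LinearMap.range φ).mkQ ∘ₗ LinearMap.single B (fun k => C k ⊗[A] M) k
  let Θ : ∀ k, (C l ⊗[B] C k) ⊗[A] M →ₗ[B] C l ⊗[B] ((∀ k, C k ⊗[A] M) ⧸ LinearMap.range φ) := fun k =>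
    (g k).lTensor (C l) ∘ₗ (AlgebraTensorModule.assoc A B B (C l) (C k) M).toLinearMap
  have h1 : ∀ k, (1 : C l) ⊗ₜ[B] g k (z k) =
      Θ k (((Algebra.TensorProduct.includeRight : C k →ₐ[B] C l ⊗[B] C k).restrictScalars A).toLinearMap.rTensor M (z k)) := by
    intro k
    generalize z k = w
    induction w with
    | zero => simp
    | tmul c x => rfl
    | add x y hx hy => rw [map_add, TensorProduct.tmul_add, map_add, map_add, hx, hy]
  have h2 : ∀ w : C l ⊗[A] M, ∑ k,
      Θ k (((Algebra.TensorProduct.includeLeft : C l →ₐ[B] C l ⊗[B] C k).restrictScalars A).toLinearMap.rTensor M w) = 0 := by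
    intro w
    induction w with
    | zero => simp
    | tmul c x =>
      show ∑ k, c ⊗ₜ[B] g k ((1 : C k) ⊗ₜ[A] x) = 0
      rw [← TensorProduct.tmul_sum]
      show c ⊗ₜ[B] ∑ k, (LinearMap.range φ).mkQ (Pi.single k ((1 : C k) ⊗ₜ[A] x)) = 0
      rw [← map_sum, Finset.univ_sum_single (fun k => (1 : C k) ⊗ₜ[A] x),
        (Submodule.Quotient.mk_eq_zero _).2 ⟨(1 : B) ⊗ₜ[A] x, funext fun k => by
          show algebraMap B (C k) 1 ⊗ₜ[A] x = (1 : C k) ⊗ₜ[A] x
          rw [map_one]⟩ |> (fun e => (show (LinearMap.range φ).mkQ (fun k => (1 : C k) ⊗ₜ[A] x) = 0 from e)),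
        TensorProduct.tmul_zero]
    | add x y hx hy => simp only [map_add, Finset.sum_add_distrib, hx, hy, add_zero]
  have h3 : (Submodule.Quotient.mk z : (∀ k, C k ⊗[A] M) ⧸ LinearMap.range φ) = ∑ k, g k (z k) := by
    show (LinearMap.range φ).mkQ z = ∑ k, (LinearMap.range φ).mkQ (Pi.single k (z k))
    rw [← map_sum, Finset.univ_sum_single]
  rw [h3, TensorProduct.tmul_sum]
  simp only [h1, hz]
  exact h2 (z l)

end Algebra

section Functor

open Groth.Agent.H54.Adeq

variable {A : Type u} [CommRing A] {B : _root_.Adeq.Alg A} {n : ℕ} {C : Fin n → _root_.Adeq.Alg A} (f : ∀ k, B ⟶ C k)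

/-- A flat jointly surjective family of maps of algebras. -/
structure FlatCover : Prop where
  flat : ∀ k, (f k).hom.toRingHom.Flat
  surj : ∀ p : PrimeSpectrum (B : Type u), ∃ k, p ∈ Set.range (PrimeSpectrum.comap (f k).hom.toRingHom)

variable {f} {F : _root_.Adeq.MVF A}

lemma FlatCover.eq_zero (hf : FlatCover f) (hF : _root_.Adeq.adequate A F) (x : Val F B)
    (h : ∀ k, mp F (f k) x = 0) : x = 0 := by
  obtain ⟨M, N, g, ι, hι⟩ := exists_isKer hF
  letI : ∀ k, Algebra (B : Type u) (C k : Type u) := fun k => (f k).hom.toRingHom.toAlgebra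
  haveI : ∀ k, IsScalarTower A (B : Type u) (C k : Type u) := fun k => IsScalarTower.of_algHom (f k).hom
  have hC : JointFF (B : Type u) (fun k => (C k : Type u)) := ⟨hf.flat, hf.surj⟩
  refine hι.inj B ?_
  rw [map_zero]
  refine hC.eq_zero_rTensor (A := A) (M := M) _ fun k => ?_
  show mp (U M) (f k) (ap ι B x) = 0
  rw [← ap_mp, h k, map_zero]

lemma FlatCover.exists_glue (hf : FlatCover f) (hF : _root_.Adeq.adequate A F) (y : ∀ k, Val F (C k))
    (hy : ∀ k l (D : _root_.Adeq.Alg A) (α : C k ⟶ D) (β : C l ⟶ D), f k ≫ α = f l ≫ β → mp F α (y k) = mp F β (y l)) :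
    ∃ x, ∀ k, mp F (f k) x = y k := by
  obtain ⟨M, N, g, ι, hι⟩ := exists_isKer hF
  letI : ∀ k, Algebra (B : Type u) (C k : Type u) := fun k => (f k).hom.toRingHom.toAlgebra
  haveI : ∀ k, IsScalarTower A (B : Type u) (C k : Type u) := fun k => IsScalarTower.of_algHom (f k).hom
  have hC : JointFF (B : Type u) (fun k => (C k : Type u)) := ⟨hf.flat, hf.surj⟩
  let D : Fin n → Fin n → _root_.Adeq.Alg A := fun k l => CommAlgCat.of A ((C l : Type u) ⊗[(B : Type u)] (C k : Type u))
  let α : ∀ k l, C k ⟶ D k l := fun k l => CommAlgCat.ofHom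
    ((Algebra.TensorProduct.includeRight :
      (C k : Type u) →ₐ[(B : Type u)] (C l : Type u) ⊗[(B : Type u)] (C k : Type u)).restrictScalars A)
  let β : ∀ k l, C l ⟶ D k l := fun k l => CommAlgCat.ofHom
    ((Algebra.TensorProduct.includeLeft :
      (C l : Type u) →ₐ[(B : Type u)] (C l : Type u) ⊗[(B : Type u)] (C k : Type u)).restrictScalars A)
  have hαβ : ∀ k l, f k ≫ α k l = f l ≫ β k l := fun k l => CommAlgCat.hom_ext (DFunLike.ext _ _ fun b =>
    ((Algebra.TensorProduct.includeRight : (C k : Type u) →ₐ[(B : Type u)] (C l : Type u) ⊗[(B : Type u)] (C k : Type u)).commutes b).trans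
    ((Algebra.TensorProduct.includeLeft : (C l : Type u) →ₐ[(B : Type u)] (C l : Type u) ⊗[(B : Type u)] (C k : Type u)).commutes b).symm)
  obtain ⟨m, hm⟩ := hC.exists_glue (A := A) (M := M) (fun k => (ap ι (C k) (y k) : (C k : Type u) ⊗[A] M)) fun k l => by
    show mp (U M) (α k l) (ap ι (C k) (y k)) = mp (U M) (β k l) (ap ι (C l) (y l))
    rw [← ap_mp, ← ap_mp, hy k l (D k l) (α k l) (β k l) (hαβ k l)]
  have hm' : ∀ k, mp (U M) (f k) m = ap ι (C k) (y k) := hm
  have hgm : ap (Um g) B (m : Val (U M) B) = 0 := by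
    refine hC.eq_zero_rTensor (A := A) (M := N) _ fun k => ?_
    show mp (U N) (f k) (ap (Um g) B (m : Val (U M) B)) = 0
    rw [← ap_mp, hm' k]
    exact (hι.exact (C k)).apply_apply_eq_zero _
  obtain ⟨x, hx⟩ := (hι.exact B m).1 hgm
  exact ⟨x, fun k => hι.inj (C k) (by rw [ap_mp, hx, hm' k])⟩

end Functor

end Groth.Agent.H54.AdeqSite
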