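import Groth.Agent.H54.AdeqSite.Parasitic
import Groth.Agent.Lib.AlgSpGabber.OverSheaf
import Mathlib.AlgebraicGeometry.Sites.Fpqc
import Mathlib.AlgebraicGeometry.Sites.SheafQuasiCompact
import Mathlib.AlgebraicGeometry.EffectiveEpi

/-!
# Adequate modules are fpqc sheaves
-/

universe u

open CategoryTheory CategoryTheory.Limits AlgebraicGeometry Opposite TensorProduct

namespace Groth.Agent.H54.AdeqSite

open Groth.Agent.H54.Adeq
open Groth.Agent.Lib.AlgSpGabber

/-- Adequate functors satisfy descent along a faithfully flat algebra. -/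
theorem descent_of_adequate {A : Type u} [CommRing A] {F : _root_.Adeq.MVF A} (hF : _root_.Adeq.adequate A F)
    (B : Type u) [CommRing B] [Algebra A B] [Module.FaithfullyFlat A B] :
    Function.Injective (mp F (CommAlgCat.ofHom (Algebra.ofId A B) : _root_.Adeq.algOf A A ⟶ _root_.Adeq.algOf A B)) ∧
      ∀ y, mp F (CommAlgCat.ofHom
            (Algebra.TensorProduct.includeLeft : B →ₐ[A] B ⊗[A] B) : _root_.Adeq.algOf A B ⟶ _root_.Adeq.algOf A (B ⊗[A] B)) y =
          mp F (CommAlgCat.ofHom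
            (Algebra.TensorProduct.includeRight : B →ₐ[A] B ⊗[A] B) : _root_.Adeq.algOf A B ⟶ _root_.Adeq.algOf A (B ⊗[A] B)) y →
        y ∈ Set.range (mp F (CommAlgCat.ofHom (Algebra.ofId A B) : _root_.Adeq.algOf A A ⟶ _root_.Adeq.algOf A B)) := by
  let f : Fin 1 → ((_root_.Adeq.algOf A A) ⟶ _root_.Adeq.algOf A B) := fun _ => CommAlgCat.ofHom (Algebra.ofId A B)
  have hf : FlatCover f :=
    ⟨fun _ => RingHom.flat_algebraMap_iff.2 (inferInstanceAs (Module.Flat A B)),
      fun p => ⟨0, PrimeSpectrum.comap_surjective_of_faithfullyFlat (A := A) (B := B) p⟩⟩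
  refine ⟨(injective_iff_map_eq_zero _).2 fun x hx => hf.eq_zero hF x fun _ => hx, fun y hy => ?_⟩
  obtain ⟨x, hx⟩ := hf.exists_glue hF (fun _ => y) fun k l D α β e => by
    let h : _root_.Adeq.algOf A (B ⊗[A] B) ⟶ D := CommAlgCat.ofHom (Algebra.TensorProduct.productMap α.hom β.hom)
    have hl : (CommAlgCat.ofHom (Algebra.TensorProduct.includeLeft : B →ₐ[A] B ⊗[A] B) :
        _root_.Adeq.algOf A B ⟶ _root_.Adeq.algOf A (B ⊗[A] B)) ≫ h = α :=
      CommAlgCat.hom_ext (Algebra.TensorProduct.productMap_left α.hom β.hom)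
    have hr : (CommAlgCat.ofHom (Algebra.TensorProduct.includeRight : B →ₐ[A] B ⊗[A] B) :
        _root_.Adeq.algOf A B ⟶ _root_.Adeq.algOf A (B ⊗[A] B)) ≫ h = β :=
      CommAlgCat.hom_ext (Algebra.TensorProduct.productMap_right α.hom β.hom)
    rw [← hl, ← hr, mp_comp, mp_comp, hy]
  exact ⟨x, hx 0⟩

variable {K : Precoverage Scheme.{u}} [BigSite.OSh K] {S : Scheme.{u}}

/-- A module which is a Zariski sheaf with adequate functors is an fpqc sheaf. -/
theorem isSheaf_fpqc (M : BigSite.Mod K S)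
    (hzar : Presieve.IsSheaf (Scheme.zariskiTopology.over S) (M.val.presheaf ⋙ CategoryTheory.forget AddCommGrpCat.{u + 1}))
    (had : ∀ (A : CommRingCat.{u}) (a : Spec A ⟶ S), _root_.Adeq.adequate A ((_root_.Adeq.toMVF K a).obj M)) :
    Presheaf.IsSheaf (QuotSh.J Scheme.fpqcPrecoverage S) M.val.presheaf := by
  rw [Presheaf.isSheaf_iff_isSheaf_forget _ _ (CategoryTheory.forget AddCommGrpCat.{u + 1}), isSheaf_iff_isSheaf_of_type]
  let F := M.val.presheaf ⋙ CategoryTheory.forget AddCommGrpCat.{u + 1}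
  show Presieve.IsSheaf (Scheme.fpqcTopology.over S) F
  refine OverSheaf.isSheaf_over_of_total _ _
    (GrothendieckTopology.Subcanonical.isSheaf_of_isRepresentable _) ?_
  rw [Scheme.fpqcTopology_eq_propQCTopology, isSheaf_type_propQCTopology_iff]
  refine ⟨OverSheaf.isSheaf_total _ _ (GrothendieckTopology.Subcanonical.isSheaf_of_isRepresentable _) hzar,
    fun {R R'} f hf hs => ?_⟩
  rw [Presieve.isSheafFor_singleton]
  intro p hp
  obtain ⟨t, x⟩ := p
  haveI : Flat (Spec.map f) := hf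
  haveI : Surjective (Spec.map f) := hs
  have : IsRegularEpi (Spec.map f) := isRegularEpi_of_flat_of_surjective_of_isAffine _
  have ht : ∀ {Z : Scheme.{u}} (g₁ g₂ : Z ⟶ Spec R'), g₁ ≫ Spec.map f = g₂ ≫ Spec.map f →
      g₁ ≫ t = g₂ ≫ t := fun g₁ g₂ h => congrArg Sigma.fst (hp g₁ g₂ h)
  let b : Spec R ⟶ S := EffectiveEpi.desc (Spec.map f) t fun g₁ g₂ h => ht g₁ g₂ h
  have hb : Spec.map f ≫ b = t := EffectiveEpi.fac _ _ _
  have key : ∀ {Z : Scheme.{u}} (p q : Σ g : Z ⟶ S, F.obj (op (Over.mk g))), p = q →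
      ∀ (A' : Over S) (a : A' ⟶ Over.mk p.1) (b : A' ⟶ Over.mk q.1), a.left = b.left →
      F.map a.op p.2 = F.map b.op q.2 := by
    rintro Z p _ rfl A' a b hab
    exact OverSheaf.map_eq_of_left _ _ _ hab _
  letI : Algebra (R : Type u) (R' : Type u) := f.hom.toAlgebra
  haveI : Module.FaithfullyFlat (R : Type u) (R' : Type u) := (flat_and_surjective_SpecMap_iff f).1 ⟨hf, hs⟩
  obtain ⟨hinj, hglue⟩ := descent_of_adequate (had R b) (R' : Type u)
  let T' : Over S := (_root_.Adeq.specOver b).obj (op (_root_.Adeq.algOf R R'))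
  let T : Over S := (_root_.Adeq.specOver b).obj (op (_root_.Adeq.algOf R R))
  let φ : _root_.Adeq.algOf R R ⟶ _root_.Adeq.algOf R R' := CommAlgCat.ofHom (Algebra.ofId R R')
  let e' : T' ⟶ Over.mk t := Over.homMk (𝟙 _) ((Category.id_comp t).trans hb.symm)
  let y : Val ((_root_.Adeq.toMVF K b).obj M) (_root_.Adeq.algOf R R') := F.map e'.op x
  have hT : Spec.map (CommRingCat.ofHom (algebraMap (R : Type u) (R : Type u))) ≫ b = b := by
    rw [Algebra.algebraMap_self, CommRingCat.ofHom_id, Spec.map_id, Category.id_comp]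
  let eT : T ⟶ Over.mk b := Over.homMk (𝟙 _) ((Category.id_comp b).trans hT.symm)
  let eT' : Over.mk b ⟶ T := Over.homMk (𝟙 _) ((Category.id_comp _).trans hT)
  obtain ⟨x₀, hx₀⟩ := hglue y (by
    let il : _root_.Adeq.algOf R R' ⟶ _root_.Adeq.algOf R ((R' : Type u) ⊗[R] (R' : Type u)) :=
      CommAlgCat.ofHom (Algebra.TensorProduct.includeLeft : (R' : Type u) →ₐ[R] (R' : Type u) ⊗[R] (R' : Type u))
    let ir : _root_.Adeq.algOf R R' ⟶ _root_.Adeq.algOf R ((R' : Type u) ⊗[R] (R' : Type u)) :=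
      CommAlgCat.ofHom (Algebra.TensorProduct.includeRight : (R' : Type u) →ₐ[R] (R' : Type u) ⊗[R] (R' : Type u))
    let T'' : Over S := (_root_.Adeq.specOver b).obj (op (_root_.Adeq.algOf R ((R' : Type u) ⊗[R] (R' : Type u))))
    let g₁ : T'' ⟶ Over.mk t := (_root_.Adeq.specOver b).map il.op ≫ e'
    let g₂ : T'' ⟶ Over.mk t := (_root_.Adeq.specOver b).map ir.op ≫ e'
    show F.map ((_root_.Adeq.specOver b).map il.op).op (F.map e'.op x) =
      F.map ((_root_.Adeq.specOver b).map ir.op).op (F.map e'.op x)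
    rw [← Functor.map_comp_apply, ← op_comp, ← Functor.map_comp_apply, ← op_comp]
    have hl : g₁.left ≫ Spec.map f = g₂.left ≫ Spec.map f := by
      show (Spec.map (rh il) ≫ 𝟙 _) ≫ Spec.map f = (Spec.map (rh ir) ≫ 𝟙 _) ≫ Spec.map f
      rw [Category.comp_id, Category.comp_id, ← Spec.map_comp, ← Spec.map_comp]
      congr 1
      ext r
      exact ((Algebra.TensorProduct.includeLeft : (R' : Type u) →ₐ[R] (R' : Type u) ⊗[R] (R' : Type u)).commutes r).trans
        ((Algebra.TensorProduct.includeRight : (R' : Type u) →ₐ[R] (R' : Type u) ⊗[R] (R' : Type u)).commutes r).symm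
    have h := key _ _ (hp g₁.left g₂.left hl) T'' (Over.homMk (𝟙 _) ((Category.id_comp _).trans (Over.w g₁)))
      (Over.homMk (𝟙 _) ((Category.id_comp _).trans (Over.w g₂))) rfl
    dsimp only [OverSheaf.total_map] at h
    have hc : ∀ {X Y Z : Over S} (a : X ⟶ Y) (r : Y ⟶ Z) (w : F.obj (op Z)),
        F.map a.op (F.map r.op w) = F.map (a ≫ r).op w := fun a r w => (Functor.map_comp_apply F r.op a.op w).symm
    refine (OverSheaf.map_eq_of_left _ _ _ ?_ _).trans
      ((((hc _ _ x).symm.trans h).trans (hc _ _ x)).trans (OverSheaf.map_eq_of_left _ _ _ ?_ _))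
    · exact (Category.id_comp _).symm
    · exact Category.id_comp _)
  refine ⟨⟨b, F.map eT'.op x₀⟩, ?_, ?_⟩
  · change (OverSheaf.total F).map (Spec.map f).op ⟨b, F.map eT'.op x₀⟩ = ⟨t, x⟩
    rw [OverSheaf.total_map]
    refine OverSheaf.mk_ext _ hb fun r hr => ?_
    dsimp only
    let e'' : Over.mk t ⟶ T' := Over.homMk (𝟙 _) ((Category.id_comp _).trans hb)
    have hx : F.map e''.op y = x := by
      show F.map e''.op (F.map e'.op x) = x
      rw [← Functor.map_comp_apply, ← op_comp, show e'' ≫ e' = 𝟙 _ from Over.OverMorphism.ext (Category.id_comp _)]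
      exact Functor.map_id_apply _ _ _
    rw [← hx, ← hx₀]
    show _ = F.map e''.op (F.map ((_root_.Adeq.specOver b).map φ.op).op x₀)
    rw [← Functor.map_comp_apply, ← op_comp, ← Functor.map_comp_apply, ← op_comp, ← Functor.map_comp_apply, ← op_comp]
    refine OverSheaf.map_eq_of_left _ _ _ ?_ _
    simp only [Over.comp_left, hr]
    show (𝟙 _ ≫ Spec.map f) ≫ 𝟙 _ = 𝟙 _ ≫ Spec.map (rh φ)
    rw [Category.id_comp, Category.comp_id, Category.id_comp]
    rfl
  · rintro ⟨b', z⟩ hz
    change (OverSheaf.total F).map (Spec.map f).op ⟨b', z⟩ = ⟨t, x⟩ at hz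
    rw [OverSheaf.total_map] at hz
    obtain rfl : b' = b := (cancel_epi (Spec.map f)).1 ((congrArg Sigma.fst hz).trans hb.symm)
    congr 1
    have : F.map eT.op z = x₀ := by
      apply hinj
      rw [hx₀]
      show F.map ((_root_.Adeq.specOver b).map φ.op).op (F.map eT.op z) = F.map e'.op x
      rw [← Functor.map_comp_apply, ← op_comp]
      have h := key _ _ hz T' (Over.homMk (𝟙 _) (Category.id_comp _)) e' rfl
      dsimp only at h
      rw [← Functor.map_comp_apply, ← op_comp] at h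
      refine (OverSheaf.map_eq_of_left _ _ _ ?_ _).trans h
      show Spec.map (rh φ) ≫ 𝟙 _ = 𝟙 _ ≫ Spec.map f
      rw [Category.id_comp, Category.comp_id]
      rfl
    rw [← this, ← Functor.map_comp_apply, ← op_comp,
      show eT' ≫ eT = 𝟙 _ from Over.OverMorphism.ext (Category.id_comp _)]
    show z = F.map (𝟙 (op (Over.mk _))) z
    exact (Functor.map_id_apply F _ z).symm

theorem isSheaf_fpqc_fppf {S : Scheme.{u}} (M : BigSite.Mod Scheme.fppfPrecoverage S)
    (hM : _root_.Adeq.adequateMod Scheme.fppfPrecoverage S M) :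
    Presheaf.IsSheaf (QuotSh.J Scheme.fpqcPrecoverage S) ((BigSite.toAbMod Scheme.fppfPrecoverage S).obj M).obj := by
  refine isSheaf_fpqc M ?_ fun A a => adequate_toMVF_fppf M hM A a
  refine Presieve.isSheaf_of_le _ (fun A R hR => ?_)
    ((isSheaf_iff_isSheaf_of_type _ _).1
      ((Presheaf.isSheaf_iff_isSheaf_forget _ M.val.presheaf (CategoryTheory.forget AddCommGrpCat.{u + 1})).1 M.isSheaf))
  rw [GrothendieckTopology.mem_over_iff] at hR ⊢
  exact Precoverage.toGrothendieck_mono Scheme.zariskiPrecoverage_le_fppfPrecoverage _ hR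

theorem isSheaf_fpqc_zariski {S : Scheme.{u}} (M : BigSite.Mod Scheme.zariskiPrecoverage S)
    (hM : _root_.Adeq.adequateMod Scheme.zariskiPrecoverage S M) :
    Presheaf.IsSheaf (QuotSh.J Scheme.fpqcPrecoverage S) ((BigSite.toAbMod Scheme.zariskiPrecoverage S).obj M).obj :=
  isSheaf_fpqc M ((isSheaf_iff_isSheaf_of_type _ _).1
      ((Presheaf.isSheaf_iff_isSheaf_forget _ M.val.presheaf (CategoryTheory.forget AddCommGrpCat.{u + 1})).1 M.isSheaf))
    fun A a => adequate_toMVF_zariski M hM A a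

end Groth.Agent.H54.AdeqSite
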