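import Groth.Agent.H54.AdeqSite.Cartan
import Mathlib.Algebra.Category.ModuleCat.Presheaf.Free
import Mathlib.Algebra.Category.ModuleCat.Presheaf.Sheafification
import Mathlib.LinearAlgebra.Finsupp.LSum

/-!
# Injective modules on big sites: restrictions and Amitsur complexes
-/

universe u

open CategoryTheory CategoryTheory.Limits AlgebraicGeometry Opposite

namespace Groth.Agent.H54.AdeqSite.FreeInj

open Groth.Agent.Lib.CechPsh AmitCx

variable {S : Scheme.{u}}

/-- The sheaf of rings, as a presheaf. -/
noncomputable abbrev OR (S : Scheme.{u}) : (Over S)ᵒᵖ ⥤ RingCat.{u + 1} :=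
  (BigSite.ORing Scheme.fppfPrecoverage S).obj

lemma injective_val (I : BigSite.Mod Scheme.fppfPrecoverage S) [Injective I] : Injective I.val :=
  (PresheafOfModules.sheafificationAdjunction.{u + 1} (𝟙 (BigSite.ORing Scheme.fppfPrecoverage S).obj)).map_injective
    I inferInstance

section Restriction

/-- The presheaf of maps to an object. -/
noncomputable def yon (U : Over S) : (Over S)ᵒᵖ ⥤ Type (u + 1) := yoneda.obj U ⋙ uliftFunctor.{u + 1}

/-- Sections of an injective module extend along monomorphisms. -/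
theorem surjective_restriction (I : BigSite.Mod Scheme.fppfPrecoverage S) [Injective I] {V U : Over S} (i : V ⟶ U)
    [Mono i] : Function.Surjective (I.val.presheaf.map i.op) := by
  intro x
  haveI := injective_val I
  let φ : yon V ⟶ yon U := Functor.whiskerRight (yoneda.map i) _
  haveI : Mono ((PresheafOfModules.free (OR S)).map φ) := PresheafOfModules.mono_of_injective fun W =>
    Finsupp.mapDomain_injective fun a b h => by
      have h' := congrArg ULift.down h
      exact ULift.ext _ _ ((cancel_mono i).1 h')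
  let g₀ : yon V ⟶ I.val.presheaf ⋙ CategoryTheory.forget _ :=
    { app := fun W => ↾fun h => I.val.presheaf.map h.down.op x
      naturality := fun W W' g => by
        ext h
        show I.val.presheaf.map (g.unop ≫ h.down).op x = I.val.presheaf.map g (I.val.presheaf.map h.down.op x)
        rw [op_comp, Functor.map_comp, ConcreteCategory.comp_apply]
        rfl }
  let g : (PresheafOfModules.free (OR S)).obj (yon V) ⟶ I.val := PresheafOfModules.freeObjDesc g₀
  let e := Injective.factorThru g ((PresheafOfModules.free (OR S)).map φ)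
  have he : (PresheafOfModules.free (OR S)).map φ ≫ e = g := Injective.comp_factorThru g _
  refine ⟨(e.app (op U)).hom (ModuleCat.freeMk (⟨𝟙 U⟩ : (yon U).obj (op U))), ?_⟩
  have h := congrArg (fun k => (PresheafOfModules.Hom.app k (op V)).hom (ModuleCat.freeMk (⟨𝟙 V⟩ : (yon V).obj (op V)))) he
  change (e.app (op V)).hom ((ModuleCat.free _).map (φ.app (op V)) (ModuleCat.freeMk (⟨𝟙 V⟩ : (yon V).obj (op V)))) =
    (ModuleCat.freeDesc (g₀.app (op V))) (ModuleCat.freeMk (⟨𝟙 V⟩ : (yon V).obj (op V))) at h
  rw [ModuleCat.free_map_apply, ModuleCat.freeDesc_apply] at h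
  refine ((PresheafOfModules.naturality_apply e i.op _).symm.trans ?_).trans (h.trans ?_)
  · refine congrArg (e.app (op V)).hom ?_
    show ModuleCat.freeDesc _ (ModuleCat.freeMk (⟨𝟙 U⟩ : (yon U).obj (op U))) = _
    rw [ModuleCat.freeDesc_apply]
    refine congrArg ModuleCat.freeMk ?_
    show (⟨i ≫ 𝟙 U⟩ : ULift.{u + 1} (V ⟶ U)) = ⟨𝟙 V ≫ i⟩
    rw [Category.comp_id, Category.id_comp]
  · show I.val.presheaf.map (𝟙 V).op x = x
    exact ConcreteCategory.congr_hom (I.val.presheaf.map_id (op V)) x

end Restriction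

variable {R : CommRingCat.{u}} (B : Type u) [CommRing B] [Algebra R B] (a : Spec R ⟶ S)

/-- The presheaf of simplices. -/
noncomputable def simp' (n : ℕ) : (Over S)ᵒᵖ ⥤ Type (u + 1) where
  obj V := Nerve.T.{u + 1, u, u + 1} (cov B a) (Fin (n + 1)) V.unop
  map g := ↾fun t => Nerve.res g.unop t
  map_id V := by
    ext t
    exact Nerve.res_id t
  map_comp g h := by
    ext t
    exact Nerve.res_comp g.unop h.unop t

/-- The free presheaf of modules on simplices. -/
noncomputable abbrev FK (n : ℕ) : PresheafOfModules.{u + 1} (OR S) :=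
  (PresheafOfModules.free (OR S)).obj (simp' B a n)

/-- The simplicial presheaf of sets. -/
noncomputable def simplicialSets : SimplicialObject ((Over S)ᵒᵖ ⥤ Type (u + 1)) where
  obj Δ := simp' B a Δ.unop.len
  map f := { app := fun V => ↾fun t => Nerve.reindex f.unop.toOrderHom t }

/-- The simplicial free presheaf of modules. -/
noncomputable def simplicialFree : SimplicialObject (PresheafOfModules.{u + 1} (OR S)) :=
  simplicialSets B a ⋙ PresheafOfModules.free (OR S)

/-- The differential. -/
noncomputable def fd (n : ℕ) : FK B a (n + 1) ⟶ FK B a n :=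
  AlgebraicTopology.AlternatingFaceMapComplex.objD (simplicialFree B a) n

lemma fd_comp (n : ℕ) : fd B a (n + 1) ≫ fd B a n = 0 :=
  AlgebraicTopology.AlternatingFaceMapComplex.d_squared (simplicialFree B a) n

lemma app_sum {P Q : PresheafOfModules.{u + 1} (OR S)} {α : Type*} (s : Finset α) (f : α → ℤ) (g : α → (P ⟶ Q))
    (V : (Over S)ᵒᵖ) (x : P.obj V) : (∑ j ∈ s, f j • g j).app V x = ∑ j ∈ s, f j • (g j).app V x := by
  let e : (P ⟶ Q) →+ Q.obj V :=
    { toFun := fun k => k.app V x
      map_zero' := rfl
      map_add' := fun _ _ => rfl }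
  exact (map_sum e _ _).trans (Finset.sum_congr rfl fun j _ => map_zsmul e (f j) (g j))

variable (V : (Over S)ᵒᵖ)

/-- The formal sums of simplices. -/
noncomputable abbrev FS (n : ℕ) : Type (u + 1) :=
  Nerve.T.{u + 1, u, u + 1} (cov B a) (Fin (n + 1)) V.unop →₀ (OR S).obj V

/-- The differential on formal sums. -/
noncomputable def fdL (n : ℕ) : FS B a V (n + 1) →+ FS B a V n :=
  ∑ i : Fin (n + 2), (-1 : ℤ) ^ (i : ℕ) •
    (Finsupp.mapDomain.addMonoidHom fun t : Nerve.T.{u + 1, u, u + 1} (cov B a) (Fin (n + 2)) V.unop =>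
      Nerve.reindex i.succAbove t)

lemma fd_app (n : ℕ) (x : FS B a V (n + 1)) :
    ((fd B a n).app V (x : (FK B a (n + 1)).obj V) : FS B a V n) = fdL B a V n x := by
  refine (app_sum (P := FK B a (n+1)) _ _ _ V x).trans ?_
  rw [fdL, AddMonoidHom.finsetSum_apply]
  rfl

lemma fdL_single (n : ℕ) (t : Nerve.T.{u + 1, u, u + 1} (cov B a) (Fin (n + 2)) V.unop) (r : (OR S).obj V) :
    fdL B a V n (Finsupp.single t r) =
      ∑ i : Fin (n + 2), (-1 : ℤ) ^ (i : ℕ) • (Finsupp.single (Nerve.reindex i.succAbove t) r : FS B a V n) := by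
  rw [fdL, AddMonoidHom.finsetSum_apply]
  exact Finset.sum_congr rfl fun i _ => congrArg (fun z : FS B a V n => ((-1 : ℤ) ^ (i : ℕ)) • z) Finsupp.mapDomain_single

/-- The contraction. -/
noncomputable def contr (n : ℕ) : FS B a V n →+ FS B a V (n + 1) :=
  Finsupp.mapDomain.addMonoidHom Nerve.cone

lemma homotopy (n : ℕ) (x : FS B a V (n + 1)) :
    fdL B a V (n + 1) (contr B a V (n + 1) x) + contr B a V n (fdL B a V n x) = x := by
  induction x using Finsupp.induction_linear with
  | zero => rw [map_zero, map_zero, map_zero, map_zero, add_zero]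
  | add x y hx hy =>
    rw [map_add, map_add, map_add, map_add]
    conv_rhs => rw [← hx, ← hy]
    exact add_add_add_comm _ _ _ _
  | single t r =>
    have e1 : contr B a V (n + 1) (Finsupp.single t r) = Finsupp.single (Nerve.cone t) r := Finsupp.mapDomain_single
    have e2 : contr B a V n (fdL B a V n (Finsupp.single t r)) =
        ∑ i : Fin (n + 2), (-1 : ℤ) ^ (i : ℕ) • (Finsupp.single (Nerve.cone (Nerve.reindex i.succAbove t)) r : FS B a V (n + 1)) := by
      rw [fdL_single, map_sum]
      refine Finset.sum_congr rfl fun i _ => ?_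
      rw [map_zsmul]
      exact congrArg (fun z : FS B a V (n + 1) => ((-1 : ℤ) ^ (i : ℕ)) • z) Finsupp.mapDomain_single
    rw [e1, e2, fdL_single, Fin.sum_univ_succ]
    simp only [Fin.val_zero, pow_zero, one_smul, Fin.succAbove_zero, Nerve.cone_face_zero, Nerve.cone_face_succ,
      Fin.val_succ, pow_succ, mul_neg, mul_one, neg_smul, Finset.sum_neg_distrib]
    exact neg_add_cancel_right _ _

lemma exact_fd (n : ℕ) : (ShortComplex.mk _ _ (fd_comp B a n)).Exact := by
  rw [← ShortComplex.exact_map_iff_of_faithful _ (PresheafOfModules.toPresheaf (OR S))]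
  have hP : JointlyReflectIsomorphisms (fun V : (Over S)ᵒᵖ => (evaluation (Over S)ᵒᵖ AddCommGrpCat.{u + 1}).obj V) :=
    ⟨fun f _ => by
      have : ∀ V, IsIso (f.app V) := fun V =>
        (inferInstance : IsIso (((evaluation (Over S)ᵒᵖ AddCommGrpCat.{u + 1}).obj V).map f))
      exact NatIso.isIso_of_isIso_app f⟩
  rw [hP.exact_iff]
  intro V
  rw [ShortComplex.ab_exact_iff]
  intro x hx
  let x' : FS B a V (n + 1) := x
  have hx' : fdL B a V n x' = 0 := (fd_app B a V n x').symm.trans hx
  refine ⟨contr B a V (n + 1) x', (fd_app B a V (n + 1) _).trans ?_⟩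
  have h := homotopy B a V n x'
  rw [hx', map_zero, add_zero] at h
  exact h

/-- The value of a section on simplices. -/
noncomputable def ofSect {P : PresheafOfModules.{u + 1} (OR S)} {n : ℕ} (x : cell B a P.presheaf n) : FK B a n ⟶ P :=
  PresheafOfModules.freeObjDesc
    { app := fun V => ↾fun t => P.presheaf.map (cl B a t).op x
      naturality := fun V W g => by
        ext t
        show P.presheaf.map (cl B a (Nerve.res g.unop t)).op x = P.presheaf.map g (P.presheaf.map (cl B a t).op x)
        rw [cl_res, op_comp, Functor.map_comp]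
        rfl }

lemma ofSect_single {P : PresheafOfModules.{u + 1} (OR S)} {n : ℕ} (x : cell B a P.presheaf n)
    (t : Nerve.T.{u + 1, u, u + 1} (cov B a) (Fin (n + 1)) V.unop) :
    (ofSect B a x).app V (Finsupp.single t (1 : (OR S).obj V) : _ →₀ _) = P.presheaf.map (cl B a t).op x :=
  ModuleCat.freeDesc_apply _ t

theorem exists_dd_eq_of_injective (I : BigSite.Mod Scheme.fppfPrecoverage S) [Injective I] (m : ℕ)
    (x : cell B a I.val.presheaf (m + 1)) (hx : dd B a I.val.presheaf (m + 1) x = 0) :
    ∃ y, dd B a I.val.presheaf m y = x := by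
  haveI := injective_val I
  let φ := ofSect B a x
  have hφ : fd B a (m + 1) ≫ φ = 0 := by
    refine PresheafOfModules.free_hom_ext ?_
    ext V t
    refine (congrArg (φ.app V).hom ((fd_app B a V (m + 1) _).trans (fdL_single B a V (m + 1) t 1))).trans ?_
    erw [map_sum]
    have h0 := congrArg (fun y => I.val.presheaf.map (cl B a t).op y) hx
    simp only [map_zero] at h0
    rw [dd_apply, map_sum] at h0
    refine (Finset.sum_congr rfl fun i _ => ?_).trans h0
    rw [map_zsmul]
    erw [map_zsmul, ofSect_single]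
    refine congrArg ((-1 : ℤ) ^ (i : ℕ) • ·) ?_
    rw [cl_reindex, op_comp, Functor.map_comp]
    rfl
  let ψ : FK B a m ⟶ I.val := (exact_fd B a m).descToInjective φ hφ
  have hψ : fd B a m ≫ ψ = φ := (exact_fd B a m).comp_descToInjective φ hφ
  refine ⟨ψ.app _ (Finsupp.single (univ B a m) 1 : _ →₀ _), ?_⟩
  have h := congrArg (fun k => (PresheafOfModules.Hom.app k (op ((_root_.Adeq.specOver a).obj (op (Amitsur.Tp R B (m + 1))))))
    (Finsupp.single (univ B a (m + 1)) 1 : _ →₀ _)) hψ
  replace h := (congrArg (ψ.app _).hom ((fd_app B a _ m _).trans (fdL_single B a _ m (univ B a (m + 1)) 1))).symm.trans h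
  erw [map_sum, ofSect_single, cl_univ] at h
  rw [dd_apply]
  refine Eq.trans ((Finset.sum_congr rfl fun i _ => ?_)) (h.trans ?_)
  · erw [map_zsmul]
    refine congrArg ((-1 : ℤ) ^ (i : ℕ) • ·) ?_
    refine (PresheafOfModules.naturality_apply ψ (sp a (CommAlgCat.ofHom (Amitsur.δ R B m i))).op
      (Finsupp.single (univ B a m) 1 : _ →₀ _)).symm.trans (congrArg _ ?_)
    refine (ModuleCat.freeDesc_apply _ (univ B a m)).trans ?_
    refine congrArg ModuleCat.freeMk ?_
    refine Nerve.T.ext ?_ fun k => ?_
    · refine Eq.trans ((_root_.Adeq.specOver a).map_comp _ _).symm ?_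
      show sp a _ = sp a _
      congr 1
      exact CommAlgCat.hom_ext (Subsingleton.elim _ _)
    · refine Sigma.ext rfl (heq_of_eq ?_)
      refine Eq.trans ((_root_.Adeq.specOver a).map_comp _ _).symm ?_
      show sp a _ = sp a _
      congr 1
      exact CommAlgCat.hom_ext (Amitsur.δ_comp_π R B m i k)
  · exact Functor.map_id_apply _ _ _

theorem amit_injective_mod (I : BigSite.Mod Scheme.fppfPrecoverage S) [Injective I] :
    Cartan.Amit ((BigSite.toAbMod Scheme.fppfPrecoverage S).obj I) := by
  intro R a B _ _ _ m x hx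
  exact exists_dd_eq_of_injective B a I m x hx

end Groth.Agent.H54.AdeqSite.FreeInj
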