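import Groth.Agent.H54.AdeqSite.FFDescent
import Groth.Agent.H54.Adeq.Ext

/-!
# First cocycles of adequate functors along flat covers are coboundaries
-/

universe v u

open CategoryTheory TensorProduct

namespace Groth.Agent.H54.AdeqSite

section Algebra

variable {A : Type u} [CommRing A] {B : Type u} [CommRing B] [Algebra A B]
  {ι : Type} (C : ι → Type u) [∀ k, CommRing (C k)] [∀ k, Algebra B (C k)]
  [∀ k, Algebra A (C k)] [∀ k, IsScalarTower A B (C k)]
  {M : Type v} [AddCommGroup M] [Module A M]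

/-- The first projection of a double product. -/
noncomputable abbrev iL (k l : ι) : C k →ₐ[A] C k ⊗[B] C l :=
  (Algebra.TensorProduct.includeLeft : C k →ₐ[B] C k ⊗[B] C l).restrictScalars A

/-- The second projection of a double product. -/
noncomputable abbrev iR (k l : ι) : C l →ₐ[A] C k ⊗[B] C l :=
  (Algebra.TensorProduct.includeRight : C l →ₐ[B] C k ⊗[B] C l).restrictScalars A

/-- The third projection omitting the middle factor. -/
noncomputable abbrev mR (p k l : ι) : C p ⊗[B] C l →ₐ[A] C p ⊗[B] (C k ⊗[B] C l) :=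
  (Algebra.TensorProduct.map (AlgHom.id B (C p))
    (Algebra.TensorProduct.includeRight : C l →ₐ[B] C k ⊗[B] C l)).restrictScalars A

/-- The second projection omitting the last factor. -/
noncomputable abbrev mL (p k l : ι) : C p ⊗[B] C k →ₐ[A] C p ⊗[B] (C k ⊗[B] C l) :=
  (Algebra.TensorProduct.map (AlgHom.id B (C p))
    (Algebra.TensorProduct.includeLeft : C k →ₐ[B] C k ⊗[B] C l)).restrictScalars A

/-- The first projection omitting the first factor. -/
noncomputable abbrev m0 (p k l : ι) : C k ⊗[B] C l →ₐ[A] C p ⊗[B] (C k ⊗[B] C l) :=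
  (Algebra.TensorProduct.includeRight : C k ⊗[B] C l →ₐ[B] C p ⊗[B] (C k ⊗[B] C l)).restrictScalars A

variable {C}

theorem JointFF.exists_primitive [Fintype ι] (hC : JointFF B C) (c : ∀ k l, (C k ⊗[B] C l) ⊗[A] M)
    (hc : ∀ p k l, (m0 (A := A) (B := B) C p k l).toLinearMap.rTensor M (c k l) =
      (mR (A := A) (B := B) C p k l).toLinearMap.rTensor M (c p l) -
      (mL (A := A) (B := B) C p k l).toLinearMap.rTensor M (c p k)) :
    ∃ z : ∀ k, C k ⊗[A] M, ∀ k l,
      c k l = (iL (A := A) (B := B) C k l).toLinearMap.rTensor M (z k) - (iR (A := A) (B := B) C k l).toLinearMap.rTensor M (z l) := by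
  classical
  let W : ι × ι → Type _ := fun kl => (C kl.1 ⊗[B] C kl.2) ⊗[A] M
  let eL : ∀ k l, C k ⊗[A] M →ₗ[B] (C k ⊗[B] C l) ⊗[A] M := fun k l =>
    AlgebraTensorModule.map ((Algebra.TensorProduct.includeLeft : C k →ₐ[B] C k ⊗[B] C l).toLinearMap) LinearMap.id
  let eR : ∀ k l, C l ⊗[A] M →ₗ[B] (C k ⊗[B] C l) ⊗[A] M := fun k l =>
    AlgebraTensorModule.map ((Algebra.TensorProduct.includeRight : C l →ₐ[B] C k ⊗[B] C l).toLinearMap) LinearMap.id
  have heL : ∀ k l z, eL k l z = (iL (A := A) (B := B) C k l).toLinearMap.rTensor M z := fun k l z => by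
    induction z with
    | zero => simp
    | tmul c x => rfl
    | add x y hx hy => rw [map_add, map_add, hx, hy]
  have heR : ∀ k l z, eR k l z = (iR (A := A) (B := B) C k l).toLinearMap.rTensor M z := fun k l z => by
    induction z with
    | zero => simp
    | tmul c x => rfl
    | add x y hx hy => rw [map_add, map_add, hx, hy]
  let d : (∀ k, C k ⊗[A] M) →ₗ[B] ∀ kl : ι × ι, W kl :=
    LinearMap.pi fun kl => eL kl.1 kl.2 ∘ₗ LinearMap.proj kl.1 - eR kl.1 kl.2 ∘ₗ LinearMap.proj kl.2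
  suffices h0 : (fun kl => c kl.1 kl.2 : ∀ kl : ι × ι, W kl) ∈ LinearMap.range d by
    obtain ⟨z, hz⟩ := h0
    refine ⟨z, fun k l => ?_⟩
    rw [← heL, ← heR]
    exact (congrFun hz (k, l)).symm
  rw [← Submodule.Quotient.mk_eq_zero]
  refine hC.eq_zero _ fun p => ?_
  let g : ∀ kl : ι × ι, W kl →ₗ[B] (∀ kl : ι × ι, W kl) ⧸ LinearMap.range d := fun kl =>
    (LinearMap.range d).mkQ ∘ₗ LinearMap.single B W kl
  let Θ : ∀ kl : ι × ι, (C p ⊗[B] (C kl.1 ⊗[B] C kl.2)) ⊗[A] M →ₗ[B]
      C p ⊗[B] ((∀ kl : ι × ι, W kl) ⧸ LinearMap.range d) := fun kl =>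
    (g kl).lTensor (C p) ∘ₗ (AlgebraTensorModule.assoc A B B (C p) (C kl.1 ⊗[B] C kl.2) M).toLinearMap
  have h1 : ∀ (k l : ι) (w : (C k ⊗[B] C l) ⊗[A] M),
      (1 : C p) ⊗ₜ[B] g (k, l) w = Θ (k, l) ((m0 (A := A) (B := B) C p k l).toLinearMap.rTensor M w) := by
    intro k l w
    induction w with
    | zero => simp
    | tmul a x => rfl
    | add x y hx hy => rw [map_add, TensorProduct.tmul_add, map_add, map_add, hx, hy]
  have h2 : ∀ (j : ι) (w : (C p ⊗[B] C j) ⊗[A] M),
      ∑ k, Θ (k, j) ((mR (A := A) (B := B) C p k j).toLinearMap.rTensor M w) -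
        ∑ l, Θ (j, l) ((mL (A := A) (B := B) C p j l).toLinearMap.rTensor M w) = 0 := by
    intro j w
    induction w with
    | zero => simp
    | tmul ab x =>
      induction ab with
      | zero => simp
      | tmul a b =>
        show ∑ k, a ⊗ₜ[B] g (k, j) (eR k j (b ⊗ₜ[A] x)) - ∑ l, a ⊗ₜ[B] g (j, l) (eL j l (b ⊗ₜ[A] x)) = 0
        rw [← TensorProduct.tmul_sum, ← TensorProduct.tmul_sum, ← TensorProduct.tmul_sub]
        have key : ∑ l, LinearMap.single B W (j, l) (eL j l (b ⊗ₜ[A] x)) -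
            ∑ k, LinearMap.single B W (k, j) (eR k j (b ⊗ₜ[A] x)) = d (Pi.single j (b ⊗ₜ[A] x)) := by
          funext kl
          obtain ⟨k, l⟩ := kl
          simp only [Pi.sub_apply, Finset.sum_apply, LinearMap.coe_single, d, LinearMap.pi_apply, LinearMap.sub_apply,
            LinearMap.comp_apply, LinearMap.proj_apply]
          have z0 : ∀ {p q : ι × ι} (w : W q), p ≠ q → Pi.single q w p = 0 := fun w h => Pi.single_eq_of_ne h w
          by_cases hk : k = j <;> by_cases hl : l = j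
          · subst hl hk
            rw [Finset.sum_eq_single k (fun c _ hc => z0 _ (by simp [Ne.symm hc])) (by simp),
              Finset.sum_eq_single k (fun c _ hc => z0 _ (by simp [Ne.symm hc])) (by simp)]
            simp
          · subst hk
            rw [Finset.sum_eq_single l (fun c _ hc => z0 _ (by simp [Ne.symm hc])) (by simp),
              Finset.sum_eq_zero (fun c _ => z0 _ (by simp [hl]))]
            simp [hl]
          · subst hl
            rw [Finset.sum_eq_zero (fun c _ => z0 _ (by simp [hk])),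
              Finset.sum_eq_single k (fun c _ hc => z0 _ (by simp [Ne.symm hc])) (by simp)]
            simp [hk]
          · rw [Finset.sum_eq_zero (fun c _ => z0 _ (by simp [hk])),
              Finset.sum_eq_zero (fun c _ => z0 _ (by simp [hl]))]
            simp [hk, hl]
        have : ∑ k, g (k, j) (eR k j (b ⊗ₜ[A] x)) - ∑ l, g (j, l) (eL j l (b ⊗ₜ[A] x)) =
            (LinearMap.range d).mkQ (-(d (Pi.single j (b ⊗ₜ[A] x)))) := by
          rw [← key, neg_sub, map_sub, map_sum, map_sum]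
          rfl
        rw [this, (Submodule.Quotient.mk_eq_zero _).2 ((LinearMap.range d).neg_mem ⟨_, rfl⟩) |>
          (fun e => (show (LinearMap.range d).mkQ (-(d (Pi.single j (b ⊗ₜ[A] x)))) = 0 from e)), TensorProduct.tmul_zero]
      | add u v hu hv =>
        simp only [TensorProduct.add_tmul, map_add, Finset.sum_add_distrib] at hu hv ⊢
        rw [add_sub_add_comm, hu, hv, add_zero]
    | add x y hx hy =>
      simp only [map_add, Finset.sum_add_distrib]
      rw [add_sub_add_comm, hx, hy, add_zero]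
  have h3 : (Submodule.Quotient.mk (fun kl => c kl.1 kl.2) : (∀ kl : ι × ι, W kl) ⧸ LinearMap.range d) =
      ∑ k, ∑ l, g (k, l) (c k l) := by
    rw [← Fintype.sum_prod_type' (f := fun k l => g (k, l) (c k l))]
    show (LinearMap.range d).mkQ (fun kl => c kl.1 kl.2) = ∑ kl, (LinearMap.range d).mkQ (Pi.single kl (c kl.1 kl.2))
    rw [← map_sum, Finset.univ_sum_single (fun kl : ι × ι => (c kl.1 kl.2 : W kl))]
  rw [h3]
  simp only [TensorProduct.tmul_sum, h1, hc, map_sub, Finset.sum_sub_distrib]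
  rw [Finset.sum_comm, ← Finset.sum_sub_distrib]
  exact Finset.sum_eq_zero fun j _ => h2 j (c p j)

end Algebra

section Functor

open Groth.Agent.H54.Adeq

variable {A : Type u} [CommRing A] {B : _root_.Adeq.Alg A} {n : ℕ} {C : Fin n → _root_.Adeq.Alg A} {f : ∀ k, B ⟶ C k}
  {F : _root_.Adeq.MVF A}

theorem FlatCover.exists_primitive (hf : FlatCover f) (hF : _root_.Adeq.adequate A F)
    (c : ∀ k l (D : _root_.Adeq.Alg A) (α : C k ⟶ D) (β : C l ⟶ D), f k ≫ α = f l ≫ β → Val F D)
    (hnat : ∀ k l D D' (h : D ⟶ D') α β e e', mp F h (c k l D α β e) = c k l D' (α ≫ h) (β ≫ h) e')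
    (hcoc : ∀ p k l D (γ : C p ⟶ D) α β e₁ e₂ e₃, c k l D α β e₁ = c p l D γ β e₂ - c p k D γ α e₃) :
    ∃ z : ∀ k, Val F (C k), ∀ k l D α β e, c k l D α β e = mp F α (z k) - mp F β (z l) := by
  obtain ⟨M, N, g, ι, hι⟩ := exists_isKer hF
  letI : ∀ k, Algebra (B : Type u) (C k : Type u) := fun k => (f k).hom.toRingHom.toAlgebra
  haveI : ∀ k, IsScalarTower A (B : Type u) (C k : Type u) := fun k => IsScalarTower.of_algHom (f k).hom
  have hC : JointFF (B : Type u) (fun k => (C k : Type u)) := ⟨hf.flat, hf.surj⟩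
  let D : Fin n → Fin n → _root_.Adeq.Alg A := fun k l => CommAlgCat.of A ((C k : Type u) ⊗[(B : Type u)] (C l : Type u))
  let α : ∀ k l, C k ⟶ D k l := fun k l => CommAlgCat.ofHom (iL (A := A) (B := (B : Type u)) (fun k => (C k : Type u)) k l)
  let β : ∀ k l, C l ⟶ D k l := fun k l => CommAlgCat.ofHom (iR (A := A) (B := (B : Type u)) (fun k => (C k : Type u)) k l)
  have hαβ : ∀ k l, f k ≫ α k l = f l ≫ β k l := fun k l => CommAlgCat.hom_ext (DFunLike.ext _ _ fun b =>
    ((Algebra.TensorProduct.includeLeft : (C k : Type u) →ₐ[(B : Type u)] (C k : Type u) ⊗[(B : Type u)] (C l : Type u)).commutes b).trans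
    ((Algebra.TensorProduct.includeRight : (C l : Type u) →ₐ[(B : Type u)] (C k : Type u) ⊗[(B : Type u)] (C l : Type u)).commutes b).symm)
  let c₀ : ∀ k l, ((C k : Type u) ⊗[(B : Type u)] (C l : Type u)) ⊗[A] M := fun k l =>
    ap ι (D k l) (c k l (D k l) (α k l) (β k l) (hαβ k l))
  obtain ⟨z, hz⟩ := hC.exists_primitive (A := A) (M := M) c₀ fun p k l => by
    let E : _root_.Adeq.Alg A := CommAlgCat.of A ((C p : Type u) ⊗[(B : Type u)] ((C k : Type u) ⊗[(B : Type u)] (C l : Type u)))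
    let ηR : D p l ⟶ E := CommAlgCat.ofHom (mR (A := A) (B := (B : Type u)) (fun k => (C k : Type u)) p k l)
    let ηL : D p k ⟶ E := CommAlgCat.ofHom (mL (A := A) (B := (B : Type u)) (fun k => (C k : Type u)) p k l)
    let η : D k l ⟶ E := CommAlgCat.ofHom (m0 (A := A) (B := (B : Type u)) (fun k => (C k : Type u)) p k l)
    show mp (U M) η (ap ι (D k l) _) = mp (U M) ηR (ap ι (D p l) _) - mp (U M) ηL (ap ι (D p k) _)
    rw [← ap_mp, ← ap_mp, ← ap_mp, ← map_sub]
    congr 1
    have eR1 : β p l ≫ ηR = β k l ≫ η := CommAlgCat.hom_ext (DFunLike.ext _ _ fun x => rfl)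
    have eL1 : β p k ≫ ηL = α k l ≫ η := CommAlgCat.hom_ext (DFunLike.ext _ _ fun x => rfl)
    have eγ : α p k ≫ ηL = α p l ≫ ηR := CommAlgCat.hom_ext (DFunLike.ext _ _ fun x => rfl)
    have e1 : f k ≫ α k l ≫ η = f l ≫ β k l ≫ η := by rw [← Category.assoc, hαβ k l, Category.assoc]
    have e2 : f p ≫ α p l ≫ ηR = f l ≫ β p l ≫ ηR := by rw [← Category.assoc, hαβ p l, Category.assoc]
    have e3 : f p ≫ α p k ≫ ηL = f k ≫ β p k ≫ ηL := by rw [← Category.assoc, hαβ p k, Category.assoc]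
    rw [hnat k l _ E η _ _ (hαβ k l) e1, hnat p l _ E ηR _ _ (hαβ p l) e2, hnat p k _ E ηL _ _ (hαβ p k) e3]
    rw [hcoc p k l E (α p l ≫ ηR) (α k l ≫ η) (β k l ≫ η) e1 (by rw [← eR1]; exact e2) (by rw [← eL1, ← eγ]; exact e3)]
    simp only [eR1, eL1, eγ]
  have hz' : ∀ k l D' (a : C k ⟶ D') (b : C l ⟶ D') (e : f k ≫ a = f l ≫ b),
      ap ι D' (c k l D' a b e) = mp (U M) a (z k) - mp (U M) b (z l) := fun k l D' a b e => by
    letI : Algebra (B : Type u) (D' : Type u) := (f k ≫ a).hom.toRingHom.toAlgebra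
    haveI : IsScalarTower A (B : Type u) (D' : Type u) := IsScalarTower.of_algHom (f k ≫ a).hom
    let a' : (C k : Type u) →ₐ[(B : Type u)] (D' : Type u) := { a.hom.toRingHom with commutes' := fun _ => rfl }
    let b' : (C l : Type u) →ₐ[(B : Type u)] (D' : Type u) :=
      { b.hom.toRingHom with commutes' := fun x => (DFunLike.congr_fun (congrArg CommAlgCat.Hom.hom e) x).symm }
    let h : D k l ⟶ D' := CommAlgCat.ofHom ((Algebra.TensorProduct.productMap a' b').restrictScalars A)
    have ha : α k l ≫ h = a := CommAlgCat.hom_ext (DFunLike.ext _ _ fun x => by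
      show a.hom x * b.hom 1 = a.hom x
      rw [map_one, mul_one])
    have hb : β k l ≫ h = b := CommAlgCat.hom_ext (DFunLike.ext _ _ fun x => by
      show a.hom 1 * b.hom x = b.hom x
      rw [map_one, one_mul])
    have e' : f k ≫ α k l ≫ h = f l ≫ β k l ≫ h := by rw [ha, hb]; exact e
    have hc : mp F h (c k l (D k l) (α k l) (β k l) (hαβ k l)) = c k l D' a b e := by
      rw [hnat k l _ D' h _ _ (hαβ k l) e']
      simp only [ha, hb]
    rw [← hc, ap_mp]
    show mp (U M) h (c₀ k l : Val (U M) (D k l)) = _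
    rw [hz k l]
    show mp (U M) h (mp (U M) (α k l) (z k) - mp (U M) (β k l) (z l)) = _
    rw [map_sub, ← mp_comp, ← mp_comp, ha, hb]
  obtain ⟨t, ht⟩ := hf.exists_glue (adequate_U N) (fun k => ap (Um g) (C k) (z k)) fun k l D' a b e => by
    rw [← sub_eq_zero, ← ap_mp, ← ap_mp, ← map_sub, ← hz' k l D' a b e]
    exact (hι.exact D').apply_apply_eq_zero _
  have hπ : Function.Exact g.hom (LinearMap.range g.hom).mkQ := LinearMap.exact_map_mkQ_range _
  have ht0 : (LinearMap.range g.hom).mkQ.lTensor (B : Type u) (t : (B : Type u) ⊗[A] N) = 0 := by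
    refine hC.eq_zero_rTensor (A := A) _ fun k => ?_
    have h := congrArg ((LinearMap.range g.hom).mkQ.lTensor (C k : Type u)) (ht k)
    rw [ap_Um] at h
    rw [← LinearMap.comp_apply, ← LinearMap.lTensor_comp, hπ.linearMap_comp_eq_zero, LinearMap.lTensor_zero] at h
    refine Eq.trans ?_ h
    show ((IsScalarTower.toAlgHom A (B : Type u) (C k : Type u)).toLinearMap.rTensor _ ∘ₗ (LinearMap.range g.hom).mkQ.lTensor (B : Type u)) t =
      ((LinearMap.range g.hom).mkQ.lTensor (C k : Type u) ∘ₗ (f k).hom.toLinearMap.rTensor N) t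
    rw [LinearMap.rTensor_comp_lTensor, LinearMap.lTensor_comp_rTensor]
    rfl
  obtain ⟨m, hm⟩ := ((lTensor_exact (B : Type u) hπ (Submodule.mkQ_surjective _)) t).1 ht0
  let z₁ : ∀ k, Val (U M) (C k) := z
  have hw : ∀ k, ap (Um g) (C k) (z₁ k - mp (U M) (f k) (m : Val (U M) B)) = 0 := fun k => by
    rw [map_sub, ap_mp, sub_eq_zero]
    exact ((congrArg (mp (U N) (f k)) hm).trans (ht k)).symm
  choose w hw' using fun k => (hι.exact (C k) _).1 (hw k)
  refine ⟨w, fun k l D' a b e => hι.inj D' ?_⟩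
  rw [map_sub, ap_mp, ap_mp, hw' k, hw' l, map_sub, map_sub, hz' k l D' a b e, ← mp_comp, ← mp_comp, e]
  abel

end Functor

end Groth.Agent.H54.AdeqSite
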