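import Groth.Agent.H54.AdeqSite.FreeInjective
import Groth.Agent.Lib.Modules.ToSheaf
import Mathlib.CategoryTheory.Preadditive.Injective.Resolution

/-!
# Injective resolutions of adequate modules are exact on affine objects
-/

universe u

open CategoryTheory CategoryTheory.Limits AlgebraicGeometry Opposite

namespace Groth.Agent.H54.AdeqSite.InjRes

open Groth.Agent.H54.Adeq

variable {T : Scheme.{u}}

local notation "K" => Scheme.fppfPrecoverage
local notation "Mod'" => BigSite.Mod Scheme.fppfPrecoverage T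

instance : PreservesFiniteLimits (BigSite.toAbMod K T) := inferInstance

instance : PreservesFiniteColimits (BigSite.toAbMod K T) := inferInstance

lemma amit_of_iso {F G : BigSite.Ab K T} (e : F ≅ G) (h : Cartan.Amit F) : Cartan.Amit G := by
  intro R a B _ _ _ m x hx
  obtain ⟨y, hy⟩ := h R a B m (e.inv.hom.app _ x) (by rw [← AmitCx.map_dd, hx, map_zero])
  refine ⟨e.hom.hom.app _ y, ?_⟩
  rw [← AmitCx.map_dd, hy, ← ConcreteCategory.comp_apply, ← NatTrans.comp_app,
    show e.inv.hom ≫ e.hom.hom = (e.inv ≫ e.hom).hom from rfl, e.inv_hom_id]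
  rfl

variable {M : BigSite.Mod K T} (I : InjectiveResolution M)

/-- The cycles. -/
noncomputable abbrev Z (n : ℕ) : Mod' := kernel (I.cocomplex.d n (n + 1))

/-- The map to the next cycles. -/
noncomputable def toZ (n : ℕ) : I.cocomplex.X n ⟶ Z I (n + 1) :=
  kernel.lift _ (I.cocomplex.d n (n + 1)) (I.cocomplex.d_comp_d _ _ _)

lemma toZ_ι (n : ℕ) : toZ I n ≫ kernel.ι _ = I.cocomplex.d n (n + 1) := kernel.lift_ι _ _ _

/-- The short exact sequence of cycles. -/
noncomputable def zseq (n : ℕ) : ShortComplex Mod' :=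
  ShortComplex.mk (kernel.ι (I.cocomplex.d n (n + 1))) (toZ I n)
    (by rw [← cancel_mono (kernel.ι (I.cocomplex.d (n + 1) (n + 1 + 1))), Category.assoc, toZ_ι, zero_comp,
      kernel.condition])

lemma zseq_shortExact (n : ℕ) : (zseq I n).ShortExact := by
  have hepi : Epi (toZ I n) := (I.exact_succ n).epi_kernelLift
  refine ShortComplex.ShortExact.mk' ?_ (inferInstanceAs (Mono (kernel.ι _))) hepi
  let φ : zseq I n ⟶ ShortComplex.mk (kernel.ι (I.cocomplex.d n (n + 1))) _ (kernel.condition _) :=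
    { τ₁ := 𝟙 _
      τ₂ := 𝟙 _
      τ₃ := kernel.ι _
      comm₁₂ := (Category.id_comp _).trans (Category.comp_id _).symm
      comm₂₃ := (Category.id_comp _).trans (toZ_ι I n).symm }
  haveI : Epi φ.τ₁ := inferInstanceAs (Epi (𝟙 _))
  haveI : IsIso φ.τ₂ := inferInstanceAs (IsIso (𝟙 _))
  haveI : Mono φ.τ₃ := inferInstanceAs (Mono (kernel.ι _))
  exact (ShortComplex.exact_iff_of_epi_of_isIso_of_mono φ).2
    (ShortComplex.exact_of_f_is_kernel _ (kernelIsKernel _))

theorem amit_Z (hM : _root_.Adeq.adequateMod K T M) :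
    ∀ n, Cartan.Amit ((BigSite.toAbMod K T).obj (Z I n)) := by
  intro n
  induction n with
  | zero =>
    exact amit_of_iso ((BigSite.toAbMod K T).mapIso
      (IsLimit.conePointUniqueUpToIso I.isLimitKernelFork (limit.isLimit _))) (Cartan.amit_toAbMod M hM)
  | succ n ih =>
    haveI := I.injective n
    exact Cartan.amit_X₃ _ ((zseq_shortExact I n).map_of_exact (BigSite.toAbMod K T)) ih
      (FreeInj.amit_injective_mod (I.cocomplex.X n))

theorem exists_primitive (hM : _root_.Adeq.adequateMod K T M) (n : ℕ) (V : Over T) [IsAffine V.left]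
    (x : (I.cocomplex.X (n + 1)).val.obj (op V))
    (hx : (I.cocomplex.d (n + 1) (n + 1 + 1)).val.app (op V) x = 0) :
    ∃ y, (I.cocomplex.d n (n + 1)).val.app (op V) y = x := by
  obtain ⟨z, rfl⟩ := exists_kernel_sect (I.cocomplex.d (n + 1) (n + 1 + 1)) (op V) x hx
  obtain ⟨y, hy⟩ := Cartan.surjective_app _ ((zseq_shortExact I n).map_of_exact (BigSite.toAbMod K T))
    (amit_Z I hM n) V z
  refine ⟨y, ?_⟩
  rw [← toZ_ι]
  exact congrArg ((kernel.ι (I.cocomplex.d (n + 1) (n + 1 + 1))).val.app (op V)) hy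

end Groth.Agent.H54.AdeqSite.InjRes
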