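import Groth.Agent.H54.AdeqSite.Main
import Groth.Agent.H54.AdeqSite.FFDescent
import Mathlib.CategoryTheory.Sites.LocallySurjective
import Mathlib.CategoryTheory.Sites.PrecoverageToGrothendieck

/-!
# Local isomorphisms out of presheaves with adequate functors
-/

universe u

open CategoryTheory CategoryTheory.Limits AlgebraicGeometry Opposite TensorProduct

namespace Groth.Agent.H54.AdeqSite

open Groth.Agent.H54.Adeq

variable {S : Scheme.{u}} {A : CommRingCat.{u}} (a : Spec A ⟶ S)

lemma flatCover_of {B : _root_.Adeq.Alg A} {n : ℕ} {C : Fin n → _root_.Adeq.Alg A} (f : ∀ k, B ⟶ C k)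
    (hP : ∀ k, fppfP (Spec.map (rh (f k))))
    (hsurj : ∀ x : Spec (CommRingCat.of (B : Type u)), ∃ k, x ∈ Set.range (Spec.map (rh (f k)))) : FlatCover f where
  flat k := by
    have : Flat (Spec.map (rh (f k))) := (hP k).1
    exact (HasRingHomProperty.Spec_iff (P := @Flat)).1 this
  surj p := hsurj p

/-- A covering sieve of an affine object contains a finite affine fppf family. -/
theorem exists_cover_of_mem {B : _root_.Adeq.Alg A} (R : Sieve ((_root_.Adeq.specOver a).obj (op B)))
    (hR : R ∈ QuotSh.J Scheme.fppfPrecoverage S ((_root_.Adeq.specOver a).obj (op B))) :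
    ∃ (n : ℕ) (C : Fin n → _root_.Adeq.Alg A) (f : ∀ k, B ⟶ C k), (∀ k, fppfP (Spec.map (rh (f k)))) ∧
      (∀ x : Spec (CommRingCat.of (B : Type u)), ∃ k, x ∈ Set.range (Spec.map (rh (f k)))) ∧
        ∀ k, R (sp a (f k)) := by
  rw [GrothendieckTopology.mem_over_iff] at hR
  change Sieve.overEquiv _ R ∈ (Scheme.precoverage fppfP).toGrothendieck _ at hR
  haveI : fppfP.{u}.ContainsIdentities := ⟨fun X => fppf_hoi _ inferInstance⟩
  haveI : fppfP.{u}.RespectsIso := inferInstance
  rw [Precoverage.mem_toGrothendieck_iff_of_isStableUnderComposition] at hR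
  obtain ⟨T, hT, hle⟩ := hR
  change T ∈ (Scheme.precoverage fppfP).coverings (Spec (CommRingCat.of (B : Type u))) at hT
  obtain ⟨ι, X, t, rfl⟩ := T.exists_eq_ofArrows
  replace hT := (Scheme.ofArrows_mem_precoverage_iff (P := fppfP)).1 hT
  obtain ⟨n, C₀, idx, φ, c, hc, hP, hsurj⟩ :=
    exists_finite_refinement fppf_hoi fppf_hopen X t hT.2 hT.1 (CommRingCat.of (B : Type u)) (𝟙 _)
  letI : ∀ k, Algebra A (C₀ k) := fun k => ((φ k).hom.comp (algebraMap A (B : Type u))).toAlgebra
  let C : Fin n → _root_.Adeq.Alg A := fun k => CommAlgCat.of A (C₀ k)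
  let f : ∀ k, B ⟶ C k := fun k => CommAlgCat.ofHom { (φ k).hom with commutes' := fun _ => rfl }
  refine ⟨n, C, f, hP, hsurj, fun k => ?_⟩
  have h1 : Sieve.overEquiv _ R (t (idx k)) := hle _ _ (Presieve.ofArrows.mk (idx k))
  rw [Sieve.overEquiv_iff] at h1
  have hw : c k ≫ t (idx k) = Spec.map (rh (f k)) := (hc k).trans (Category.comp_id _)
  have e : c k ≫ t (idx k) ≫ ((_root_.Adeq.specOver a).obj (op B)).hom = ((_root_.Adeq.specOver a).obj (op (C k))).hom :=
    (Category.assoc _ _ _).symm.trans ((congrArg (· ≫ _) hw).trans (Over.w (sp a (f k))))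
  have h2 := R.downward_closed h1 (Over.homMk (U := (_root_.Adeq.specOver a).obj (op (C k))) (c k) e)
  convert h2 using 1
  exact Over.OverMorphism.ext hw.symm

variable {P : PresheafOfModules.{u + 1} (BigSite.ORing Scheme.fppfPrecoverage S).obj}
  {M : BigSite.Mod Scheme.fppfPrecoverage S} (ψ : P ⟶ M.val)

theorem injective_ap_local
    [Presheaf.IsLocallyInjective (QuotSh.J Scheme.fppfPrecoverage S) ((PresheafOfModules.toPresheaf _).map ψ)]
    (hF : _root_.Adeq.adequate A ((_root_.Adeq.toMVFPre Scheme.fppfPrecoverage a).obj P)) (B : _root_.Adeq.Alg A) :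
    Function.Injective (ap ((_root_.Adeq.toMVFPre Scheme.fppfPrecoverage a).map ψ) B) := by
  rw [injective_iff_map_eq_zero]
  intro x hx
  obtain ⟨n, C, f, hP, hsurj, hm⟩ := exists_cover_of_mem a _ (Presheaf.equalizerSieve_mem (QuotSh.J Scheme.fppfPrecoverage S)
    ((PresheafOfModules.toPresheaf _).map ψ) (X := op ((_root_.Adeq.specOver a).obj (op B))) x 0
    (hx.trans (map_zero (ap ((_root_.Adeq.toMVFPre Scheme.fppfPrecoverage a).map ψ) B)).symm))
  exact (flatCover_of f hP hsurj).eq_zero hF x fun k => (hm k).trans (map_zero _)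

theorem surjective_ap_local
    [Presheaf.IsLocallyInjective (QuotSh.J Scheme.fppfPrecoverage S) ((PresheafOfModules.toPresheaf _).map ψ)]
    [Presheaf.IsLocallySurjective (QuotSh.J Scheme.fppfPrecoverage S) ((PresheafOfModules.toPresheaf _).map ψ)]
    (hF : _root_.Adeq.adequate A ((_root_.Adeq.toMVFPre Scheme.fppfPrecoverage a).obj P)) (B : _root_.Adeq.Alg A) :
    Function.Surjective (ap ((_root_.Adeq.toMVFPre Scheme.fppfPrecoverage a).map ψ) B) := by
  intro y
  obtain ⟨n, C, f, hP, hsurj, hm⟩ := exists_cover_of_mem a _ (Presheaf.imageSieve_mem (QuotSh.J Scheme.fppfPrecoverage S)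
    ((PresheafOfModules.toPresheaf _).map ψ) (U := op ((_root_.Adeq.specOver a).obj (op B))) y)
  choose t ht using hm
  let x : ∀ k, Val ((_root_.Adeq.toMVFPre Scheme.fppfPrecoverage a).obj P) (C k) := t
  let y' : Val (FM (P := fppfP) a M) B := y
  have hx : ∀ k, ap ((_root_.Adeq.toMVFPre Scheme.fppfPrecoverage a).map ψ) (C k) (x k) = mp (FM (P := fppfP) a M) (f k) y' := ht
  obtain ⟨x₀, hx₀⟩ := (flatCover_of f hP hsurj).exists_glue hF x fun k l D α β e => by
    refine injective_ap_local a ψ hF D ?_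
    rw [ap_mp, ap_mp, hx k, hx l]
    exact (mp_comp (f k) α y').symm.trans ((congrArg (fun g => mp (FM (P := fppfP) a M) g y') e).trans (mp_comp (f l) β y'))
  refine ⟨x₀, ?_⟩
  let z : Val (FM (P := fppfP) a M) B := ap ((_root_.Adeq.toMVFPre Scheme.fppfPrecoverage a).map ψ) B x₀
  have : z - y' = 0 := by
    refine eq_zero_of_forall (P := fppfP) a f M hP hsurj _ fun k => ?_
    rw [map_sub, ← hx k, ← hx₀ k, sub_eq_zero]
    exact (ap_mp _ (f k) x₀).symm
  exact sub_eq_zero.1 this

theorem adequate_of_localIso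
    [Presheaf.IsLocallyInjective (QuotSh.J Scheme.fppfPrecoverage S) ((PresheafOfModules.toPresheaf _).map ψ)]
    [Presheaf.IsLocallySurjective (QuotSh.J Scheme.fppfPrecoverage S) ((PresheafOfModules.toPresheaf _).map ψ)]
    (hF : _root_.Adeq.adequate A ((_root_.Adeq.toMVFPre Scheme.fppfPrecoverage a).obj P)) :
    _root_.Adeq.adequate A ((_root_.Adeq.toMVF Scheme.fppfPrecoverage a).obj M) := by
  let θ : (_root_.Adeq.toMVFPre Scheme.fppfPrecoverage a).obj P ⟶ (_root_.Adeq.toMVF Scheme.fppfPrecoverage a).obj M :=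
    (_root_.Adeq.toMVFPre Scheme.fppfPrecoverage a).map ψ
  have : Mono θ := mono_of_ap (injective_ap_local a ψ hF)
  have : Epi θ := epi_of_ap (surjective_ap_local a ψ hF)
  have : IsIso θ := isIso_of_mono_of_epi θ
  exact (_root_.Adeq.adequate A).prop_of_iso (asIso θ) hF

theorem adequateMod_sheafification (P : PresheafOfModules.{u + 1} (BigSite.ORing Scheme.fppfPrecoverage S).obj)
    (h : ∀ (R : CommRingCat.{u}) (a : Spec R ⟶ S),
      _root_.Adeq.adequate R ((_root_.Adeq.toMVFPre Scheme.fppfPrecoverage a).obj P)) :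
    _root_.Adeq.adequateMod Scheme.fppfPrecoverage S
      ((PresheafOfModules.sheafification (𝟙 (BigSite.ORing Scheme.fppfPrecoverage S).obj)).obj P) := by
  let M := (PresheafOfModules.sheafification (𝟙 (BigSite.ORing Scheme.fppfPrecoverage S).obj)).obj P
  let ψ : P ⟶ M.val := (PresheafOfModules.sheafificationAdjunction (𝟙 (BigSite.ORing Scheme.fppfPrecoverage S).obj)).unit.app P
  haveI : Presheaf.IsLocallyInjective (QuotSh.J Scheme.fppfPrecoverage S) ((PresheafOfModules.toPresheaf _).map ψ) :=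
    inferInstanceAs (Presheaf.IsLocallyInjective _ (CategoryTheory.toSheafify (QuotSh.J Scheme.fppfPrecoverage S) P.presheaf))
  haveI : Presheaf.IsLocallySurjective (QuotSh.J Scheme.fppfPrecoverage S) ((PresheafOfModules.toPresheaf _).map ψ) :=
    inferInstanceAs (Presheaf.IsLocallySurjective _ (CategoryTheory.toSheafify (QuotSh.J Scheme.fppfPrecoverage S) P.presheaf))
  exact adequateMod_fppf M fun A a => adequate_of_localIso a ψ (h A a)

end Groth.Agent.H54.AdeqSite
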