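import Groth.Agent.H54.AdeqSite.PieceMV
import Mathlib.Algebra.Homology.HomologicalComplexBiprod
import Mathlib.Algebra.Homology.HomologySequence
import Mathlib.Algebra.Homology.HomologicalComplexAbelian
import Mathlib.AlgebraicGeometry.Morphisms.Affine
import Mathlib.AlgebraicGeometry.Morphisms.QuasiSeparated

/-!
# Adequacy of the homology of complexes of sections over pieces
-/

universe u

open CategoryTheory CategoryTheory.Limits AlgebraicGeometry Opposite

namespace Groth.Agent.H54.Adeq

variable {A : Type u} [CommRing A]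

lemma exact_of_ap (S : ShortComplex (_root_.Adeq.MVF A))
    (h : ∀ B (x : Val S.X₂ B), ap S.g B x = 0 → ∃ y, ap S.f B y = x) : S.Exact := by
  rw [S.exact_iff_epi_kernel_lift]
  refine epi_of_ap fun B z => ?_
  obtain ⟨y, hy⟩ := h B (ap (kernel.ι S.g) B z) (by rw [← ap_comp, kernel.condition, ap_zero])
  refine ⟨y, injective_ap (kernel.ι S.g) B ?_⟩
  rw [← ap_comp, kernel.lift_ι, hy]

lemma adequate_zero {F : _root_.Adeq.MVF A} (h : IsZero F) : _root_.Adeq.adequate A F :=
  (_root_.Adeq.adequate A).prop_of_iso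
    (((IsInitial.ofUniqueHom (fun _ => Sigma.desc fun i : PEmpty.{u + 2} => i.elim)
      fun _ _ => Sigma.hom_ext _ _ fun i : PEmpty.{u + 2} => i.elim).uniqueUpToIso h.isInitial))
    (adequate_sigma (fun i : PEmpty.{u + 2} => i.elim) fun i => i.elim)

lemma adequate_biprod {F G : _root_.Adeq.MVF A} (hF : _root_.Adeq.adequate A F) (hG : _root_.Adeq.adequate A G) :
    _root_.Adeq.adequate A (F ⊞ G) :=
  adequate_extension (ShortComplex.mk biprod.inl biprod.snd biprod.inl_snd)
    (ShortComplex.Splitting.ofHasBinaryBiproduct F G).shortExact hF hG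

/-- The middle of an exact sequence of five adequate functors is adequate. -/
theorem adequate_five {a b c d e : _root_.Adeq.MVF A} (f : a ⟶ b) (g : b ⟶ c) (h : c ⟶ d) (k : d ⟶ e) (w₁ : f ≫ g = 0)
    (w₂ : g ≫ h = 0) (w₃ : h ≫ k = 0) (e₁ : (ShortComplex.mk f g w₁).Exact) (e₂ : (ShortComplex.mk g h w₂).Exact)
    (e₃ : (ShortComplex.mk h k w₃).Exact) (ha : _root_.Adeq.adequate A a) (hb : _root_.Adeq.adequate A b)
    (hd : _root_.Adeq.adequate A d) (he : _root_.Adeq.adequate A e) : _root_.Adeq.adequate A c := by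
  let u : cokernel f ⟶ c := cokernel.desc f g w₁
  let v : c ⟶ kernel k := kernel.lift k h w₃
  have hu : Mono u := e₁.mono_cokernelDesc
  have hv : Epi v := e₃.epi_kernelLift
  have huv : u ≫ v = 0 := by
    apply coequalizer.hom_ext
    rw [← cancel_mono (kernel.ι k), Category.assoc, Category.assoc, kernel.lift_ι]
    show cokernel.π f ≫ u ≫ h = _
    rw [cokernel.π_desc_assoc, w₂, comp_zero, zero_comp]
  refine adequate_extension (ShortComplex.mk u v huv) (ShortComplex.ShortExact.mk' ?_ hu hv)
    (adequate_cokernel f (covered_of_adequate ha) hb) (adequate_kernel k hd he)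
  refine exact_of_ap _ fun B x hx => ?_
  have hh : ap h B x = 0 := by
    rw [← kernel.lift_ι k h w₃, ap_comp]
    show ap (kernel.ι k) B (ap v B x) = 0
    erw [hx]
    exact map_zero _
  obtain ⟨y, hy⟩ := (exact_ap _ e₂ B x).1 hh
  refine ⟨ap (cokernel.π f) B y, ?_⟩
  show ap u B (ap (cokernel.π f) B y) = x
  rw [← ap_comp, cokernel.π_desc]
  exact hy

end Groth.Agent.H54.Adeq

namespace Groth.Agent.H54.AdeqSite.Piece

open Groth.Agent.H54.Adeq

variable {T : Scheme.{u}} {A : CommRingCat.{u}}

local notation "K" => Scheme.fppfPrecoverage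

section Affine

variable {W : Scheme.{u}} [IsAffine W] (q : W ⟶ Spec A) (t : W ⟶ T)

theorem adequate_Φ (N : BigSite.Mod K T) (hN : _root_.Adeq.adequateMod K T N) :
    _root_.Adeq.adequate A ((Φ q t).obj N) := by
  haveI : IsAffineHom q := inferInstance
  exact adequate_toMVF_fppf _ (Push.adequateMod_push _ q (adequateMod_pull t N hN)) A (𝟙 _)

variable {M : BigSite.Mod K T} (I : InjectiveResolution M) (hM : _root_.Adeq.adequateMod K T M)

include hM in
lemma exactAt_affine (n : ℕ) : (((Φ q t).mapHomologicalComplex _).obj I.cocomplex).ExactAt (n + 1) := by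
  rw [HomologicalComplex.exactAt_iff' _ n (n + 1) (n + 1 + 1) (by simp) (by simp)]
  refine exact_of_ap _ fun B x hx => ?_
  haveI : IsAffine (ob q t B).left := inferInstanceAs (IsAffine (pullback (sm B) q))
  exact InjRes.exists_primitive I hM n (ob q t B) x hx

include hM in
theorem adequate_homology_affine (n : ℕ) :
    _root_.Adeq.adequate A ((((Φ q t).mapHomologicalComplex _).obj I.cocomplex).homology n) := by
  cases n with
  | succ n => exact adequate_zero ((exactAt_affine q t I hM n).isZero_homology)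
  | zero =>
    let C := ((Φ q t).mapHomologicalComplex _).obj I.cocomplex
    let e₁ : C.homology 0 ≅ kernel (C.d 0 1) := (CochainComplex.isoHomologyπ₀ C).symm ≪≫
      (C.cyclesIsKernel 0 1 (by simp)).conePointUniqueUpToIso (limit.isLimit _)
    let ι₀ : M ⟶ I.cocomplex.X 0 := I.ι.f 0
    let φ : (Φ q t).obj M ⟶ C.X 0 := (Φ q t).map ι₀
    let θ : (Φ q t).obj M ⟶ kernel (C.d 0 1) := kernel.lift _ φ (by
      show (Φ q t).map ι₀ ≫ (Φ q t).map (I.cocomplex.d 0 1) = 0
      rw [← Functor.map_comp, show ι₀ ≫ I.cocomplex.d 0 1 = 0 from I.ι_f_zero_comp_complex_d, Functor.map_zero])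
    have hθ : θ ≫ kernel.ι (C.d 0 1) = φ := kernel.lift_ι _ _ _
    haveI : Mono ι₀ := inferInstanceAs (Mono (I.ι.f 0))
    haveI : Mono ((SheafOfModules.forget (BigSite.ORing K T)).map ι₀) := inferInstance
    have hinj : ∀ B, Function.Injective (ap φ B) := fun B =>
      PresheafOfModules.injective_of_mono ((SheafOfModules.forget (BigSite.ORing K T)).map ι₀) (op (ob q t B))
    haveI : Mono θ := mono_of_ap fun B x y hxy => hinj B (by
      rw [← hθ, ap_comp, ap_comp]
      exact congrArg _ hxy)
    haveI : Epi θ := epi_of_ap fun B z => by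
      have hz : ap (C.d 0 1) B (ap (kernel.ι (C.d 0 1)) B z) = 0 := by rw [← ap_comp, kernel.condition, ap_zero]
      obtain ⟨k, hk⟩ := exists_kernel_sect (I.cocomplex.d 0 1) (op (ob q t B)) (ap (kernel.ι (C.d 0 1)) B z) hz
      let e := IsLimit.conePointUniqueUpToIso I.isLimitKernelFork (limit.isLimit _)
      refine ⟨e.inv.val.app (op (ob q t B)) k, injective_ap (kernel.ι (C.d 0 1)) B ?_⟩
      rw [← ap_comp, hθ]
      refine Eq.trans ?_ hk
      have he : e.inv ≫ ι₀ = kernel.ι (I.cocomplex.d 0 1) :=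
        IsLimit.conePointUniqueUpToIso_inv_comp I.isLimitKernelFork (limit.isLimit _) WalkingParallelPair.zero
      exact congrArg (fun ψ : kernel (I.cocomplex.d 0 1) ⟶ I.cocomplex.X 0 => ψ.val.app (op (ob q t B)) k) he
    haveI := isIso_of_mono_of_epi θ
    exact (_root_.Adeq.adequate A).prop_of_iso (asIso θ ≪≫ e₁.symm) (adequate_Φ q t M hM)

end Affine

end Groth.Agent.H54.AdeqSite.Piece
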