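import Groth.Agent.H54.AdeqSite.Pieces

/-!
# Gluing sections over pieces
-/

universe u

open CategoryTheory CategoryTheory.Limits AlgebraicGeometry Opposite

namespace Groth.Agent.H54.AdeqSite.Piece

open Groth.Agent.H54.Adeq

variable {T : Scheme.{u}} {A : CommRingCat.{u}} {W W₁ W₂ W₁₂ : Scheme.{u}} (q : W ⟶ Spec A) (t : W ⟶ T)
  (q₁ : W₁ ⟶ Spec A) (t₁ : W₁ ⟶ T) (q₂ : W₂ ⟶ Spec A) (t₂ : W₂ ⟶ T) (q₀ : W₁₂ ⟶ Spec A) (t₀ : W₁₂ ⟶ T)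
  (h₁ : W₁ ⟶ W) (hq₁ : h₁ ≫ q = q₁) (ht₁ : h₁ ≫ t = t₁) (h₂ : W₂ ⟶ W) (hq₂ : h₂ ≫ q = q₂) (ht₂ : h₂ ≫ t = t₂)
  (g₁ : W₁₂ ⟶ W₁) (hqg₁ : g₁ ≫ q₁ = q₀) (htg₁ : g₁ ≫ t₁ = t₀) (g₂ : W₁₂ ⟶ W₂) (hqg₂ : g₂ ≫ q₂ = q₀)
  (htg₂ : g₂ ≫ t₂ = t₀)

local notation "K" => Scheme.fppfPrecoverage

include hqg₁ htg₁ hqg₂ htg₂ in
lemma resO_comp_eq (H : g₁ ≫ h₁ = g₂ ≫ h₂) (B : _root_.Adeq.Alg A) :
    resO q₁ t₁ q₀ t₀ g₁ hqg₁ htg₁ B ≫ resO q t q₁ t₁ h₁ hq₁ ht₁ B =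
      resO q₂ t₂ q₀ t₀ g₂ hqg₂ htg₂ B ≫ resO q t q₂ t₂ h₂ hq₂ ht₂ B := by
  apply Over.OverMorphism.ext
  show resL q₁ q₀ g₁ hqg₁ B ≫ resL q q₁ h₁ hq₁ B = resL q₂ q₀ g₂ hqg₂ B ≫ resL q q₂ h₂ hq₂ B
  apply pullback.hom_ext
  · rw [Category.assoc, Category.assoc, resL_fst, resL_fst, resL_fst, resL_fst]
  · rw [Category.assoc, Category.assoc, resL_snd, resL_snd, reassoc_of% resL_snd q₁ q₀ g₁ hqg₁ B,
      reassoc_of% resL_snd q₂ q₀ g₂ hqg₂ B, H]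

theorem res_comp_eq (H : g₁ ≫ h₁ = g₂ ≫ h₂) :
    res q t q₁ t₁ h₁ hq₁ ht₁ ≫ res q₁ t₁ q₀ t₀ g₁ hqg₁ htg₁ =
      res q t q₂ t₂ h₂ hq₂ ht₂ ≫ res q₂ t₂ q₀ t₀ g₂ hqg₂ htg₂ :=
  NatTrans.ext (funext fun N => Adeq.hom_ext fun B x => by
    rw [NatTrans.comp_app, NatTrans.comp_app, ap_comp, ap_comp]
    show N.val.presheaf.map (resO q₁ t₁ q₀ t₀ g₁ hqg₁ htg₁ B).op (N.val.presheaf.map (resO q t q₁ t₁ h₁ hq₁ ht₁ B).op x) =
      N.val.presheaf.map (resO q₂ t₂ q₀ t₀ g₂ hqg₂ htg₂ B).op (N.val.presheaf.map (resO q t q₂ t₂ h₂ hq₂ ht₂ B).op x)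
    rw [← ConcreteCategory.comp_apply, ← ConcreteCategory.comp_apply, ← Functor.map_comp, ← Functor.map_comp,
      ← op_comp, ← op_comp, resO_comp_eq q t q₁ t₁ q₂ t₂ q₀ t₀ h₁ hq₁ ht₁ h₂ hq₂ ht₂ g₁ hqg₁ htg₁ g₂ hqg₂ htg₂ H])

/-- The cover of a piece by two pieces. -/
noncomputable def two (B : _root_.Adeq.Alg A) : Bool → Over T := fun b => cond b (ob q₁ t₁ B) (ob q₂ t₂ B)

/-- The maps of the cover. -/
noncomputable def twoMap (B : _root_.Adeq.Alg A) : ∀ b, two q₁ t₁ q₂ t₂ B b ⟶ ob q t B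
  | true => resO q t q₁ t₁ h₁ hq₁ ht₁ B
  | false => resO q t q₂ t₂ h₂ hq₂ ht₂ B

variable [IsOpenImmersion h₁] [IsOpenImmersion h₂]

include h₁ h₂ in
lemma isSheafFor_two (hcov : ∀ w, w ∈ Set.range h₁ ∨ w ∈ Set.range h₂) (N : BigSite.Mod K T) (B : _root_.Adeq.Alg A) :
    Presieve.IsSheafFor (N.val.presheaf ⋙ CategoryTheory.forget AddCommGrpCat.{u + 1})
      (Presieve.ofArrows _ (twoMap q t q₁ t₁ q₂ t₂ h₁ hq₁ ht₁ h₂ hq₂ ht₂ B)) := by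
  have e₁ : IsOpenImmersion (resL q q₁ h₁ hq₁ B) :=
    MorphismProperty.of_isPullback (P := @IsOpenImmersion) (isPullback_resL q q₁ h₁ hq₁ B).flip inferInstance
  have e₂ : IsOpenImmersion (resL q q₂ h₂ hq₂ B) :=
    MorphismProperty.of_isPullback (P := @IsOpenImmersion) (isPullback_resL q q₂ h₂ hq₂ B).flip inferInstance
  refine Cartan.isSheafFor_of_cover ((BigSite.toAbMod K T).obj N) (ob q t B) (two q₁ t₁ q₂ t₂ B)
    (twoMap q t q₁ t₁ q₂ t₂ h₁ hq₁ ht₁ h₂ hq₂ ht₂ B) (fun x => ?_) ?_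
  · rcases hcov (pullback.snd (sm B) q x) with ⟨y, hy⟩ | ⟨y, hy⟩
    · obtain ⟨z, hz, -⟩ := Scheme.exists_preimage_of_isPullback (isPullback_resL q q₁ h₁ hq₁ B) x y hy.symm
      exact ⟨true, z, hz⟩
    · obtain ⟨z, hz, -⟩ := Scheme.exists_preimage_of_isPullback (isPullback_resL q q₂ h₂ hq₂ B) x y hy.symm
      exact ⟨false, z, hz⟩
  · rintro (_ | _)
    · exact fppf_hoi _ e₂
    · exact fppf_hoi _ e₁

include g₁ g₂ hqg₁ hqg₂ htg₁ htg₂ in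
theorem res_glue (H : IsPullback g₁ g₂ h₁ h₂) (hcov : ∀ w, w ∈ Set.range h₁ ∨ w ∈ Set.range h₂) (N : BigSite.Mod K T)
    (B : _root_.Adeq.Alg A) (a : Val ((Φ q₁ t₁).obj N) B) (b : Val ((Φ q₂ t₂).obj N) B)
    (hab : ap ((res q₁ t₁ q₀ t₀ g₁ hqg₁ htg₁).app N) B a = ap ((res q₂ t₂ q₀ t₀ g₂ hqg₂ htg₂).app N) B b) :
    ∃ x, ap ((res q t q₁ t₁ h₁ hq₁ ht₁).app N) B x = a ∧ ap ((res q t q₂ t₂ h₂ hq₂ ht₂).app N) B x = b := by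
  change N.val.presheaf.map (resO q₁ t₁ q₀ t₀ g₁ hqg₁ htg₁ B).op a =
    N.val.presheaf.map (resO q₂ t₂ q₀ t₀ g₂ hqg₂ htg₂ B).op b at hab
  let s : ∀ i : Bool, (N.val.presheaf ⋙ CategoryTheory.forget AddCommGrpCat.{u + 1}).obj (op (two q₁ t₁ q₂ t₂ B i)) :=
    fun i => match i with
      | true => a
      | false => b
  have key : ∀ (Z : Over T) (a' : Z ⟶ ob q₁ t₁ B) (b' : Z ⟶ ob q₂ t₂ B),
      a' ≫ resO q t q₁ t₁ h₁ hq₁ ht₁ B = b' ≫ resO q t q₂ t₂ h₂ hq₂ ht₂ B →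
      N.val.presheaf.map a'.op a = N.val.presheaf.map b'.op b := by
    intro Z a' b' e
    let al : Z.left ⟶ pullback (sm B) q₁ := a'.left
    let bl : Z.left ⟶ pullback (sm B) q₂ := b'.left
    have e' : al ≫ resL q q₁ h₁ hq₁ B = bl ≫ resL q q₂ h₂ hq₂ B := congrArg Over.Hom.left e
    have e1 : al ≫ pullback.fst (sm B) q₁ = bl ≫ pullback.fst (sm B) q₂ := by
      simpa only [Category.assoc, resL_fst] using congrArg (fun z => z ≫ pullback.fst (sm B) q) e'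
    have e2 : (al ≫ pullback.snd (sm B) q₁) ≫ h₁ = (bl ≫ pullback.snd (sm B) q₂) ≫ h₂ := by
      simpa only [Category.assoc, resL_snd] using congrArg (fun z => z ≫ pullback.snd (sm B) q) e'
    let w : Z.left ⟶ W₁₂ := H.lift _ _ e2
    have hw₁ : w ≫ g₁ = al ≫ pullback.snd (sm B) q₁ := H.lift_fst _ _ _
    have hw₂ : w ≫ g₂ = bl ≫ pullback.snd (sm B) q₂ := H.lift_snd _ _ _
    let l : Z.left ⟶ pullback (sm B) q₀ := pullback.lift (al ≫ pullback.fst (sm B) q₁) w (by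
      rw [Category.assoc, pullback.condition, ← hqg₁, reassoc_of% hw₁])
    have hwt : w ≫ t₀ = Z.hom := by
      rw [← htg₁, reassoc_of% hw₁]
      exact Over.w a'
    let c : Z ⟶ ob q₀ t₀ B := Over.homMk l (by
      show l ≫ pullback.snd (sm B) q₀ ≫ t₀ = Z.hom
      rw [← Category.assoc, pullback.lift_snd, hwt])
    have c1 : c ≫ resO q₁ t₁ q₀ t₀ g₁ hqg₁ htg₁ B = a' := by
      apply Over.OverMorphism.ext
      show l ≫ resL q₁ q₀ g₁ hqg₁ B = al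
      apply pullback.hom_ext
      · rw [Category.assoc, resL_fst, pullback.lift_fst]
      · rw [Category.assoc, resL_snd, pullback.lift_snd_assoc, hw₁]
    have c2 : c ≫ resO q₂ t₂ q₀ t₀ g₂ hqg₂ htg₂ B = b' := by
      apply Over.OverMorphism.ext
      show l ≫ resL q₂ q₀ g₂ hqg₂ B = bl
      apply pullback.hom_ext
      · rw [Category.assoc, resL_fst, pullback.lift_fst, e1]
      · rw [Category.assoc, resL_snd, pullback.lift_snd_assoc, hw₂]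
    rw [← c1, ← c2, op_comp, op_comp, Functor.map_comp, Functor.map_comp, ConcreteCategory.comp_apply,
      ConcreteCategory.comp_apply, hab]
  obtain ⟨x, hx⟩ := ((Presieve.isSheafFor_arrows_iff _ _).1
    (isSheafFor_two q t q₁ t₁ q₂ t₂ h₁ hq₁ ht₁ h₂ hq₂ ht₂ hcov N B) s (by
      haveI := mono_resO q t q₁ t₁ h₁ hq₁ ht₁ B
      haveI := mono_resO q t q₂ t₂ h₂ hq₂ ht₂ B
      rintro (_ | _) (_ | _) Z gi gj e
      · rw [(cancel_mono (resO q t q₂ t₂ h₂ hq₂ ht₂ B)).1 e]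
      · exact (key Z gj gi e.symm).symm
      · exact key Z gi gj e
      · rw [(cancel_mono (resO q t q₁ t₁ h₁ hq₁ ht₁ B)).1 e])).exists
  exact ⟨x, hx true, hx false⟩

theorem res_separated (hcov : ∀ w, w ∈ Set.range h₁ ∨ w ∈ Set.range h₂) (N : BigSite.Mod K T)
    (B : _root_.Adeq.Alg A) (x : Val ((Φ q t).obj N) B) (e₁ : ap ((res q t q₁ t₁ h₁ hq₁ ht₁).app N) B x = 0)
    (e₂ : ap ((res q t q₂ t₂ h₂ hq₂ ht₂).app N) B x = 0) : x = 0 := by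
  refine (isSheafFor_two q t q₁ t₁ q₂ t₂ h₁ hq₁ ht₁ h₂ hq₂ ht₂ hcov N B).isSeparatedFor.ext ?_
  rintro _ _ ⟨(_ | _)⟩
  · exact e₂.trans (map_zero (N.val.presheaf.map (resO q t q₂ t₂ h₂ hq₂ ht₂ B).op).hom).symm
  · exact e₁.trans (map_zero (N.val.presheaf.map (resO q t q₁ t₁ h₁ hq₁ ht₁ B).op).hom).symm

end Groth.Agent.H54.AdeqSite.Piece
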