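import Groth.Agent.H54.AdeqSite.PieceTop

/-!
# Higher direct images of parasitic adequate modules are parasitic
-/

universe u

open CategoryTheory CategoryTheory.Limits AlgebraicGeometry Opposite

namespace Groth.Agent.H54.Adeq

variable {A : Type u} [CommRing A] {F G : _root_.Adeq.MVF A} {B : _root_.Adeq.Alg A}

lemma subsingleton_val_of_isZero (h : IsZero F) : Subsingleton (Val F B) :=
  subsingleton_of_forall_eq 0 fun x => by
    rw [← ap_id x, h.eq_of_src (𝟙 F) 0, ap_zero]

lemma subsingleton_val_of_iso (e : F ≅ G) (h : Subsingleton (Val G B)) : Subsingleton (Val F B) :=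
  haveI := h
  Function.Injective.subsingleton (injective_ap e.hom B)

lemma subsingleton_val_middle (S : ShortComplex (_root_.Adeq.MVF A)) (hS : S.Exact) (h₁ : Subsingleton (Val S.X₁ B))
    (h₃ : Subsingleton (Val S.X₃ B)) : Subsingleton (Val S.X₂ B) :=
  subsingleton_of_forall_eq 0 fun x => by
    obtain ⟨y, rfl⟩ := (exact_ap S hS B x).1 (Subsingleton.elim _ _)
    rw [Subsingleton.elim y 0, map_zero]

lemma subsingleton_val_biprod (hF : Subsingleton (Val F B)) (hG : Subsingleton (Val G B)) :
    Subsingleton (Val (F ⊞ G) B) :=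
  subsingleton_val_middle (ShortComplex.mk biprod.inl biprod.snd biprod.inl_snd)
    (ShortComplex.Splitting.ofHasBinaryBiproduct F G).shortExact.exact hF hG

end Groth.Agent.H54.Adeq

namespace Groth.Agent.H54.AdeqSite.Piece

open Groth.Agent.H54.Adeq

local notation "K" => Scheme.fppfPrecoverage

section Vanish

variable {T : Scheme.{u}} {A : CommRingCat.{u}} {X : Scheme.{u}} (q : X ⟶ Spec A) (t : X ⟶ T)
  {M : BigSite.Mod K T} (I : InjectiveResolution M) (hM : _root_.Adeq.adequateMod K T M)
  (hP : _root_.Adeq.parasitic K T M) (B : _root_.Adeq.Alg A)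

/-- The homology of the complex of sections over an open vanishes at an algebra. -/
def Van (U : X.Opens) : Prop := ∀ n, Subsingleton (Val ((CO q t I.cocomplex U).homology n) B)

variable [Flat t] [Flat (sm B)]

include hM hP

lemma van_affine (U : X.Opens) (hU : IsAffineOpen U) : Van q t I B U := by
  haveI : IsAffine U.toScheme := hU
  intro n
  cases n with
  | succ n => exact subsingleton_val_of_isZero ((exactAt_affine (U.ι ≫ q) (U.ι ≫ t) I hM n).isZero_homology)
  | zero =>
    let C := CO q t I.cocomplex U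
    refine subsingleton_val_of_iso ((CochainComplex.isoHomologyπ₀ C).symm ≪≫
      (C.cyclesIsKernel 0 1 (by simp)).conePointUniqueUpToIso (limit.isLimit _)) ?_
    refine subsingleton_of_forall_eq 0 fun z => injective_ap (kernel.ι (C.d 0 1)) B ?_
    have hz : ap (C.d 0 1) B (ap (kernel.ι (C.d 0 1)) B z) = 0 := by rw [← ap_comp, kernel.condition, ap_zero]
    let O := ob (U.ι ≫ q) (U.ι ≫ t) B
    obtain ⟨k, hk⟩ := exists_kernel_sect (I.cocomplex.d 0 1) (op O) (ap (kernel.ι (C.d 0 1)) B z) hz
    let e := IsLimit.conePointUniqueUpToIso I.isLimitKernelFork (limit.isLimit _)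
    let ι₀ : M ⟶ I.cocomplex.X 0 := I.ι.f 0
    have he : e.inv ≫ ι₀ = kernel.ι (I.cocomplex.d 0 1) :=
      IsLimit.conePointUniqueUpToIso_inv_comp I.isLimitKernelFork (limit.isLimit _) WalkingParallelPair.zero
    rw [← he] at hk
    rw [map_zero]
    refine hk.symm.trans ?_
    haveI : Flat O.hom := by
      show Flat (pullback.snd (sm B) (U.ι ≫ q) ≫ U.ι ≫ t)
      haveI : Flat (pullback.snd (sm B) (U.ι ≫ q)) := MorphismProperty.pullback_snd _ _ inferInstance
      infer_instance
    have h0 : e.inv.val.app (op O) k = 0 := @Subsingleton.elim _ (hP O inferInstance) _ _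
    show ι₀.val.app (op O) (e.inv.val.app (op O) k) = 0
    rw [h0]
    exact map_zero _

theorem van_iSup (P : X.Opens → Prop) (hinf : ∀ U V, P U → P V → P (U ⊓ V)) (hgood : ∀ U, P U → Van q t I B U)
    (n : ℕ) : ∀ U : Fin n → X.Opens, (∀ i, P (U i)) → Van q t I B (⨆ i, U i) := by
  induction n with
  | zero =>
    intro U _
    rw [iSup_of_empty]
    exact van_affine q t I hM hP B _ (isAffineOpen_bot X)
  | succ n ih =>
    intro U hU
    have e : (⨆ i, U i) = U 0 ⊔ ⨆ i : Fin n, U i.succ := le_antisymm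
      (iSup_le (Fin.cases le_sup_left fun i => le_sup_of_le_right (le_iSup (fun i : Fin n => U i.succ) i)))
      (sup_le (le_iSup U 0) (iSup_le fun i => le_iSup U i.succ))
    rw [e]
    have hUV : Van q t I B (U 0 ⊓ ⨆ i : Fin n, U i.succ) := by
      rw [inf_iSup_eq]
      exact ih _ fun i => hinf _ _ (hU 0) (hU i.succ)
    have hV := ih _ fun i => hU i.succ
    have hS := mv_shortExact q t I.cocomplex (U 0) (⨆ i : Fin n, U i.succ) fun k => I.injective k
    have h₂ : ∀ m, Subsingleton (Val ((mv q t I.cocomplex (U 0) (⨆ i : Fin n, U i.succ)).X₂.homology m) B) := fun m =>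
      haveI : PreservesBinaryBiproducts (HomologicalComplex.homologyFunctor (_root_.Adeq.MVF A) (ComplexShape.up ℕ) m) :=
        preservesBinaryBiproducts_of_preservesBiproducts _
      subsingleton_val_of_iso ((HomologicalComplex.homologyFunctor _ _ m).mapBiprod _ _)
        (subsingleton_val_biprod (hgood _ (hU 0) m) (hV m))
    intro m
    cases m with
    | zero =>
      haveI : Mono (HomologicalComplex.homologyMap (mv q t I.cocomplex (U 0) (⨆ i : Fin n, U i.succ)).f 0) := by
        haveI := hS.mono_f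
        haveI : Mono ((mv q t I.cocomplex (U 0) (⨆ i : Fin n, U i.succ)).f.f 0) :=
          inferInstanceAs (Mono ((HomologicalComplex.eval _ _ 0).map _))
        exact HomologicalComplex.mono_homologyMap_of_mono_of_not_rel _ 0 (fun i hi => by simp at hi)
      haveI := h₂ 0
      exact Function.Injective.subsingleton
        (injective_ap (HomologicalComplex.homologyMap (mv q t I.cocomplex (U 0) (⨆ i : Fin n, U i.succ)).f 0) B)
    | succ m => exact subsingleton_val_middle _ (hS.homology_exact₁ m (m + 1) rfl) (hUV m) (h₂ (m + 1))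

theorem van_compact_le (V : X.Opens) (hV : IsAffineOpen V) (U : X.Opens) (hU : IsCompact (U : Set X)) (h : U ≤ V) :
    Van q t I B U := by
  choose f hf hxf using fun x : U => hV.exists_basicOpen_le x (h x.2)
  obtain ⟨s, hs⟩ := hU.elim_finite_subcover (fun x : U => (X.basicOpen (f x) : Set X))
    (fun x => (X.basicOpen (f x)).2) fun x hx => Set.mem_iUnion.2 ⟨⟨x, hx⟩, hxf ⟨x, hx⟩⟩
  have e : U = ⨆ i : Fin s.card, X.basicOpen (f (s.equivFin.symm i).1) := by
    refine le_antisymm (fun x hx => ?_) (iSup_le fun i => hf _)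
    obtain ⟨y, hy, hxy⟩ := Set.mem_iUnion₂.1 (hs hx)
    exact TopologicalSpace.Opens.mem_iSup.2 ⟨s.equivFin ⟨y, hy⟩, by simpa using hxy⟩
  rw [e]
  refine van_iSup q t I hM hP B (fun W => ∃ g : Γ(X, V), W = X.basicOpen g) ?_ ?_ _ _ fun i => ⟨_, rfl⟩
  · rintro _ _ ⟨g, rfl⟩ ⟨g', rfl⟩
    exact ⟨g * g', (X.basicOpen_mul g g').symm⟩
  · rintro _ ⟨g, rfl⟩
    exact van_affine q t I hM hP B _ (hV.basicOpen g)

theorem van_top [CompactSpace X] [QuasiSeparatedSpace X] : Van q t I B ⊤ := by
  choose W hW hxW _ using fun x : X => exists_isAffineOpen_mem_and_subset (x := x) (U := (⊤ : X.Opens)) trivial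
  obtain ⟨s, hs⟩ := isCompact_univ.elim_finite_subcover (fun x => (W x : Set X)) (fun x => (W x).2)
    fun x _ => Set.mem_iUnion.2 ⟨x, hxW x⟩
  have e : (⊤ : X.Opens) = ⨆ i : Fin s.card, W (s.equivFin.symm i).1 := by
    refine (eq_top_iff.2 fun x _ => ?_).symm
    obtain ⟨y, hy, hxy⟩ := Set.mem_iUnion₂.1 (hs (Set.mem_univ x))
    exact TopologicalSpace.Opens.mem_iSup.2 ⟨s.equivFin ⟨y, hy⟩, by simpa using hxy⟩
  rw [e]
  refine van_iSup q t I hM hP B (fun U => IsCompact (U : Set X) ∧ ∃ V, IsAffineOpen V ∧ U ≤ V) ?_ ?_ _ _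
    fun i => ⟨(hW _).isCompact, _, hW _, le_rfl⟩
  · rintro U V ⟨hU, U', hU', hle⟩ ⟨hV, -⟩
    exact ⟨QuasiSeparatedSpace.inter_isCompact _ _ U.2 hU V.2 hV, U', hU', inf_le_left.trans hle⟩
  · rintro U ⟨hU, V, hV, hle⟩
    exact van_compact_le q t I hM hP B V hV U hU hle

end Vanish

theorem parasitic_Rpush {S T : Scheme.{u}} (f : T ⟶ S) [QuasiCompact f] [QuasiSeparated f]
    [HasInjectiveResolutions (BigSite.Mod K T)] (M : BigSite.Mod K T) (hM : _root_.Adeq.adequateMod K T M)
    (hP : _root_.Adeq.parasitic K T M) (i : ℕ) :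
    _root_.Adeq.parasitic K S ((BigSite.RpushMod K f i).obj M) := by
  choose W hW hxW _ using fun s : S => exists_isAffineOpen_mem_and_subset (x := s) (U := (⊤ : S.Opens)) trivial
  refine parasitic_of_affine_cover _ (adequateMod_Rpush f M hM i) _ W hW
    (top_le_iff.1 fun s _ => TopologicalSpace.Opens.mem_iSup.2 ⟨s, hxW s⟩) fun s => ?_
  let I := injectiveResolution M
  let A := Γ(S, W s)
  let a : Spec A ⟶ S := (hW s).fromSpec
  let B₀ : _root_.Adeq.Alg A := CommAlgCat.of A A
  haveI : CompactSpace ↑(pullback a f) := QuasiCompact.compactSpace_of_compactSpace (pullback.fst a f)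
  haveI : QuasiSeparatedSpace ↑(pullback a f) := quasiSeparatedSpace_of_quasiSeparated (pullback.fst a f)
  haveI : Flat (sm B₀) := by
    show Flat (Spec.map (CommRingCat.ofHom (RingHom.id (A : Type u))) ≫ 𝟙 (Spec A))
    rw [CommRingCat.ofHom_id, Spec.map_id]
    exact MorphismProperty.comp_mem _ _ _ inferInstance inferInstance
  haveI : Flat (pullback.snd a f) := inferInstance
  have h₁ : Subsingleton (Val ((_root_.Adeq.toMVFPre K a).obj (Eh f I i)) B₀) :=
    subsingleton_val_of_iso (ehIso f I i a) (van_top (pullback.fst a f) (pullback.snd a f) I hM hP B₀ i)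
  let L := PresheafOfModules.sheafification.{u + 1} (𝟙 (BigSite.ORing K S).obj)
  let ψ : Eh f I i ⟶ (L.obj (Eh f I i)).val :=
    (PresheafOfModules.sheafificationAdjunction (𝟙 (BigSite.ORing K S).obj)).unit.app (Eh f I i)
  haveI : Presheaf.IsLocallyInjective (QuotSh.J K S) ((PresheafOfModules.toPresheaf _).map ψ) :=
    inferInstanceAs (Presheaf.IsLocallyInjective _ (CategoryTheory.toSheafify (QuotSh.J K S) (Eh f I i).presheaf))
  haveI : Presheaf.IsLocallySurjective (QuotSh.J K S) ((PresheafOfModules.toPresheaf _).map ψ) :=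
    inferInstanceAs (Presheaf.IsLocallySurjective _ (CategoryTheory.toSheafify (QuotSh.J K S) (Eh f I i).presheaf))
  have h₂ : Subsingleton (Val ((_root_.Adeq.toMVF K a).obj (L.obj (Eh f I i))) B₀) :=
    Function.Surjective.subsingleton (surjective_ap_local a ψ (adequate_Eh f I i hM A a) B₀)
  have h₃ : Subsingleton (Val ((_root_.Adeq.toMVF K a).obj ((BigSite.RpushMod K f i).obj M)) B₀) :=
    subsingleton_val_of_iso ((_root_.Adeq.toMVF K a).mapIso (rpushIso f I i)) h₂
  let e : (_root_.Adeq.specOver a).obj (op B₀) ≅ (BigSite.zarIncl S).obj (W s) :=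
    Over.isoMk (hW s).isoSpec.symm (by
      show (hW s).isoSpec.inv ≫ (W s).ι = Spec.map (CommRingCat.ofHom (RingHom.id _)) ≫ a
      rw [CommRingCat.ofHom_id, Spec.map_id, Category.id_comp]
      exact (hW s).isoSpec_inv_ι)
  exact @Equiv.subsingleton _ _
    ((((BigSite.RpushMod K f i).obj M).val.presheaf.mapIso e.op).addCommGroupIsoToAddEquiv.toEquiv) h₃

end Groth.Agent.H54.AdeqSite.Piece
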