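import Groth.Agent.H54.AdeqSite.PieceH

/-!
# Mayer–Vietoris and adequacy of higher direct images
-/

universe u

open CategoryTheory CategoryTheory.Limits AlgebraicGeometry Opposite

namespace Groth.Agent.H54.AdeqSite.Piece

open Groth.Agent.H54.Adeq

variable {T : Scheme.{u}} {A : CommRingCat.{u}}

local notation "K" => Scheme.fppfPrecoverage

section Opens

variable {X : Scheme.{u}} (q : X ⟶ Spec A) (t : X ⟶ T) (Kc : CochainComplex (BigSite.Mod Scheme.fppfPrecoverage T) ℕ)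

/-- The functor of sections over an open. -/
noncomputable abbrev ΦO (U : X.Opens) : BigSite.Mod K T ⥤ _root_.Adeq.MVF A := Φ (U.ι ≫ q) (U.ι ≫ t)

/-- The complex of sections over an open. -/
noncomputable abbrev CO (U : X.Opens) : CochainComplex (_root_.Adeq.MVF A) ℕ :=
  ((ΦO q t U).mapHomologicalComplex _).obj Kc

/-- Restriction to a smaller open. -/
noncomputable def rO {U V : X.Opens} (h : V ≤ U) : ΦO (A := A) q t U ⟶ ΦO q t V :=
  res (U.ι ≫ q) (U.ι ≫ t) (V.ι ≫ q) (V.ι ≫ t) (X.homOfLE h)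
    (by rw [← Category.assoc, Scheme.homOfLE_ι]) (by rw [← Category.assoc, Scheme.homOfLE_ι])

/-- Restriction on complexes. -/
noncomputable def rC {U V : X.Opens} (h : V ≤ U) : CO q t Kc U ⟶ CO q t Kc V :=
  (NatTrans.mapHomologicalComplex (rO q t h) _).app Kc

lemma rC_comp_eq {U V V' W : X.Opens} (h₁ : V ≤ U) (h₂ : V' ≤ U) (g₁ : W ≤ V) (g₂ : W ≤ V') :
    rC q t Kc h₁ ≫ rC q t Kc g₁ = rC q t Kc h₂ ≫ rC q t Kc g₂ := by
  refine HomologicalComplex.hom_ext _ _ fun n => ?_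
  refine congrArg (fun α => NatTrans.app α (Kc.X n)) (res_comp_eq _ _ _ _ _ _ _ _ _ _ _ _ _ _ _ _ _ _ _ _ ?_)
  rw [Scheme.homOfLE_homOfLE, Scheme.homOfLE_homOfLE]

variable (U V : X.Opens)

/-- The Mayer–Vietoris sequence. -/
noncomputable def mv : ShortComplex (CochainComplex (_root_.Adeq.MVF A) ℕ) :=
  ShortComplex.mk
    (biprod.lift (rC q t Kc (le_sup_left : U ≤ U ⊔ V)) (rC q t Kc (le_sup_right : V ≤ U ⊔ V)))
    (biprod.fst ≫ rC q t Kc (inf_le_left : U ⊓ V ≤ U) - biprod.snd ≫ rC q t Kc (inf_le_right : U ⊓ V ≤ V))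
    (by rw [Preadditive.comp_sub, biprod.lift_fst_assoc, biprod.lift_snd_assoc, sub_eq_zero]
        exact rC_comp_eq q t Kc _ _ _ _)

theorem mv_shortExact (hKc : ∀ n, Injective (Kc.X n)) : (mv q t Kc U V).ShortExact := by
  refine HomologicalComplex.shortExact_of_degreewise_shortExact _ fun n => ?_
  let P := CO q t Kc U
  let Q := CO q t Kc V
  let p : (P ⊞ Q).X n ⟶ (ΦO q t U).obj (Kc.X n) := (biprod.fst : P ⊞ Q ⟶ P).f n
  let p' : (P ⊞ Q).X n ⟶ (ΦO q t V).obj (Kc.X n) := (biprod.snd : P ⊞ Q ⟶ Q).f n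
  let i : (ΦO q t U).obj (Kc.X n) ⟶ (P ⊞ Q).X n := (biprod.inl : P ⟶ P ⊞ Q).f n
  let i' : (ΦO q t V).obj (Kc.X n) ⟶ (P ⊞ Q).X n := (biprod.inr : Q ⟶ P ⊞ Q).f n
  have htot : p ≫ i + p' ≫ i' = 𝟙 _ := congrArg (fun φ => HomologicalComplex.Hom.f φ n) (biprod.total (X := P) (Y := Q))
  have hext : ∀ B (z z' : Val ((P ⊞ Q).X n) B), ap p B z = ap p B z' → ap p' B z = ap p' B z' → z = z' := by
    intro B z z' e e'
    rw [← ap_id z, ← ap_id z', ← htot, ap_add, ap_add, ap_comp, ap_comp, ap_comp, ap_comp, e, e']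
  let f₀ : (ΦO q t (U ⊔ V)).obj (Kc.X n) ⟶ (P ⊞ Q).X n := (mv q t Kc U V).f.f n
  let g₀ : (P ⊞ Q).X n ⟶ (ΦO q t (U ⊓ V)).obj (Kc.X n) := (mv q t Kc U V).g.f n
  have hf : f₀ ≫ p = (rO q t (le_sup_left : U ≤ U ⊔ V)).app (Kc.X n) :=
    congrArg (fun φ => HomologicalComplex.Hom.f φ n)
      (biprod.lift_fst (rC q t Kc (le_sup_left : U ≤ U ⊔ V)) (rC q t Kc (le_sup_right : V ≤ U ⊔ V)))
  have hf' : f₀ ≫ p' = (rO q t (le_sup_right : V ≤ U ⊔ V)).app (Kc.X n) :=
    congrArg (fun φ => HomologicalComplex.Hom.f φ n)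
      (biprod.lift_snd (rC q t Kc (le_sup_left : U ≤ U ⊔ V)) (rC q t Kc (le_sup_right : V ≤ U ⊔ V)))
  have hg : g₀ = p ≫ (rO q t (inf_le_left : U ⊓ V ≤ U)).app (Kc.X n) -
      p' ≫ (rO q t (inf_le_right : U ⊓ V ≤ V)).app (Kc.X n) := rfl
  have hg' : i ≫ g₀ = (rO q t (inf_le_left : U ⊓ V ≤ U)).app (Kc.X n) := by
    have h1 : i ≫ p = 𝟙 _ := congrArg (fun φ => HomologicalComplex.Hom.f φ n) (biprod.inl_fst (X := P) (Y := Q))
    have h2 : i ≫ p' = 0 := congrArg (fun φ => HomologicalComplex.Hom.f φ n) (biprod.inl_snd (X := P) (Y := Q))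
    rw [hg, Preadditive.comp_sub, ← Category.assoc, ← Category.assoc, h1, h2, zero_comp, sub_zero]
    exact Category.id_comp _
  have hcov : ∀ w, w ∈ Set.range (X.homOfLE (le_sup_left : U ≤ U ⊔ V)) ∨
      w ∈ Set.range (X.homOfLE (le_sup_right : V ≤ U ⊔ V)) := by
    rintro ⟨w, hw | hw⟩
    · exact Or.inl ⟨⟨w, hw⟩, Subtype.ext (by simp [Scheme.homOfLE_apply])⟩
    · exact Or.inr ⟨⟨w, hw⟩, Subtype.ext (by simp [Scheme.homOfLE_apply])⟩
  have hmono : Mono ((mv q t Kc U V).f.f n) := mono_of_ap fun B => (injective_iff_map_eq_zero _).2 fun x hx => by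
    refine res_separated _ _ _ _ _ _ (X.homOfLE (le_sup_left : U ≤ U ⊔ V))
      (by rw [← Category.assoc, Scheme.homOfLE_ι]) (by rw [← Category.assoc, Scheme.homOfLE_ι])
      (X.homOfLE (le_sup_right : V ≤ U ⊔ V))
      (by rw [← Category.assoc, Scheme.homOfLE_ι]) (by rw [← Category.assoc, Scheme.homOfLE_ι]) hcov (Kc.X n) B x ?_ ?_
    · show ap ((rO q t (le_sup_left : U ≤ U ⊔ V)).app (Kc.X n)) B x = 0
      rw [← hf, ap_comp]
      exact (congrArg _ hx).trans (map_zero _)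
    · show ap ((rO q t (le_sup_right : V ≤ U ⊔ V)).app (Kc.X n)) B x = 0
      rw [← hf', ap_comp]
      exact (congrArg _ hx).trans (map_zero _)
  have hepi : Epi ((mv q t Kc U V).g.f n) := epi_of_ap fun B y => by
    haveI := hKc n
    obtain ⟨x, hx⟩ := surjective_res _ _ _ _ (X.homOfLE (inf_le_left : U ⊓ V ≤ U))
      (by rw [← Category.assoc, Scheme.homOfLE_ι]) (by rw [← Category.assoc, Scheme.homOfLE_ι]) (Kc.X n) B y
    refine ⟨ap i B x, ?_⟩
    show ap g₀ B (ap i B x) = y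
    rw [← ap_comp, hg']
    exact hx
  refine ShortComplex.ShortExact.mk' ?_ hmono hepi
  refine exact_of_ap _ fun B z hz => ?_
  change ap g₀ B z = 0 at hz
  rw [hg, ap_sub, sub_eq_zero, ap_comp, ap_comp] at hz
  obtain ⟨x, hx, hx'⟩ := res_glue _ _ _ _ _ _ _ _ (X.homOfLE (le_sup_left : U ≤ U ⊔ V))
    (by rw [← Category.assoc, Scheme.homOfLE_ι]) (by rw [← Category.assoc, Scheme.homOfLE_ι])
    (X.homOfLE (le_sup_right : V ≤ U ⊔ V))
    (by rw [← Category.assoc, Scheme.homOfLE_ι]) (by rw [← Category.assoc, Scheme.homOfLE_ι]) _ _ _ _ _ _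
    (isPullback_opens_inf_le (le_sup_left : U ≤ U ⊔ V) (le_sup_right : V ≤ U ⊔ V)) hcov (Kc.X n) B _ _ hz
  refine ⟨x, hext B _ _ ?_ ?_⟩
  · show ap p B (ap f₀ B x) = _
    rw [← ap_comp, hf]
    exact hx
  · show ap p' B (ap f₀ B x) = _
    rw [← ap_comp, hf']
    exact hx'

/-- All homology of the complex of sections over an open is adequate. -/
def Good : Prop := ∀ n, _root_.Adeq.adequate A ((CO (A := A) q t Kc U).homology n)

variable {U V} in
theorem good_sup (hKc : ∀ n, Injective (Kc.X n)) (hU : Good q t Kc U) (hV : Good q t Kc V) (hUV : Good q t Kc (U ⊓ V)) :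
    Good q t Kc (U ⊔ V) := by
  have hS := mv_shortExact q t Kc U V hKc
  have h₂ : ∀ n, _root_.Adeq.adequate A ((mv q t Kc U V).X₂.homology n) := fun n =>
    haveI : PreservesBinaryBiproducts (HomologicalComplex.homologyFunctor (_root_.Adeq.MVF A) (ComplexShape.up ℕ) n) :=
      preservesBinaryBiproducts_of_preservesBiproducts _
    (_root_.Adeq.adequate A).prop_of_iso
      ((HomologicalComplex.homologyFunctor _ _ n).mapBiprod (CO q t Kc U) (CO q t Kc V)).symm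
      (adequate_biprod (hU n) (hV n))
  intro n
  cases n with
  | zero =>
    haveI : Mono (HomologicalComplex.homologyMap (mv q t Kc U V).f 0) := by
      haveI := hS.mono_f
      haveI : Mono ((mv q t Kc U V).f.f 0) := inferInstanceAs (Mono ((HomologicalComplex.eval _ _ 0).map _))
      exact HomologicalComplex.mono_homologyMap_of_mono_of_not_rel _ 0 (fun i hi => by simp at hi)
    let e := (hS.homology_exact₂ 0).fIsKernel
    exact (_root_.Adeq.adequate A).prop_of_iso (e.conePointUniqueUpToIso (limit.isLimit _)).symm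
      (adequate_kernel _ (h₂ 0) (hUV 0))
  | succ n =>
    exact adequate_five _ _ _ _ _ _ _ (hS.homology_exact₃ n (n + 1) rfl) (hS.homology_exact₁ n (n + 1) rfl)
      (hS.homology_exact₂ (n + 1)) (h₂ n) (hUV n) (h₂ (n + 1)) (hUV (n + 1))

end Opens

end Groth.Agent.H54.AdeqSite.Piece
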