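import Groth.Agent.H54.AdeqSite.PieceR
import Mathlib.AlgebraicGeometry.Morphisms.QuasiSeparated

/-!
# Higher direct images of adequate modules
-/

universe u

open CategoryTheory CategoryTheory.Limits AlgebraicGeometry Opposite

namespace Groth.Agent.H54.AdeqSite.Piece

open Groth.Agent.H54.Adeq

local notation "K" => Scheme.fppfPrecoverage

section Induction

variable {T : Scheme.{u}} {A : CommRingCat.{u}} {X : Scheme.{u}} (q : X ⟶ Spec A) (t : X ⟶ T)
  {M : BigSite.Mod K T} (I : InjectiveResolution M) (hM : _root_.Adeq.adequateMod K T M)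

include hM

lemma good_affine (U : X.Opens) (hU : IsAffineOpen U) : Good q t I.cocomplex U := fun n =>
  haveI : IsAffine U.toScheme := hU
  adequate_homology_affine (U.ι ≫ q) (U.ι ≫ t) I hM n

theorem good_iSup (P : X.Opens → Prop) (hinf : ∀ U V, P U → P V → P (U ⊓ V)) (hgood : ∀ U, P U → Good q t I.cocomplex U)
    (n : ℕ) : ∀ U : Fin n → X.Opens, (∀ i, P (U i)) → Good q t I.cocomplex (⨆ i, U i) := by
  induction n with
  | zero =>
    intro U _
    rw [iSup_of_empty]
    exact good_affine q t I hM _ (isAffineOpen_bot X)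
  | succ n ih =>
    intro U hU
    have e : (⨆ i, U i) = U 0 ⊔ ⨆ i : Fin n, U i.succ := le_antisymm
      (iSup_le (Fin.cases le_sup_left fun i => le_sup_of_le_right (le_iSup (fun i : Fin n => U i.succ) i)))
      (sup_le (le_iSup U 0) (iSup_le fun i => le_iSup U i.succ))
    rw [e]
    refine good_sup q t I.cocomplex (fun k => I.injective k) (hgood _ (hU 0)) (ih _ fun i => hU i.succ) ?_
    rw [inf_iSup_eq]
    exact ih _ fun i => hinf _ _ (hU 0) (hU i.succ)

theorem good_compact_le (V : X.Opens) (hV : IsAffineOpen V) (U : X.Opens) (hU : IsCompact (U : Set X)) (h : U ≤ V) :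
    Good q t I.cocomplex U := by
  choose f hf hxf using fun x : U => hV.exists_basicOpen_le x (h x.2)
  obtain ⟨s, hs⟩ := hU.elim_finite_subcover (fun x : U => (X.basicOpen (f x) : Set X))
    (fun x => (X.basicOpen (f x)).2) fun x hx => Set.mem_iUnion.2 ⟨⟨x, hx⟩, hxf ⟨x, hx⟩⟩
  have e : U = ⨆ i : Fin s.card, X.basicOpen (f (s.equivFin.symm i).1) := by
    refine le_antisymm (fun x hx => ?_) (iSup_le fun i => hf _)
    obtain ⟨y, hy, hxy⟩ := Set.mem_iUnion₂.1 (hs hx)
    exact TopologicalSpace.Opens.mem_iSup.2 ⟨s.equivFin ⟨y, hy⟩, by simpa using hxy⟩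
  rw [e]
  refine good_iSup q t I hM (fun W => ∃ g : Γ(X, V), W = X.basicOpen g) ?_ ?_ _ _ fun i => ⟨_, rfl⟩
  · rintro _ _ ⟨g, rfl⟩ ⟨g', rfl⟩
    exact ⟨g * g', (X.basicOpen_mul g g').symm⟩
  · rintro _ ⟨g, rfl⟩
    exact good_affine q t I hM _ (hV.basicOpen g)

theorem good_top [CompactSpace X] [QuasiSeparatedSpace X] : Good q t I.cocomplex ⊤ := by
  choose W hW hxW _ using fun x : X => exists_isAffineOpen_mem_and_subset (x := x) (U := (⊤ : X.Opens)) trivial
  obtain ⟨s, hs⟩ := isCompact_univ.elim_finite_subcover (fun x => (W x : Set X)) (fun x => (W x).2)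
    fun x _ => Set.mem_iUnion.2 ⟨x, hxW x⟩
  have e : (⊤ : X.Opens) = ⨆ i : Fin s.card, W (s.equivFin.symm i).1 := by
    refine (eq_top_iff.2 fun x _ => ?_).symm
    obtain ⟨y, hy, hxy⟩ := Set.mem_iUnion₂.1 (hs (Set.mem_univ x))
    exact TopologicalSpace.Opens.mem_iSup.2 ⟨s.equivFin ⟨y, hy⟩, by simpa using hxy⟩
  rw [e]
  refine good_iSup q t I hM (fun U => IsCompact (U : Set X) ∧ ∃ V, IsAffineOpen V ∧ U ≤ V) ?_ ?_ _ _
    fun i => ⟨(hW _).isCompact, _, hW _, le_rfl⟩
  · rintro U V ⟨hU, U', hU', hle⟩ ⟨hV, -⟩
    exact ⟨QuasiSeparatedSpace.inter_isCompact _ _ U.2 hU V.2 hV, U', hU', inf_le_left.trans hle⟩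
  · rintro U ⟨hU, V, hV, hle⟩
    exact good_compact_le q t I hM V hV U hU hle

end Induction

section Top

lemma proj_fst {S T : Scheme.{u}} {f : T ⟶ S} {A : CommRingCat.{u}} {a : Spec A ⟶ S} (B : _root_.Adeq.Alg A) :
    Push.proj (f := f) (a := a) B ≫ pullback.fst a f =
      pullback.fst _ _ ≫ Spec.map (CommRingCat.ofHom (algebraMap A (B : Type u))) :=
  pullback.lift_fst _ _ _

lemma proj_snd {S T : Scheme.{u}} {f : T ⟶ S} {A : CommRingCat.{u}} {a : Spec A ⟶ S} (B : _root_.Adeq.Alg A) :
    Push.proj (f := f) (a := a) B ≫ pullback.snd a f = pullback.snd _ _ :=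
  pullback.lift_snd _ _ _

variable {S T : Scheme.{u}} (f : T ⟶ S) {A : CommRingCat.{u}} (a : Spec A ⟶ S)

/-- The piece functor of the whole base change. -/
noncomputable abbrev ΦT : BigSite.Mod K T ⥤ _root_.Adeq.MVF A :=
  ΦO (pullback.fst a f) (pullback.snd a f) ⊤

/-- Comparison of base changes, as schemes. -/
noncomputable def topL (B : _root_.Adeq.Alg A) :
    Push.PB f a B ⟶ pullback (sm B) ((⊤ : (pullback a f).Opens).ι ≫ pullback.fst a f) :=
  pullback.lift (pullback.fst _ _) (Push.proj B ≫ (pullback a f).topIso.inv) (by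
    rw [Category.assoc, ← Scheme.topIso_hom, Iso.inv_hom_id_assoc, Push.proj, pullback.lift_fst]
    exact congrArg (pullback.fst _ _ ≫ ·) (Category.comp_id _))

lemma top_condition (B : _root_.Adeq.Alg A) :
    pullback.fst (sm B) ((⊤ : (pullback a f).Opens).ι ≫ pullback.fst a f) ≫
        Spec.map (CommRingCat.ofHom (algebraMap A (B : Type u))) =
      pullback.snd (sm B) ((⊤ : (pullback a f).Opens).ι ≫ pullback.fst a f) ≫
        (⊤ : (pullback a f).Opens).ι ≫ pullback.fst a f :=
  (congrArg (pullback.fst _ _ ≫ ·) (Category.comp_id _).symm).trans pullback.condition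

instance (B : _root_.Adeq.Alg A) : IsIso (topL f a B) := by
  refine ⟨⟨pullback.lift (pullback.fst _ _) (pullback.snd _ _ ≫ (⊤ : (pullback a f).Opens).ι ≫ pullback.snd a f) ?_, ?_, ?_⟩⟩
  · rw [Category.assoc, Category.assoc, ← pullback.condition, ← Category.assoc, top_condition f a B]
    simp only [Category.assoc]
  · apply pullback.hom_ext
    · rw [Category.assoc, Category.id_comp, pullback.lift_fst, topL, pullback.lift_fst]
    · rw [Category.assoc, Category.id_comp, pullback.lift_snd, topL, pullback.lift_snd_assoc, Category.assoc,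
        ← Scheme.topIso_hom, Iso.inv_hom_id_assoc, Push.proj, pullback.lift_snd]
  · apply pullback.hom_ext
    · rw [Category.assoc, Category.id_comp, topL, pullback.lift_fst, pullback.lift_fst]
    · rw [Category.assoc, Category.id_comp, topL, pullback.lift_snd, ← Category.assoc, Iso.comp_inv_eq,
        Scheme.topIso_hom]
      apply pullback.hom_ext
      · refine (Category.assoc _ _ _).trans ((congrArg _ (proj_fst B)).trans ?_)
        rw [pullback.lift_fst_assoc]
        exact (top_condition f a B).trans (Category.assoc _ _ _).symm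
      · exact (Category.assoc _ _ _).trans (((congrArg _ (proj_snd B)).trans (pullback.lift_snd _ _ _)).trans
          (Category.assoc _ _ _).symm)

/-- Comparison of base changes. -/
noncomputable def topO (B : _root_.Adeq.Alg A) : (Over.pullback f).obj ((_root_.Adeq.specOver a).obj (op B)) ⟶
    ob ((⊤ : (pullback a f).Opens).ι ≫ pullback.fst a f) ((⊤ : (pullback a f).Opens).ι ≫ pullback.snd a f) B :=
  Over.homMk (topL f a B) (by
    show topL f a B ≫ pullback.snd _ _ ≫ _ ≫ _ = pullback.snd (Spec.map (CommRingCat.ofHom (algebraMap A (B : Type u))) ≫ a) f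
    rw [topL, pullback.lift_snd_assoc, Category.assoc, ← Scheme.topIso_hom, Iso.inv_hom_id_assoc, Push.proj,
      pullback.lift_snd])

instance (B : _root_.Adeq.Alg A) : IsIso (topO f a B) := by
  haveI : IsIso ((Over.forget T).map (topO f a B)) := inferInstanceAs (IsIso (topL f a B))
  exact isIso_of_reflects_iso _ (Over.forget T)

/-- Comparison of functors. -/
noncomputable def topCmp : ΦT f a ⟶ BigSite.pushMod K f ⋙ _root_.Adeq.toMVF K a where
  app N := mkHom (fun B =>
    { toFun := fun x => N.val.presheaf.map (topO f a B).op x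
      map_add' := fun x y => map_add (N.val.presheaf.map (topO f a B).op).hom x y
      map_smul' := fun b x => by
        refine (N.val.map_smul (topO f a B).op
          (ULift.up ((pullback.fst (sm B) ((⊤ : (pullback a f).Opens).ι ≫ pullback.fst a f)).appTop
            ((Scheme.ΓSpecIso (CommRingCat.of (B : Type u))).inv b))) x).trans ?_
        congr 1
        apply ULift.ext
        show ((pullback.fst (sm B) ((⊤ : (pullback a f).Opens).ι ≫ pullback.fst a f)).appTop ≫ (topL f a B).appTop)
              ((Scheme.ΓSpecIso (CommRingCat.of (B : Type u))).inv b) =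
          (pullback.fst (Spec.map (CommRingCat.ofHom (algebraMap A (B : Type u))) ≫ a) f).appTop
            ((Scheme.ΓSpecIso (CommRingCat.of (B : Type u))).inv b)
        rw [← Scheme.Hom.comp_appTop, topL, pullback.lift_fst] })
    fun B B' g x => by
      show N.val.presheaf.map (topO f a B').op (N.val.presheaf.map (obMap _ _ g).op x) =
        N.val.presheaf.map ((Over.pullback f).map ((_root_.Adeq.specOver a).map g.op)).op
          (N.val.presheaf.map (topO f a B).op x)
      rw [← ConcreteCategory.comp_apply, ← ConcreteCategory.comp_apply, ← Functor.map_comp, ← Functor.map_comp,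
        ← op_comp, ← op_comp]
      refine congrArg (fun r => N.val.presheaf.map (Quiver.Hom.op r) x) (Over.OverMorphism.ext ?_)
      show topL f a B' ≫ obMapL _ g =
        pullback.lift (pullback.fst _ _ ≫ Spec.map (CommRingCat.ofHom g.hom.toRingHom)) (pullback.snd _ _) _ ≫ topL f a B
      apply pullback.hom_ext
      · rw [Category.assoc, Category.assoc, obMapL, pullback.lift_fst, topL, pullback.lift_fst_assoc, topL,
          pullback.lift_fst, pullback.lift_fst]
      · rw [Category.assoc, Category.assoc, obMapL, pullback.lift_snd, topL, pullback.lift_snd, topL, pullback.lift_snd,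
          ← Category.assoc, cancel_mono]
        apply pullback.hom_ext
        · rw [Category.assoc, proj_fst, proj_fst, pullback.lift_fst_assoc, Category.assoc, ← Spec.map_comp]
          congr 2
          exact CommRingCat.hom_ext (RingHom.ext fun r => (g.hom.commutes r).symm)
        · rw [Category.assoc, proj_snd, proj_snd, pullback.lift_snd]
  naturality N N' φ := Adeq.hom_ext fun B x =>
    (PresheafOfModules.naturality_apply φ.val (topO f a B).op x).symm

instance : IsIso (topCmp f a) := by
  haveI : ∀ N, IsIso ((topCmp f a).app N) := fun N => by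
    have hb : ∀ B, Function.Bijective (ap ((topCmp f a).app N) B) := fun B =>
      ConcreteCategory.bijective_of_isIso (N.val.presheaf.map (topO f a B).op)
    have : Mono ((topCmp f a).app N) := mono_of_ap fun B => (hb B).1
    have : Epi ((topCmp f a).app N) := epi_of_ap fun B => (hb B).2
    exact isIso_of_mono_of_epi _
  exact NatIso.isIso_of_isIso_app _

end Top

section Rpush

variable {S T : Scheme.{u}} (f : T ⟶ S) {M : BigSite.Mod Scheme.fppfPrecoverage T} (I : InjectiveResolution M) (i : ℕ)

/-- The homology presheaf computing a higher direct image. -/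
noncomputable def Eh : PresheafOfModules.{u + 1} (BigSite.ORing Scheme.fppfPrecoverage S).obj :=
  (((SheafOfModules.forget (BigSite.ORing Scheme.fppfPrecoverage S)).mapHomologicalComplex (ComplexShape.up ℕ)).obj
    (((BigSite.pushMod Scheme.fppfPrecoverage f).mapHomologicalComplex (ComplexShape.up ℕ)).obj I.cocomplex)).homology i

/-- A higher direct image is the sheafification of the homology presheaf. -/
noncomputable def rpushIso [HasInjectiveResolutions (BigSite.Mod Scheme.fppfPrecoverage T)] :
    (BigSite.RpushMod Scheme.fppfPrecoverage f i).obj M ≅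
      (PresheafOfModules.sheafification.{u + 1} (𝟙 (BigSite.ORing Scheme.fppfPrecoverage S).obj)).obj (Eh f I i) := by
  let D := ((BigSite.pushMod Scheme.fppfPrecoverage f).mapHomologicalComplex (ComplexShape.up ℕ)).obj I.cocomplex
  let L := PresheafOfModules.sheafification.{u + 1} (𝟙 (BigSite.ORing Scheme.fppfPrecoverage S).obj)
  let adj := PresheafOfModules.sheafificationAdjunction.{u + 1} (𝟙 (BigSite.ORing Scheme.fppfPrecoverage S).obj)
  haveI : L.IsLeftAdjoint := adj.isLeftAdjoint
  haveI : L.PreservesHomology := inferInstance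
  let E := ((SheafOfModules.forget (BigSite.ORing Scheme.fppfPrecoverage S)).mapHomologicalComplex (ComplexShape.up ℕ)).obj D
  exact I.isoRightDerivedObj _ i ≪≫ (HomologicalComplex.homologyFunctor _ _ i).mapIso
      (HomologicalComplex.Hom.isoOfComponents (fun n => ((asIso adj.counit).app (D.X n)).symm) fun n m _ => by
        rw [Iso.symm_hom, Iso.symm_hom, Iso.inv_comp_eq, ← Category.assoc, Iso.eq_comp_inv]
        exact adj.counit.naturality (D.d n m) : D ≅ (L.mapHomologicalComplex _).obj E) ≪≫
      (E.sc i).mapHomologyIso L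

/-- The homology presheaf on affine objects. -/
noncomputable def ehIso {A : CommRingCat.{u}} (a : Spec A ⟶ S) :
    (_root_.Adeq.toMVFPre Scheme.fppfPrecoverage a).obj (Eh f I i) ≅
      (CO (pullback.fst a f) (pullback.snd a f) I.cocomplex ⊤).homology i := by
  haveI : (_root_.Adeq.toMVFPre Scheme.fppfPrecoverage a).PreservesHomology :=
    { preservesKernels := fun _ _ g => preservesLimit_toMVFPre (J := WalkingParallelPair) a (parallelPair g 0)
      preservesCokernels := fun _ _ g => preservesColimit_toMVFPre (J := WalkingParallelPair) a (parallelPair g 0) }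
  let E := ((SheafOfModules.forget (BigSite.ORing Scheme.fppfPrecoverage S)).mapHomologicalComplex (ComplexShape.up ℕ)).obj
    (((BigSite.pushMod Scheme.fppfPrecoverage f).mapHomologicalComplex (ComplexShape.up ℕ)).obj I.cocomplex)
  exact ((E.sc i).mapHomologyIso (_root_.Adeq.toMVFPre _ a)).symm ≪≫
    ((HomologicalComplex.homologyFunctor _ _ i).mapIso
      ((NatIso.mapHomologicalComplex (asIso (topCmp f a)) (ComplexShape.up ℕ)).app I.cocomplex)).symm

theorem adequate_Eh [QuasiCompact f] [QuasiSeparated f] (hM : _root_.Adeq.adequateMod Scheme.fppfPrecoverage T M)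
    (A : CommRingCat.{u}) (a : Spec A ⟶ S) :
    _root_.Adeq.adequate A ((_root_.Adeq.toMVFPre Scheme.fppfPrecoverage a).obj (Eh f I i)) := by
  haveI : CompactSpace ↑(pullback a f) := QuasiCompact.compactSpace_of_compactSpace (pullback.fst a f)
  haveI : QuasiSeparatedSpace ↑(pullback a f) := quasiSeparatedSpace_of_quasiSeparated (pullback.fst a f)
  exact (_root_.Adeq.adequate A).prop_of_iso (ehIso f I i a).symm
    (good_top (pullback.fst a f) (pullback.snd a f) I hM i)

end Rpush

theorem adequateMod_Rpush {S T : Scheme.{u}} (f : T ⟶ S) [QuasiCompact f] [QuasiSeparated f]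
    [HasInjectiveResolutions (BigSite.Mod Scheme.fppfPrecoverage T)] (M : BigSite.Mod Scheme.fppfPrecoverage T)
    (hM : _root_.Adeq.adequateMod Scheme.fppfPrecoverage T M) (i : ℕ) :
    _root_.Adeq.adequateMod Scheme.fppfPrecoverage S ((BigSite.RpushMod Scheme.fppfPrecoverage f i).obj M) :=
  (_root_.Adeq.adequateMod Scheme.fppfPrecoverage S).prop_of_iso (rpushIso f (injectiveResolution M) i).symm
    (adequateMod_sheafification _ (adequate_Eh f (injectiveResolution M) i hM))

end Groth.Agent.H54.AdeqSite.Piece
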