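import Groth.Agent.H54.AdeqSite.Parasitic
import Mathlib.AlgebraicGeometry.Morphisms.QuasiSeparated

/-!
# Direct images of adequate modules along quasi-compact quasi-separated morphisms
-/

universe u

open CategoryTheory CategoryTheory.Limits AlgebraicGeometry Opposite TensorProduct

namespace Groth.Agent.H54.AdeqSite.Push

open Groth.Agent.H54.Adeq

variable {S T : Scheme.{u}} (f : T ⟶ S) {A : CommRingCat.{u}} (a : Spec A ⟶ S)

/-- An affine chart of the base changed source. -/
structure Chart : Type (u + 1) where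
  R : CommRingCat.{u}
  φ : A ⟶ R
  j : Spec R ⟶ pullback a f
  hj : j ≫ pullback.fst a f = Spec.map φ
  isOpen : IsOpenImmersion j

variable {f a}

noncomputable instance (c : Chart f a) : Algebra (A : Type u) (c.R : Type u) := c.φ.hom.toAlgebra

/-- The base change of an algebra to a chart. -/
noncomputable abbrev Chart.bc (c : Chart f a) (B : _root_.Adeq.Alg A) : _root_.Adeq.Alg c.R :=
  (_root_.Adeq.Alg.baseChange A c.R).obj B

/-- The map to the source. -/
noncomputable abbrev Chart.t (c : Chart f a) : Spec c.R ⟶ T := c.j ≫ pullback.snd a f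

variable (f a) in
/-- The base changed object. -/
noncomputable abbrev PB (B : _root_.Adeq.Alg A) : Scheme.{u} :=
  pullback (Spec.map (CommRingCat.ofHom (algebraMap A (B : Type u))) ≫ a) f

/-- The projection of the base changed object to the base change of the source. -/
noncomputable def proj (B : _root_.Adeq.Alg A) : PB f a B ⟶ pullback a f :=
  pullback.lift (pullback.fst _ _ ≫ Spec.map (CommRingCat.ofHom (algebraMap A (B : Type u)))) (pullback.snd _ _)
    ((Category.assoc _ _ _).trans pullback.condition)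

lemma isPullback_proj (B : _root_.Adeq.Alg A) :
    IsPullback (pullback.fst (Spec.map (CommRingCat.ofHom (algebraMap A (B : Type u))) ≫ a) f) (proj (f := f) B)
      (Spec.map (CommRingCat.ofHom (algebraMap A (B : Type u)))) (pullback.fst a f) := by
  refine IsPullback.of_bot ?_ ?_ (IsPullback.of_hasPullback a f).flip.flip
  · rw [proj, pullback.lift_snd]
    exact IsPullback.of_hasPullback _ f
  · rw [proj, pullback.lift_fst]

/-- The spectrum of the base change of an algebra to a chart, mapped to the base changed object. -/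
noncomputable def Chart.uL (c : Chart f a) (B : _root_.Adeq.Alg A) :
    Spec (CommRingCat.of ((c.R : Type u) ⊗[A] (B : Type u))) ⟶ PB f a B :=
  pullback.lift (Spec.map (CommRingCat.ofHom (Algebra.TensorProduct.includeRight :
        (B : Type u) →ₐ[A] (c.R : Type u) ⊗[A] (B : Type u)).toRingHom))
      (Spec.map (CommRingCat.ofHom (algebraMap (c.R : Type u) ((c.R : Type u) ⊗[A] (B : Type u)))) ≫ c.t) (by
        rw [Category.assoc, Category.assoc, ← pullback.condition, reassoc_of% c.hj, ← Category.assoc, ← Category.assoc,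
          ← Spec.map_comp, ← Spec.map_comp]
        congr 2
        exact CommRingCat.hom_ext (RingHom.ext fun r => Algebra.TensorProduct.tmul_one_eq_one_tmul r |>.symm))

lemma Chart.uL_fst (c : Chart f a) (B : _root_.Adeq.Alg A) :
    c.uL B ≫ pullback.fst (Spec.map (CommRingCat.ofHom (algebraMap A (B : Type u))) ≫ a) f =
      Spec.map (CommRingCat.ofHom (Algebra.TensorProduct.includeRight :
        (B : Type u) →ₐ[A] (c.R : Type u) ⊗[A] (B : Type u)).toRingHom) :=
  pullback.lift_fst _ _ _

lemma Chart.uL_snd (c : Chart f a) (B : _root_.Adeq.Alg A) :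
    c.uL B ≫ pullback.snd (Spec.map (CommRingCat.ofHom (algebraMap A (B : Type u))) ≫ a) f =
      Spec.map (CommRingCat.ofHom (algebraMap (c.R : Type u) ((c.R : Type u) ⊗[A] (B : Type u)))) ≫ c.t :=
  pullback.lift_snd _ _ _

/-- The spectrum of the base change, as objects over the source. -/
noncomputable def Chart.u (c : Chart f a) (B : _root_.Adeq.Alg A) :
    (_root_.Adeq.specOver c.t).obj (op (c.bc B)) ⟶ (Over.pullback f).obj ((_root_.Adeq.specOver a).obj (op B)) :=
  Over.homMk (c.uL B) (c.uL_snd B)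

lemma Chart.u_proj (c : Chart f a) (B : _root_.Adeq.Alg A) :
    c.uL B ≫ proj (f := f) B =
      Spec.map (CommRingCat.ofHom (algebraMap (c.R : Type u) ((c.R : Type u) ⊗[A] (B : Type u)))) ≫ c.j := by
  apply pullback.hom_ext
  · rw [Category.assoc, proj, pullback.lift_fst, reassoc_of% c.uL_fst, Category.assoc, c.hj, ← Spec.map_comp,
      ← Spec.map_comp]
    congr 1
    exact CommRingCat.hom_ext (RingHom.ext fun r => Algebra.TensorProduct.tmul_one_eq_one_tmul r |>.symm)
  · rw [Category.assoc, proj, pullback.lift_snd, Category.assoc]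
    exact c.uL_snd B

lemma Chart.isPullback_u (c : Chart f a) (B : _root_.Adeq.Alg A) :
    IsPullback (c.uL B) (Spec.map (CommRingCat.ofHom (algebraMap (c.R : Type u) ((c.R : Type u) ⊗[A] (B : Type u)))))
      (proj (f := f) B) c.j := by
  refine IsPullback.of_right ?_ (c.u_proj B) (isPullback_proj B)
  rw [c.uL_fst, c.hj]
  exact (isPullback_SpecMap_of_isPushout _ _ _ _ (CommRingCat.isPushout_tensorProduct A c.R (B : Type u))).flip

lemma Chart.isOpenImmersion_u (c : Chart f a) (B : _root_.Adeq.Alg A) : IsOpenImmersion (c.uL B) :=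
  MorphismProperty.of_isPullback (P := @IsOpenImmersion) (c.isPullback_u B).flip c.isOpen

lemma Chart.mem_range_u (c : Chart f a) (B : _root_.Adeq.Alg A)
    (x : PB f a B) (hx : proj B x ∈ Set.range c.j) :
    x ∈ Set.range (c.uL B) := by
  obtain ⟨y, hy⟩ := hx
  obtain ⟨z, hz, -⟩ := Scheme.exists_preimage_of_isPullback (c.isPullback_u B) x y hy.symm
  exact ⟨z, hz⟩

variable (M : BigSite.Mod Scheme.fppfPrecoverage T)

/-- The functor of the direct image. -/
noncomputable abbrev F : _root_.Adeq.MVF A :=
  (_root_.Adeq.toMVF Scheme.fppfPrecoverage a).obj ((BigSite.pushMod Scheme.fppfPrecoverage f).obj M)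

/-- The functor of a chart. -/
noncomputable abbrev G (c : Chart f a) : _root_.Adeq.MVF A :=
  (_root_.Adeq.push A c.R).obj ((_root_.Adeq.toMVF Scheme.fppfPrecoverage c.t).obj M)

/-- Restriction to a chart. -/
noncomputable def ev (c : Chart f a) : F (f := f) (a := a) M ⟶ G M c :=
  mkHom (fun B =>
    { toFun := fun x => M.val.presheaf.map (c.u B).op x
      map_add' := fun x y => map_add (M.val.presheaf.map (c.u B).op).hom x y
      map_smul' := fun b x => by
        refine (M.val.map_smul (c.u B).op
          (ULift.up ((pullback.fst ((_root_.Adeq.specOver a).obj (op B)).hom f).appTop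
            ((Scheme.ΓSpecIso (CommRingCat.of (B : Type u))).inv b))) x).trans ?_
        congr 1
        apply ULift.ext
        show ((Scheme.ΓSpecIso (CommRingCat.of (B : Type u))).inv ≫
            (pullback.fst (Spec.map (CommRingCat.ofHom (algebraMap A (B : Type u))) ≫ a) f).appTop ≫ (c.uL B).appTop) b =
          (CommRingCat.ofHom (Algebra.TensorProduct.includeRight :
              (B : Type u) →ₐ[A] (c.R : Type u) ⊗[A] (B : Type u)).toRingHom ≫
            (Scheme.ΓSpecIso (CommRingCat.of ((c.R : Type u) ⊗[A] (B : Type u)))).inv) b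
        rw [← Scheme.Hom.comp_appTop, c.uL_fst, Scheme.ΓSpecIso_inv_naturality] })
    fun B B' g x => by
      have hc : ∀ {U V W : Over T} (r : U ⟶ V) (s : V ⟶ W) (w : M.val.presheaf.obj (op W)),
          M.val.presheaf.map r.op (M.val.presheaf.map s.op w) = M.val.presheaf.map (r ≫ s).op w := fun r s w => by
        rw [op_comp, Functor.map_comp, ConcreteCategory.comp_apply]
      show M.val.presheaf.map (c.u B').op (M.val.presheaf.map ((Over.pullback f).map ((_root_.Adeq.specOver a).map g.op)).op x) =
        M.val.presheaf.map ((_root_.Adeq.specOver c.t).map ((_root_.Adeq.Alg.baseChange A c.R).map g).op).op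
          (M.val.presheaf.map (c.u B).op x)
      rw [hc, hc]
      refine congrArg (fun r => M.val.presheaf.map (Quiver.Hom.op r) x) ?_
      apply Over.OverMorphism.ext
      show c.uL B' ≫ pullback.lift (pullback.fst _ _ ≫ Spec.map (CommRingCat.ofHom g.hom.toRingHom)) (pullback.snd _ _) _ =
        Spec.map (CommRingCat.ofHom (Algebra.TensorProduct.map (AlgHom.id (c.R : Type u) (c.R : Type u)) g.hom).toRingHom) ≫
          c.uL B
      apply pullback.hom_ext
      · rw [Category.assoc, pullback.lift_fst, reassoc_of% c.uL_fst, Category.assoc, c.uL_fst, ← Spec.map_comp,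
          ← Spec.map_comp]
        congr 1
      · rw [Category.assoc, pullback.lift_snd, Category.assoc]
        rw [c.uL_snd, c.uL_snd]
        have key : Spec.map (CommRingCat.ofHom (Algebra.TensorProduct.map (AlgHom.id (c.R : Type u) (c.R : Type u)) g.hom).toRingHom) ≫
            Spec.map (CommRingCat.ofHom (algebraMap (c.R : Type u) ((c.R : Type u) ⊗[A] (B : Type u)))) =
            Spec.map (CommRingCat.ofHom (algebraMap (c.R : Type u) ((c.R : Type u) ⊗[A] (B' : Type u)))) := by
          rw [← Spec.map_comp]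
          congr 1
          exact CommRingCat.hom_ext (RingHom.ext fun r => (Algebra.TensorProduct.map_tmul _ _ r _).trans (by rw [map_one]; rfl))
        exact (congrArg (· ≫ c.t) key).symm.trans (Category.assoc _ _ _)

/-- A morphism of charts. -/
structure ChartHom (c d : Chart f a) : Type u where
  g : c.R ⟶ d.R
  hg : Spec.map g ≫ c.j = d.j

variable {c d : Chart f a}

lemma ChartHom.comp_φ (h : ChartHom c d) : c.φ ≫ h.g = d.φ :=
  Spec.map_injective (by rw [Spec.map_comp, ← c.hj, ← d.hj, reassoc_of% h.hg])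

/-- The algebra map of a morphism of charts. -/
noncomputable def ChartHom.alg (h : ChartHom c d) : (c.R : Type u) →ₐ[A] (d.R : Type u) :=
  { h.g.hom with commutes' := fun r => RingHom.congr_fun (congrArg CommRingCat.Hom.hom h.comp_φ) r }

/-- The map of spectra of base changes, as schemes. -/
noncomputable def ChartHom.vL (h : ChartHom c d) (B : _root_.Adeq.Alg A) :
    Spec (CommRingCat.of ((d.R : Type u) ⊗[A] (B : Type u))) ⟶ Spec (CommRingCat.of ((c.R : Type u) ⊗[A] (B : Type u))) :=
  Spec.map (CommRingCat.ofHom (Algebra.TensorProduct.map h.alg (AlgHom.id A (B : Type u))).toRingHom)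

lemma ChartHom.vL_j (h : ChartHom c d) (B : _root_.Adeq.Alg A) :
    h.vL B ≫ Spec.map (CommRingCat.ofHom (algebraMap (c.R : Type u) ((c.R : Type u) ⊗[A] (B : Type u)))) ≫ c.j =
      Spec.map (CommRingCat.ofHom (algebraMap (d.R : Type u) ((d.R : Type u) ⊗[A] (B : Type u)))) ≫ d.j := by
  rw [← h.hg, ChartHom.vL, ← Category.assoc, ← Spec.map_comp, ← Category.assoc, ← Spec.map_comp]
  congr 2

lemma ChartHom.vL_uL (h : ChartHom c d) (B : _root_.Adeq.Alg A) : h.vL B ≫ c.uL B = d.uL B := by
  refine (isPullback_proj B).hom_ext ?_ ?_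
  · rw [Category.assoc, c.uL_fst, d.uL_fst, ChartHom.vL, ← Spec.map_comp]
    congr 1
    exact CommRingCat.hom_ext (RingHom.ext fun r => (Algebra.TensorProduct.map_tmul _ _ _ r).trans (by rw [map_one]; rfl))
  · rw [Category.assoc, c.u_proj, d.u_proj, h.vL_j]

/-- The map of spectra of base changes. -/
noncomputable def ChartHom.v (h : ChartHom c d) (B : _root_.Adeq.Alg A) :
    (_root_.Adeq.specOver d.t).obj (op (d.bc B)) ⟶ (_root_.Adeq.specOver c.t).obj (op (c.bc B)) :=
  Over.homMk (h.vL B) (by
    show h.vL B ≫ Spec.map (CommRingCat.ofHom (algebraMap (c.R : Type u) ((c.R : Type u) ⊗[A] (B : Type u)))) ≫ c.t =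
      Spec.map (CommRingCat.ofHom (algebraMap (d.R : Type u) ((d.R : Type u) ⊗[A] (B : Type u)))) ≫ d.t
    simp only [Chart.t, ← Category.assoc]
    congr 1
    rw [Category.assoc, h.vL_j])

lemma ChartHom.v_u (h : ChartHom c d) (B : _root_.Adeq.Alg A) : h.v B ≫ c.u B = d.u B :=
  Over.OverMorphism.ext (h.vL_uL B)

/-- Restriction between charts. -/
noncomputable def ρ (h : ChartHom c d) : G M c ⟶ G M d :=
  mkHom (fun B =>
    { toFun := fun x => M.val.presheaf.map (h.v B).op x
      map_add' := fun x y => map_add (M.val.presheaf.map (h.v B).op).hom x y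
      map_smul' := fun b x => by
        refine (M.val.map_smul (h.v B).op
          (_root_.Adeq.toSect Scheme.fppfPrecoverage c.t (c.bc B) ((1 : (c.R : Type u)) ⊗ₜ[A] b)) x).trans ?_
        congr 1
        apply ULift.ext
        show ((Scheme.ΓSpecIso (CommRingCat.of ((c.R : Type u) ⊗[A] (B : Type u)))).inv ≫
            (Spec.map (CommRingCat.ofHom (Algebra.TensorProduct.map h.alg (AlgHom.id A (B : Type u))).toRingHom)).appTop)
              ((1 : (c.R : Type u)) ⊗ₜ[A] b) =
          (Scheme.ΓSpecIso (CommRingCat.of ((d.R : Type u) ⊗[A] (B : Type u)))).inv ((1 : (d.R : Type u)) ⊗ₜ[A] b)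
        rw [← Scheme.ΓSpecIso_inv_naturality]
        show (Scheme.ΓSpecIso (CommRingCat.of ((d.R : Type u) ⊗[A] (B : Type u)))).inv
          (Algebra.TensorProduct.map h.alg (AlgHom.id A (B : Type u)) ((1 : (c.R : Type u)) ⊗ₜ[A] b)) = _
        rw [Algebra.TensorProduct.map_tmul, map_one]
        rfl })
    fun B B' g x => by
      have hc : ∀ {U V W : Over T} (r : U ⟶ V) (s : V ⟶ W) (w : M.val.presheaf.obj (op W)),
          M.val.presheaf.map r.op (M.val.presheaf.map s.op w) = M.val.presheaf.map (r ≫ s).op w := fun r s w => by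
        rw [op_comp, Functor.map_comp, ConcreteCategory.comp_apply]
      show M.val.presheaf.map (h.v B').op
          (M.val.presheaf.map ((_root_.Adeq.specOver c.t).map ((_root_.Adeq.Alg.baseChange A c.R).map g).op).op x) =
        M.val.presheaf.map ((_root_.Adeq.specOver d.t).map ((_root_.Adeq.Alg.baseChange A d.R).map g).op).op
          (M.val.presheaf.map (h.v B).op x)
      rw [hc, hc]
      refine congrArg (fun r => M.val.presheaf.map (Quiver.Hom.op r) x) ?_
      apply Over.OverMorphism.ext
      show Spec.map _ ≫ Spec.map (CommRingCat.ofHom (Algebra.TensorProduct.map (AlgHom.id (c.R : Type u) (c.R : Type u)) g.hom).toRingHom) =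
        Spec.map (CommRingCat.ofHom (Algebra.TensorProduct.map (AlgHom.id (d.R : Type u) (d.R : Type u)) g.hom).toRingHom) ≫ Spec.map _
      rw [← Spec.map_comp, ← Spec.map_comp]
      congr 1
      refine CommRingCat.hom_ext (RingHom.ext fun (z : (c.R : Type u) ⊗[A] (B : Type u)) => ?_)
      induction z with
      | zero => simp
      | tmul r b => rfl
      | add z w hz hw => rw [map_add, map_add, hz, hw]

lemma ev_ρ (h : ChartHom c d) : ev M c ≫ ρ M h = ev M d := Adeq.hom_ext fun B x => by
  show M.val.presheaf.map (h.v B).op (M.val.presheaf.map (c.u B).op x) = M.val.presheaf.map (d.u B).op x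
  rw [← ConcreteCategory.comp_apply, ← Functor.map_comp, ← op_comp, h.v_u]

lemma adequate_G (hM : _root_.Adeq.adequateMod Scheme.fppfPrecoverage T M) (c : Chart f a) :
    _root_.Adeq.adequate A (G M c) :=
  adequate_push (adequate_toMVF_fppf M hM c.R c.t)

theorem adequate_F (hM : _root_.Adeq.adequateMod Scheme.fppfPrecoverage T M) {n m : ℕ} (c : Fin n → Chart f a)
    (d : Fin m → Chart f a) (i₁ i₂ : Fin m → Fin n) (h₁ : ∀ k, ChartHom (c (i₁ k)) (d k)) (h₂ : ∀ k, ChartHom (c (i₂ k)) (d k))
    (hc : ∀ x, ∃ i, x ∈ Set.range (c i).j)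
    (hd : ∀ i i' x, x ∈ Set.range (c i).j → x ∈ Set.range (c i').j → ∃ k, i₁ k = i ∧ i₂ k = i' ∧ x ∈ Set.range (d k).j) :
    _root_.Adeq.adequate A (F (f := f) (a := a) M) := by
  classical
  haveI : HasFiniteBiproducts (_root_.Adeq.MVF A) := Abelian.hasFiniteBiproducts
  let P : Fin n → _root_.Adeq.MVF A := fun i => G M (c i)
  let Q : Fin m → _root_.Adeq.MVF A := fun k => G M (d k)
  let e : F (f := f) (a := a) M ⟶ ⨁ P := biproduct.lift fun i => ev M (c i)
  let δ : (⨁ P) ⟶ ⨁ Q := biproduct.lift fun k => biproduct.π P (i₁ k) ≫ ρ M (h₁ k) - biproduct.π P (i₂ k) ≫ ρ M (h₂ k)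
  have hδ : e ≫ δ = 0 := biproduct.hom_ext _ _ fun k => by
    rw [zero_comp, Category.assoc, biproduct.lift_π, Preadditive.comp_sub, ← Category.assoc, biproduct.lift_π,
      ← Category.assoc, biproduct.lift_π, ev_ρ, ev_ρ, sub_self]
  let θ : F (f := f) (a := a) M ⟶ kernel δ := kernel.lift δ e hδ
  have hθ : ∀ B x i, ap (biproduct.π P i) B (ap (kernel.ι δ) B (ap θ B x)) = M.val.presheaf.map ((c i).u B).op x :=
    fun B x i => by
      rw [← ap_comp, ← ap_comp, kernel.lift_ι_assoc, biproduct.lift_π]
      rfl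
  have hsheaf : ∀ B, Presieve.IsSheafFor (M.val.presheaf ⋙ CategoryTheory.forget AddCommGrpCat.{u + 1})
      (Presieve.ofArrows _ fun i => (c i).u B) := fun B => by
    rw [Presieve.isSheafFor_iff_generate]
    refine ((isSheaf_iff_isSheaf_of_type _ _).1
      ((Presheaf.isSheaf_iff_isSheaf_forget _ M.val.presheaf (CategoryTheory.forget AddCommGrpCat.{u + 1})).1 M.isSheaf)) _ ?_
    show Sieve.ofArrows _ (fun i => (c i).u B) ∈ _
    rw [GrothendieckTopology.mem_over_iff, Sieve.overEquiv_ofArrows]
    refine Precoverage.generate_mem_toGrothendieck ((Scheme.ofArrows_mem_precoverage_iff (P := fppfP)).2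
      ⟨fun x => ?_, fun i => fppf_hoi _ ((c i).isOpenImmersion_u B)⟩)
    obtain ⟨i, hi⟩ := hc (proj B x)
    exact ⟨i, (c i).mem_range_u B x hi⟩
  have : Mono θ := mono_of_ap fun B => (injective_iff_map_eq_zero _).2 fun x hx => by
    refine (hsheaf B).isSeparatedFor.ext ?_
    rintro _ _ ⟨i⟩
    refine ((hθ B x i).symm.trans ?_).trans (map_zero (M.val.presheaf.map ((c i).u B).op).hom).symm
    rw [hx, map_zero, map_zero]
    rfl
  have : Epi θ := epi_of_ap fun B z => by
    let y : ∀ i, Val (P i) B := fun i => ap (biproduct.π P i) B (ap (kernel.ι δ) B z)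
    have hy : ∀ k, M.val.presheaf.map ((h₁ k).v B).op (y (i₁ k)) = M.val.presheaf.map ((h₂ k).v B).op (y (i₂ k)) := fun k => by
      have h0 : ap (biproduct.π Q k) B (ap δ B (ap (kernel.ι δ) B z)) = 0 := by
        rw [← ap_comp (kernel.ι δ) δ, kernel.condition, ap_zero, map_zero]
      rw [← ap_comp, biproduct.lift_π, ap_sub, ap_comp, ap_comp, sub_eq_zero] at h0
      exact h0
    obtain ⟨x, hx⟩ := ((Presieve.isSheafFor_arrows_iff _ _).1 (hsheaf B) y (fun i i' W g g' hW => by
      have hc' : ∀ {U V W : Over T} (r : U ⟶ V) (s : V ⟶ W) (w : M.val.presheaf.obj (op W)),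
          M.val.presheaf.map r.op (M.val.presheaf.map s.op w) = M.val.presheaf.map (r ≫ s).op w := fun r s w => by
        rw [op_comp, Functor.map_comp, ConcreteCategory.comp_apply]
      rw [← sub_eq_zero]
      let gL : W.left ⟶ Spec (CommRingCat.of (((c i).R : Type u) ⊗[A] (B : Type u))) := g.left
      let gL' : W.left ⟶ Spec (CommRingCat.of (((c i').R : Type u) ⊗[A] (B : Type u))) := g'.left
      have hW' : gL ≫ (c i).uL B = gL' ≫ (c i').uL B := congrArg Over.Hom.left hW
      let w : W.left ⟶ pullback a f := gL ≫ (c i).uL B ≫ proj B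
      have hw : w = gL ≫ Spec.map (CommRingCat.ofHom (algebraMap ((c i).R : Type u) (((c i).R : Type u) ⊗[A] (B : Type u)))) ≫ (c i).j := by
        simp only [w]
        rw [(c i).u_proj]
      have hw' : w = gL' ≫ Spec.map (CommRingCat.ofHom (algebraMap ((c i').R : Type u) (((c i').R : Type u) ⊗[A] (B : Type u)))) ≫ (c i').j := by
        simp only [w]
        rw [← Category.assoc gL, hW', Category.assoc, (c i').u_proj]
      let KK := {k : Fin m // i₁ k = i ∧ i₂ k = i'}
      refine eq_zero_of_cover M W _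
        (Presieve.ofArrows (fun k : KK => pullback (d k.1).j w) (fun k => pullback.snd (d k.1).j w)) ?_ ?_
      · refine (Scheme.ofArrows_mem_precoverage_iff (P := fppfP)).2 ⟨fun p => ?_, fun k => ?_⟩
        · obtain ⟨k, e₁, e₂, q, hq⟩ := hd i i' (w p)
            ⟨_, (congrArg (fun φ : W.left ⟶ pullback a f => φ p) hw).symm⟩
            ⟨_, (congrArg (fun φ : W.left ⟶ pullback a f => φ p) hw').symm⟩
          obtain ⟨r, -, hr⟩ := Scheme.Pullback.exists_preimage_pullback (f := (d k).j) (g := w) q p hq
          exact ⟨⟨k, e₁, e₂⟩, r, hr⟩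
        · haveI := (d k.1).isOpen
          exact fppf_hoi _ inferInstance
      · rintro _ _ ⟨⟨k, rfl, rfl⟩⟩
        let V : Over T := Over.mk (pullback.snd (d k).j w ≫ W.hom)
        let q : V ⟶ W := Over.homMk (pullback.snd (d k).j w)
        let l : pullback (d k).j w ⟶ Spec (CommRingCat.of (((d k).R : Type u) ⊗[A] (B : Type u))) :=
          ((d k).isPullback_u B).lift (pullback.snd (d k).j w ≫ gL ≫ (c (i₁ k)).uL B) (pullback.fst (d k).j w)
            (by simp only [Category.assoc]; exact pullback.condition.symm)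
        have hl : l ≫ (d k).uL B = pullback.snd (d k).j w ≫ gL ≫ (c (i₁ k)).uL B :=
          ((d k).isPullback_u B).lift_fst _ _ _
        have hgw : gL ≫ (c (i₁ k)).uL B ≫ pullback.snd (Spec.map (CommRingCat.ofHom (algebraMap A (B : Type u))) ≫ a) f = W.hom := by
          rw [(c (i₁ k)).uL_snd]
          exact Over.w g
        let l' : V ⟶ (_root_.Adeq.specOver (d k).t).obj (op ((d k).bc B)) := Over.homMk l (by
          show l ≫ Spec.map (CommRingCat.ofHom (algebraMap ((d k).R : Type u) (((d k).R : Type u) ⊗[A] (B : Type u)))) ≫ (d k).t =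
            pullback.snd (d k).j w ≫ W.hom
          rw [← (d k).uL_snd, ← Category.assoc l, hl, Category.assoc, Category.assoc, hgw])
        haveI := (c (i₁ k)).isOpenImmersion_u B
        haveI := (c (i₂ k)).isOpenImmersion_u B
        have e₁' : l ≫ (h₁ k).vL B = pullback.snd (d k).j w ≫ gL := (cancel_mono ((c (i₁ k)).uL B)).1 (by
          rw [Category.assoc, (h₁ k).vL_uL, Category.assoc]
          exact hl)
        have e₂' : l ≫ (h₂ k).vL B = pullback.snd (d k).j w ≫ gL' := (cancel_mono ((c (i₂ k)).uL B)).1 (by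
          rw [Category.assoc, (h₂ k).vL_uL, Category.assoc, ← hW']
          exact hl)
        have e₁ : l' ≫ (h₁ k).v B = q ≫ g := Over.OverMorphism.ext e₁'
        have e₂ : l' ≫ (h₂ k).v B = q ≫ g' := Over.OverMorphism.ext e₂'
        show M.val.presheaf.map q.op (M.val.presheaf.map g.op (y (i₁ k)) - M.val.presheaf.map g'.op (y (i₂ k))) = 0
        rw [map_sub, hc', hc', ← e₁, ← e₂, ← hc', ← hc', hy k, sub_self])).exists
    refine ⟨x, injective_ap (kernel.ι δ) B ?_⟩
    have key : ∀ w w' : Val (⨁ P) B, (∀ i, ap (biproduct.π P i) B w = ap (biproduct.π P i) B w') → w = w' := by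
      intro w w' h
      have ht := biproduct.total (f := P)
      rw [← ap_id w, ← ap_id w', ← ht]
      have hs : ∀ (s : Finset (Fin n)), ap (∑ j ∈ s, biproduct.π P j ≫ biproduct.ι P j) B w =
          ap (∑ j ∈ s, biproduct.π P j ≫ biproduct.ι P j) B w' := by
        intro s
        induction s using Finset.induction with
        | empty => rw [Finset.sum_empty, ap_zero, ap_zero]
        | insert a s ha ih => rw [Finset.sum_insert ha, ap_add, ap_add, ih, ap_comp, ap_comp, h]
      exact hs Finset.univ
    exact key _ _ fun i => (hθ B x i).trans (hx i)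
  have : IsIso θ := isIso_of_mono_of_epi θ
  exact (_root_.Adeq.adequate A).prop_of_iso (asIso θ).symm
    (adequate_kernel δ (adequate_biproduct P fun i => adequate_G M hM _) (adequate_biproduct Q fun k => adequate_G M hM _))

theorem adequateMod_push (f : T ⟶ S) [QuasiCompact f] [QuasiSeparated f]
    (hM : _root_.Adeq.adequateMod Scheme.fppfPrecoverage T M) :
    _root_.Adeq.adequateMod Scheme.fppfPrecoverage S ((BigSite.pushMod Scheme.fppfPrecoverage f).obj M) := by
  refine adequateMod_fppf _ fun A a => ?_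
  haveI : CompactSpace ↑(pullback a f) := QuasiCompact.compactSpace_of_compactSpace (pullback.fst a f)
  haveI : QuasiSeparatedSpace ↑(pullback a f) := quasiSeparatedSpace_of_quasiSeparated (pullback.fst a f)
  let mk : ∀ U : (pullback a f).Opens, IsAffineOpen U → Chart f a := fun U hU =>
    { R := Γ(pullback a f, U)
      φ := Spec.preimage (hU.fromSpec ≫ pullback.fst a f)
      j := hU.fromSpec
      hj := (Spec.map_preimage _).symm
      isOpen := inferInstance }
  choose W hW hxW _ using fun x : (pullback a f : Scheme.{u}) =>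
    exists_isAffineOpen_mem_and_subset (x := x) (U := (⊤ : (pullback a f).Opens)) trivial
  obtain ⟨s, hs⟩ := isCompact_univ.elim_finite_subcover (fun x => (W x : Set (pullback a f : Scheme.{u})))
    (fun x => (W x).2) fun x _ => Set.mem_iUnion.2 ⟨x, hxW x⟩
  let e := s.equivFin.symm
  have hV0 : ∀ p : Fin s.card × Fin s.card, ∃ V : Set (pullback a f).affineOpens, V.Finite ∧
      ((W (e p.1).1 : Set (pullback a f : Scheme.{u})) ∩ W (e p.2).1) = ⋃ U ∈ V, ((U : (pullback a f).Opens) : Set (pullback a f : Scheme.{u})) := fun p =>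
    isCompact_and_isOpen_iff_finite_and_eq_biUnion_affineOpens.1
      ⟨QuasiSeparatedSpace.inter_isCompact _ _ (W (e p.1).1).2 (hW _).isCompact (W (e p.2).1).2 (hW _).isCompact,
        (W (e p.1).1).2.inter (W (e p.2).1).2⟩
  choose V hVfin hV using hV0
  haveI : ∀ p, Finite (V p) := fun p => (hVfin p).to_subtype
  obtain ⟨m, ⟨em⟩⟩ := Finite.exists_equiv_fin (Σ p, V p)
  have hle : ∀ q : Σ p, V p, (q.2.1.1 : (pullback a f).Opens) ≤ W (e q.1.1).1 ∧ q.2.1.1 ≤ W (e q.1.2).1 := fun q => by
    have : (q.2.1.1 : Set (pullback a f : Scheme.{u})) ⊆ (W (e q.1.1).1 : Set (pullback a f : Scheme.{u})) ∩ W (e q.1.2).1 := by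
      rw [hV q.1]
      exact fun z hz => Set.mem_iUnion₂.2 ⟨q.2.1, q.2.2, hz⟩
    exact ⟨fun z hz => (this hz).1, fun z hz => (this hz).2⟩
  refine adequate_F M hM (fun i => mk (W (e i).1) (hW _)) (fun k => mk (em.symm k).2.1.1 (em.symm k).2.1.2)
    (fun k => (em.symm k).1.1) (fun k => (em.symm k).1.2)
    (fun k => ⟨(pullback a f).presheaf.map (homOfLE (hle (em.symm k)).1).op, IsAffineOpen.map_fromSpec _ _ _⟩)
    (fun k => ⟨(pullback a f).presheaf.map (homOfLE (hle (em.symm k)).2).op, IsAffineOpen.map_fromSpec _ _ _⟩) ?_ ?_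
  · intro x
    obtain ⟨y, hy, hxy⟩ := Set.mem_iUnion₂.1 (hs (Set.mem_univ x))
    refine ⟨e.symm ⟨y, hy⟩, ?_⟩
    show x ∈ Set.range (hW (e (e.symm ⟨y, hy⟩)).1).fromSpec
    rw [IsAffineOpen.range_fromSpec, e.apply_symm_apply]
    exact hxy
  · intro i i' x hx hx'
    change x ∈ Set.range (hW (e i).1).fromSpec at hx
    change x ∈ Set.range (hW (e i').1).fromSpec at hx'
    rw [IsAffineOpen.range_fromSpec] at hx hx'
    obtain ⟨U, hU, hxU⟩ := Set.mem_iUnion₂.1 ((hV (i, i')).le ⟨hx, hx'⟩)
    refine ⟨em ⟨(i, i'), U, hU⟩, ?_, ?_, ?_⟩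
    · rw [em.symm_apply_apply]
    · rw [em.symm_apply_apply]
    · show x ∈ Set.range (em.symm (em ⟨(i, i'), U, hU⟩)).2.1.2.fromSpec
      rw [IsAffineOpen.range_fromSpec, em.symm_apply_apply]
      exact hxU

end Groth.Agent.H54.AdeqSite.Push
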