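import Groth.Agent.H54.AdeqSite.InjRes
import Groth.Agent.H54.AdeqSite.Push
import Groth.Agent.H54.AdeqSite.Exact

/-!
# Sections of modules over pieces of a base change, as module-valued functors
-/

universe u

open CategoryTheory CategoryTheory.Limits AlgebraicGeometry Opposite

namespace Groth.Agent.H54.AdeqSite.Piece

open Groth.Agent.H54.Adeq

variable {S T : Scheme.{u}} {A : CommRingCat.{u}} {W W' : Scheme.{u}} (q : W ⟶ Spec A) (t : W ⟶ T)
  (q' : W' ⟶ Spec A) (t' : W' ⟶ T)

local notation "K" => Scheme.fppfPrecoverage

/-- The functor of sections over a piece. -/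
noncomputable abbrev Φ : BigSite.Mod K T ⥤ _root_.Adeq.MVF A :=
  BigSite.pullMod K t ⋙ BigSite.pushMod K q ⋙ _root_.Adeq.toMVF K (𝟙 (Spec A))

/-- The structure morphism of an algebra. -/
noncomputable abbrev sm (B : _root_.Adeq.Alg A) : Spec (CommRingCat.of (B : Type u)) ⟶ Spec A :=
  Spec.map (CommRingCat.ofHom (algebraMap A (B : Type u))) ≫ 𝟙 (Spec A)

/-- The base changed piece. -/
noncomputable abbrev ob (B : _root_.Adeq.Alg A) : Over T := Over.mk (pullback.snd (sm B) q ≫ t)

/-- The base changed algebra map. -/
noncomputable def obMapL {B B' : _root_.Adeq.Alg A} (g : B ⟶ B') :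
    pullback (sm B') q ⟶ pullback (sm B) q :=
  pullback.lift (pullback.fst (sm B') q ≫ Spec.map (CommRingCat.ofHom g.hom.toRingHom)) (pullback.snd (sm B') q) (by
    rw [← pullback.condition, Category.assoc]
    congr 1
    simp only [sm]
    rw [← Category.assoc, ← Spec.map_comp]
    congr 2
    exact CommRingCat.hom_ext (RingHom.ext fun r => g.hom.commutes r))

/-- Functoriality in the algebra. -/
noncomputable def obMap {B B' : _root_.Adeq.Alg A} (g : B ⟶ B') : ob q t B' ⟶ ob q t B :=
  Over.homMk (obMapL q g) (by
    show obMapL q g ≫ pullback.snd (sm B) q ≫ t = pullback.snd (sm B') q ≫ t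
    rw [obMapL, pullback.lift_snd_assoc])

lemma mp_Φ (N : BigSite.Mod K T) {B B' : _root_.Adeq.Alg A} (g : B ⟶ B') (x : N.val.presheaf.obj (op (ob q t B))) :
    mp ((Φ q t).obj N) g x = N.val.presheaf.map (obMap q t g).op x := rfl

lemma ap_Φ {N N' : BigSite.Mod K T} (φ : N ⟶ N') (B : _root_.Adeq.Alg A) (x : N.val.presheaf.obj (op (ob q t B))) :
    ap ((Φ q t).map φ) B x = φ.val.app (op (ob q t B)) x := rfl

variable (h : W' ⟶ W) (hq : h ≫ q = q') (ht : h ≫ t = t')

/-- The map of base changed pieces, as schemes. -/
noncomputable def resL (B : _root_.Adeq.Alg A) : pullback (sm B) q' ⟶ pullback (sm B) q :=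
  pullback.lift (pullback.fst (sm B) q') (pullback.snd (sm B) q' ≫ h)
    (by rw [Category.assoc, hq]; exact pullback.condition)

lemma resL_fst (B : _root_.Adeq.Alg A) : resL q q' h hq B ≫ pullback.fst (sm B) q = pullback.fst (sm B) q' :=
  pullback.lift_fst _ _ _

lemma resL_snd (B : _root_.Adeq.Alg A) : resL q q' h hq B ≫ pullback.snd (sm B) q = pullback.snd (sm B) q' ≫ h :=
  pullback.lift_snd _ _ _

/-- The map of base changed pieces. -/
noncomputable def resO (B : _root_.Adeq.Alg A) : ob q' t' B ⟶ ob q t B :=
  Over.homMk (resL q q' h hq B) (by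
    show resL q q' h hq B ≫ pullback.snd (sm B) q ≫ t = pullback.snd (sm B) q' ≫ t'
    rw [← Category.assoc, resL_snd, Category.assoc, ht])

/-- Restriction between pieces. -/
noncomputable def res : Φ q t ⟶ Φ q' t' where
  app N := mkHom (fun B =>
    { toFun := fun x => N.val.presheaf.map (resO q t q' t' h hq ht B).op x
      map_add' := fun x y => map_add (N.val.presheaf.map (resO q t q' t' h hq ht B).op).hom x y
      map_smul' := fun b x => by
        refine (N.val.map_smul (resO q t q' t' h hq ht B).op
          (ULift.up ((pullback.fst (sm B) q).appTop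
            ((Scheme.ΓSpecIso (CommRingCat.of (B : Type u))).inv b))) x).trans ?_
        congr 1
        apply ULift.ext
        show ((pullback.fst (sm B) q).appTop ≫ (resL q q' h hq B).appTop)
              ((Scheme.ΓSpecIso (CommRingCat.of (B : Type u))).inv b) =
          (pullback.fst (sm B) q').appTop ((Scheme.ΓSpecIso (CommRingCat.of (B : Type u))).inv b)
        rw [← Scheme.Hom.comp_appTop, resL_fst] })
    fun B B' g x => by
      show N.val.presheaf.map (resO q t q' t' h hq ht B').op (N.val.presheaf.map (obMap q t g).op x) =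
        N.val.presheaf.map (obMap q' t' g).op (N.val.presheaf.map (resO q t q' t' h hq ht B).op x)
      rw [← ConcreteCategory.comp_apply, ← ConcreteCategory.comp_apply, ← Functor.map_comp, ← Functor.map_comp,
        ← op_comp, ← op_comp]
      refine congrArg (fun r => N.val.presheaf.map (Quiver.Hom.op r) x) (Over.OverMorphism.ext ?_)
      show resL q q' h hq B' ≫ obMapL q g = obMapL q' g ≫ resL q q' h hq B
      apply pullback.hom_ext
      · rw [Category.assoc, Category.assoc, obMapL, pullback.lift_fst, resL_fst, obMapL, pullback.lift_fst,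
          reassoc_of% resL_fst q q' h hq B']
      · rw [Category.assoc, Category.assoc, obMapL, pullback.lift_snd, resL_snd, resL_snd, obMapL,
          pullback.lift_snd_assoc]
  naturality N N' φ := Adeq.hom_ext fun B x =>
    (PresheafOfModules.naturality_apply φ.val (resO q t q' t' h hq ht B).op x).symm

lemma ap_res (N : BigSite.Mod K T) (B : _root_.Adeq.Alg A) (x : N.val.presheaf.obj (op (ob q t B))) :
    ap ((res q t q' t' h hq ht).app N) B x = N.val.presheaf.map (resO q t q' t' h hq ht B).op x := rfl

lemma mono_resO [Mono h] (B : _root_.Adeq.Alg A) : Mono (resO q t q' t' h hq ht B) := by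
  haveI : Mono (resO q t q' t' h hq ht B).left :=
    ⟨fun {Z} a b e => by
      change a ≫ resL q q' h hq B = b ≫ resL q q' h hq B at e
      apply pullback.hom_ext
      · simpa only [Category.assoc, resL_fst] using congrArg (fun z => z ≫ pullback.fst (sm B) q) e
      · rw [← cancel_mono h]
        simpa only [Category.assoc, resL_snd] using congrArg (fun z => z ≫ pullback.snd (sm B) q) e⟩
  exact (Over.forget T).mono_of_mono_map (show Mono (resO q t q' t' h hq ht B).left from inferInstance)

theorem surjective_res (N : BigSite.Mod K T) [Injective N] [Mono h] (B : _root_.Adeq.Alg A) :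
    Function.Surjective (ap ((res q t q' t' h hq ht).app N) B) :=
  haveI := mono_resO q t q' t' h hq ht B
  FreeInj.surjective_restriction N (resO q t q' t' h hq ht B)

lemma isPullback_resL (B : _root_.Adeq.Alg A) :
    IsPullback (resL q q' h hq B) (pullback.snd (sm B) q') (pullback.snd (sm B) q) h := by
  refine IsPullback.of_right ?_ (resL_snd q q' h hq B) (IsPullback.of_hasPullback (sm B) q)
  rw [resL_fst, hq]
  exact IsPullback.of_hasPullback (sm B) q'

end Groth.Agent.H54.AdeqSite.Piece
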