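import Mathlib.AlgebraicGeometry.Morphisms.UniversallyOpen
import Mathlib.AlgebraicGeometry.AffineScheme
import Mathlib.AlgebraicGeometry.PullbackCarrier
import Mathlib.AlgebraicGeometry.Properties

/-!
# Finite affine refinements of covering families
-/

universe u

open CategoryTheory CategoryTheory.Limits AlgebraicGeometry

namespace Groth.Agent.H54.AdeqSite

variable {P : MorphismProperty Scheme.{u}} [P.IsStableUnderBaseChange] [P.IsStableUnderComposition]

/-- A covering family by open maps is refined over an affine scheme by a finite affine one. -/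
theorem exists_finite_refinement (hoi : ∀ {X Y : Scheme.{u}} (f : X ⟶ Y), IsOpenImmersion f → P f)
    (hopen : ∀ {X Y : Scheme.{u}} (f : X ⟶ Y), P f → IsOpenMap f)
    {S : Scheme.{u}} {ι : Type*} (T : ι → Scheme.{u}) (t : ∀ i, T i ⟶ S) (hP : ∀ i, P (t i))
    (hsurj : ∀ s : S, ∃ i, s ∈ Set.range (t i)) (A : CommRingCat.{u}) (a : Spec A ⟶ S) :
    ∃ (n : ℕ) (R : Fin n → CommRingCat.{u}) (idx : Fin n → ι) (φ : ∀ k, A ⟶ R k)
      (c : ∀ k, Spec (R k) ⟶ T (idx k)),
      (∀ k, c k ≫ t (idx k) = Spec.map (φ k) ≫ a) ∧ (∀ k, P (Spec.map (φ k))) ∧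
        ∀ x : Spec A, ∃ k, x ∈ Set.range (Spec.map (φ k)) := by
  classical
  have key : ∀ x : Spec A, ∃ (i : ι) (U : (pullback (t i) a).Opens),
      IsAffineOpen U ∧ x ∈ pullback.snd (t i) a '' (U : Set (pullback (t i) a : Scheme.{u})) := by
    intro x
    obtain ⟨i, y, hy⟩ := hsurj (a x)
    obtain ⟨z, -, hz⟩ := Scheme.Pullback.exists_preimage_pullback (f := t i) (g := a) y x hy
    obtain ⟨U, hU, hzU, -⟩ := exists_isAffineOpen_mem_and_subset (x := z) (U := (⊤ : (pullback (t i) a).Opens)) trivial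
    exact ⟨i, U, hU, z, hzU, hz⟩
  choose i U hU hx using key
  have hPs : ∀ x, P (pullback.snd (t (i x)) a) := fun x =>
    MorphismProperty.pullback_snd _ _ (hP _)
  obtain ⟨F, hF⟩ := isCompact_univ.elim_finite_subcover
    (fun x : Spec A => pullback.snd (t (i x)) a '' (U x : Set (pullback (t (i x)) a : Scheme.{u})))
    (fun x => hopen _ (hPs x) _ (U x).2) fun x _ => Set.mem_iUnion.2 ⟨x, hx x⟩
  let e := F.equivFin.symm
  let b : ∀ x : Spec A, Spec Γ(pullback (t (i x)) a, U x) ⟶ Spec A :=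
    fun x => (hU x).fromSpec ≫ pullback.snd (t (i x)) a
  refine ⟨F.card, fun k => Γ(pullback (t (i (e k).1)) a, U (e k).1), fun k => i (e k).1,
    fun k => Spec.preimage (b (e k).1), fun k => (hU (e k).1).fromSpec ≫ pullback.fst (t (i (e k).1)) a,
    fun k => ?_, fun k => ?_, fun x => ?_⟩
  · rw [Spec.map_preimage, Category.assoc, Category.assoc, pullback.condition]
  · rw [Spec.map_preimage]
    exact P.comp_mem _ _ (hoi _ inferInstance) (hPs _)
  · obtain ⟨y, hy, z, hz, hzx⟩ := Set.mem_iUnion₂.1 (hF (Set.mem_univ x))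
    refine ⟨e.symm ⟨y, hy⟩, ?_⟩
    have hb : x ∈ Set.range (b y) := by
      have hz' : z ∈ Set.range (hU y).fromSpec := by rw [(hU y).range_fromSpec]; exact hz
      obtain ⟨w, rfl⟩ := hz'
      exact ⟨w, by rw [Scheme.Hom.comp_apply]; exact hzx⟩
    have key : ∀ (p : F) (q : F), p = q → x ∈ Set.range (b p.1) → x ∈ Set.range (Spec.map (Spec.preimage (b q.1))) := by
      rintro p q rfl h
      rw [Spec.map_preimage]
      exact h
    exact key ⟨y, hy⟩ _ (e.apply_symm_apply _).symm hb

end Groth.Agent.H54.AdeqSite
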