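import Groth.Agent.H54.AdeqSite.Exact
import Groth.Agent.H54.AdeqSite.H1
import Groth.Agent.Lib.Modules.ToSheaf
import Mathlib.CategoryTheory.Sites.EpiMono

/-!
# Exact sequences of modules on the big fppf site: extensions and parasitic modules
-/

universe u

open CategoryTheory CategoryTheory.Limits AlgebraicGeometry Opposite TensorProduct

namespace Groth.Agent.H54.AdeqSite

open Groth.Agent.H54.Adeq

variable {S : Scheme.{u}}

set_option quotPrecheck false
local notation "K" => Scheme.fppfPrecoverage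

lemma exists_kernel_sect {M N : BigSite.Mod K S} (g : M ⟶ N) (U : (Over S)ᵒᵖ) (x : M.val.obj U)
    (hx : g.val.app U x = 0) : ∃ k, (kernel.ι g).val.app U k = x := by
  let E := SheafOfModules.forget _ ⋙ PresheafOfModules.evaluation (BigSite.ORing K S).obj U
  haveI : E.Additive := { }
  exact ((ShortComplex.moduleCat_exact_iff _).1
    (ShortComplex.exact_of_f_is_kernel
      ((ShortComplex.mk (kernel.ι g) g (kernel.condition g)).map E)
      (isLimitForkMapOfIsLimit' E (kernel.condition g) (kernelIsKernel g)))) x hx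

lemma imageSieve_mem_of_exact (C : ShortComplex (BigSite.Mod K S)) (hC : C.Exact) (U : (Over S)ᵒᵖ)
    (x : C.X₂.val.obj U) (hx : C.g.val.app U x = 0) :
    Presheaf.imageSieve ((PresheafOfModules.toPresheaf _).map C.f.val) (U := U.unop) x ∈ QuotSh.J K S U.unop := by
  obtain ⟨k, hk⟩ := exists_kernel_sect C.g U x hx
  have hepi : Epi (kernel.lift C.g C.f C.zero) := hC.epi_kernelLift
  haveI : Epi ((SheafOfModules.toSheaf (BigSite.ORing K S)).map (kernel.lift C.g C.f C.zero)) := inferInstance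
  haveI := (Sheaf.isLocallySurjective_iff_epi' AddCommGrpCat.{u + 1}
    ((SheafOfModules.toSheaf (BigSite.ORing K S)).map (kernel.lift C.g C.f C.zero))).2 inferInstance
  refine (QuotSh.J K S).superset_covering ?_
    (Presheaf.imageSieve_mem (QuotSh.J K S) ((SheafOfModules.toSheaf (BigSite.ORing K S)).map (kernel.lift C.g C.f C.zero)).hom k)
  rintro V i ⟨t, ht⟩
  refine ⟨t, ?_⟩
  show C.f.val.app (op V) t = C.X₂.val.presheaf.map i.op x
  have ht' : (kernel.lift C.g C.f C.zero).val.app (op V) t = (kernel C.g).val.map i.op k := ht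
  rw [← kernel.lift_ι C.g C.f C.zero, ← hk]
  show (kernel.ι C.g).val.app (op V) ((kernel.lift C.g C.f C.zero).val.app (op V) t) = _
  rw [ht']
  exact PresheafOfModules.naturality_apply (kernel.ι C.g).val i.op k

lemma imageSieve_mem_of_epi {M N : BigSite.Mod K S} (g : M ⟶ N) [Epi g] (U : (Over S)ᵒᵖ) (y : N.val.obj U) :
    Presheaf.imageSieve ((PresheafOfModules.toPresheaf _).map g.val) (U := U.unop) y ∈ QuotSh.J K S U.unop := by
  haveI := (Sheaf.isLocallySurjective_iff_epi' AddCommGrpCat.{u + 1}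
    ((SheafOfModules.toSheaf (BigSite.ORing K S)).map g)).2 inferInstance
  exact Presheaf.imageSieve_mem (QuotSh.J K S) ((SheafOfModules.toSheaf (BigSite.ORing K S)).map g).hom y

theorem surjective_ap_of_shortExact (C : ShortComplex (BigSite.Mod K S)) (hC : C.ShortExact)
    (h₁ : _root_.Adeq.adequateMod K S C.X₁) {A : CommRingCat.{u}} (a : Spec A ⟶ S) (B : _root_.Adeq.Alg A) :
    Function.Surjective (ap ((_root_.Adeq.toMVF K a).map C.g) B) := by
  intro y
  haveI := hC.mono_f
  haveI := hC.epi_g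
  obtain ⟨n, D₀, f, hP, hsurj, hm⟩ := exists_cover_of_mem a _
    (imageSieve_mem_of_epi C.g (op ((_root_.Adeq.specOver a).obj (op B))) y)
  choose t ht using hm
  let φ₁ := (_root_.Adeq.toMVF K a).map C.f
  let φ₂ := (_root_.Adeq.toMVF K a).map C.g
  let y' : Val (FM (P := fppfP) a C.X₃) B := y
  let x : ∀ k, Val ((_root_.Adeq.toMVF K a).obj C.X₂) (D₀ k) := t
  have hx : ∀ k, ap φ₂ (D₀ k) (x k) = mp ((_root_.Adeq.toMVF K a).obj C.X₃) (f k) y := ht
  have hker : ∀ (D : _root_.Adeq.Alg A) (w : Val ((_root_.Adeq.toMVF K a).obj C.X₂) D), ap φ₂ D w = 0 →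
      ∃ v, ap φ₁ D v = w := fun D w hw => by
    obtain ⟨k, hk⟩ := exists_kernel_sect C.g (op ((_root_.Adeq.specOver a).obj (op D))) w hw
    haveI : IsIso (kernel.lift C.g C.f C.zero) := by
      haveI := hC.exact.epi_kernelLift
      haveI : Mono (kernel.lift C.g C.f C.zero) := mono_of_mono_fac (kernel.lift_ι C.g C.f C.zero)
      exact isIso_of_mono_of_epi _
    refine ⟨(inv (kernel.lift C.g C.f C.zero)).val.app _ k, ?_⟩
    show C.f.val.app _ ((inv (kernel.lift C.g C.f C.zero)).val.app _ k) = w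
    show (inv (kernel.lift C.g C.f C.zero) ≫ C.f).val.app _ k = w
    rw [(IsIso.inv_comp_eq _).2 (kernel.lift_ι C.g C.f C.zero).symm]
    exact hk
  have hinj : ∀ D, Function.Injective (ap φ₁ D) := fun D => PresheafOfModules.injective_of_mono
    ((SheafOfModules.forget _).map C.f) (op ((_root_.Adeq.specOver a).obj (op D)))
  have hdiff : ∀ k l (D : _root_.Adeq.Alg A) (α : D₀ k ⟶ D) (β : D₀ l ⟶ D), f k ≫ α = f l ≫ β →
      ∃ v, ap φ₁ D v = mp _ α (x k) - mp _ β (x l) := fun k l D α β e => hker D _ (by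
    rw [map_sub, ap_mp, ap_mp, hx k, hx l, ← mp_comp, ← mp_comp, e, sub_self])
  choose c hc using hdiff
  obtain ⟨z, hz⟩ := (flatCover_of f hP hsurj).exists_primitive (adequate_toMVF_fppf C.X₁ h₁ A a) c
    (fun k l D D' h α β e e' => hinj D' (by rw [ap_mp, hc, hc, map_sub, ← mp_comp, ← mp_comp]))
    (fun p k l D γ α β e₁ e₂ e₃ => hinj D (by rw [map_sub, hc, hc, hc]; abel))
  let x' : ∀ k, Val (FM (P := fppfP) a C.X₂) (D₀ k) := fun k => x k - ap φ₁ (D₀ k) (z k)
  letI : ∀ k, Algebra (B : Type u) (D₀ k : Type u) := fun k => (f k).hom.toRingHom.toAlgebra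
  haveI : ∀ k, IsScalarTower A (B : Type u) (D₀ k : Type u) := fun k => IsScalarTower.of_algHom (f k).hom
  let D : Fin n → Fin n → _root_.Adeq.Alg A := fun k l => CommAlgCat.of A ((D₀ k : Type u) ⊗[(B : Type u)] (D₀ l : Type u))
  let α : ∀ k l, D₀ k ⟶ D k l := fun k l => CommAlgCat.ofHom (iL (A := A) (B := (B : Type u)) (fun k => (D₀ k : Type u)) k l)
  let β : ∀ k l, D₀ l ⟶ D k l := fun k l => CommAlgCat.ofHom (iR (A := A) (B := (B : Type u)) (fun k => (D₀ k : Type u)) k l)
  have hpo : ∀ k l, IsPushout (rh (f k)) (rh (f l)) (rh (α k l)) (rh (β k l)) := fun k l =>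
    CommRingCat.isPushout_tensorProduct (B : Type u) (D₀ k : Type u) (D₀ l : Type u)
  obtain ⟨x₀, hx₀⟩ := exists_glue (P := fppfP) a f C.X₂ hP hsurj α β hpo x' fun k l => by
    have e : f k ≫ α k l = f l ≫ β k l := CommAlgCat.hom_ext (DFunLike.ext _ _ fun b =>
      RingHom.congr_fun (congrArg CommRingCat.Hom.hom (hpo k l).w) b)
    show mp ((_root_.Adeq.toMVF K a).obj C.X₂) (α k l) (x k - ap φ₁ (D₀ k) (z k)) =
      mp ((_root_.Adeq.toMVF K a).obj C.X₂) (β k l) (x l - ap φ₁ (D₀ l) (z l))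
    have h := hc k l _ (α k l) (β k l) e
    rw [hz k l _ _ _ e, map_sub, ap_mp, ap_mp] at h
    rw [map_sub, map_sub, sub_eq_sub_iff_sub_eq_sub]
    exact h.symm
  refine ⟨x₀, ?_⟩
  let w : Val (FM (P := fppfP) a C.X₃) B := ap φ₂ B x₀
  have : w - y' = 0 := by
    refine eq_zero_of_forall (P := fppfP) a f C.X₃ hP hsurj _ fun k => ?_
    show mp ((_root_.Adeq.toMVF K a).obj C.X₃) (f k) (ap φ₂ B x₀ - y) = 0
    rw [map_sub, ← ap_mp, ← hx k, sub_eq_zero]
    refine (congrArg (ap φ₂ (D₀ k)) (hx₀ k)).trans ?_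
    show ap φ₂ (D₀ k) (x k - ap φ₁ (D₀ k) (z k)) = _
    rw [map_sub, ← ap_comp, ← Functor.map_comp, C.zero, Functor.map_zero, ap_zero, sub_zero]
  exact sub_eq_zero.1 this

theorem adequateMod_extension (C : ShortComplex (BigSite.Mod K S)) (hC : C.ShortExact)
    (h₁ : _root_.Adeq.adequateMod K S C.X₁) (h₃ : _root_.Adeq.adequateMod K S C.X₃) :
    _root_.Adeq.adequateMod K S C.X₂ := by
  refine adequateMod_fppf _ fun A a => ?_
  haveI := hC.mono_f
  haveI : Mono ((_root_.Adeq.toMVF K a).map C.f) := mono_of_ap fun D => PresheafOfModules.injective_of_mono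
    ((SheafOfModules.forget _).map C.f) (op ((_root_.Adeq.specOver a).obj (op D)))
  haveI : Epi ((_root_.Adeq.toMVF K a).map C.g) := epi_of_ap (surjective_ap_of_shortExact C hC h₁ a)
  haveI := preservesLimit_toMVFPre (J := WalkingParallelPair) a (parallelPair C.g 0 ⋙ SheafOfModules.forget _)
  haveI : PreservesLimit (parallelPair C.g 0) (_root_.Adeq.toMVF K a) :=
    inferInstanceAs (PreservesLimit (parallelPair C.g 0) (SheafOfModules.forget _ ⋙ _root_.Adeq.toMVFPre K a))
  refine Adeq.adequate_extension (C.map (_root_.Adeq.toMVF K a)) ?_ (adequate_toMVF_fppf C.X₁ h₁ A a) (adequate_toMVF_fppf C.X₃ h₃ A a)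
  exact ShortComplex.ShortExact.mk' (ShortComplex.exact_of_f_is_kernel _
    (isLimitForkMapOfIsLimit' (_root_.Adeq.toMVF K a) C.zero hC.fIsKernel)) (inferInstanceAs (Mono ((_root_.Adeq.toMVF K a).map C.f)))
    (inferInstanceAs (Epi ((_root_.Adeq.toMVF K a).map C.g)))

end Groth.Agent.H54.AdeqSite
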