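import Groth.Prelude.Def_Adeq2
import Groth.Agent.H54.Adeq.Descent
import Groth.Agent.H54.AdeqSite.Refine
import Mathlib.CategoryTheory.Sites.IsSheafFor
import Mathlib.AlgebraicGeometry.Pullbacks

/-!
# The sheaf condition on affine families, read on module-valued functors
-/

universe u

open CategoryTheory CategoryTheory.Limits AlgebraicGeometry Opposite TensorProduct

namespace Groth.Agent.H54.AdeqSite

open Groth.Agent.H54.Adeq

variable {P : MorphismProperty Scheme.{u}} [P.IsStableUnderBaseChange] [P.IsStableUnderComposition]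
  [BigSite.OSh (Scheme.precoverage P)] {S : Scheme.{u}} {A : CommRingCat.{u}} (a : Spec A ⟶ S)

/-- The map of affine objects attached to a map of algebras. -/
noncomputable abbrev sp {B B' : _root_.Adeq.Alg A} (f : B ⟶ B') :
    (_root_.Adeq.specOver a).obj (op B') ⟶ (_root_.Adeq.specOver a).obj (op B) :=
  (_root_.Adeq.specOver a).map f.op

lemma sp_left {B B' : _root_.Adeq.Alg A} (f : B ⟶ B') :
    (sp a f).left = Spec.map (CommRingCat.ofHom f.hom.toRingHom) := rfl

variable {B : _root_.Adeq.Alg A} {ι : Type*} {C : ι → _root_.Adeq.Alg A} (f : ∀ k, B ⟶ C k)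

omit [BigSite.OSh (Scheme.precoverage P)] in
lemma ofArrows_mem (hP : ∀ k, P (Spec.map (CommRingCat.ofHom (f k).hom.toRingHom)))
    (hsurj : ∀ x : Spec (CommRingCat.of (B : Type u)),
      ∃ k, x ∈ Set.range (Spec.map (CommRingCat.ofHom (f k).hom.toRingHom))) :
    Sieve.ofArrows _ (fun k => sp a (f k)) ∈
      QuotSh.J (Scheme.precoverage P) S ((_root_.Adeq.specOver a).obj (op B)) := by
  rw [GrothendieckTopology.mem_over_iff, Sieve.overEquiv_ofArrows]
  exact Precoverage.generate_mem_toGrothendieck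
    ((Scheme.ofArrows_mem_precoverage_iff (P := P)).2 ⟨hsurj, hP⟩)

variable (M : BigSite.Mod (Scheme.precoverage P) S)

/-- The module-valued functor of a module at an affine object. -/
noncomputable abbrev FM : _root_.Adeq.MVF A := (_root_.Adeq.toMVF (Scheme.precoverage P) a).obj M

lemma isSheafFor_affine (hP : ∀ k, P (Spec.map (CommRingCat.ofHom (f k).hom.toRingHom)))
    (hsurj : ∀ x : Spec (CommRingCat.of (B : Type u)),
      ∃ k, x ∈ Set.range (Spec.map (CommRingCat.ofHom (f k).hom.toRingHom))) :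
    Presieve.IsSheafFor (M.val.presheaf ⋙ CategoryTheory.forget AddCommGrpCat.{u + 1})
      (Presieve.ofArrows _ (fun k => sp a (f k))) := by
  rw [Presieve.isSheafFor_iff_generate]
  exact ((isSheaf_iff_isSheaf_of_type _ _).1
    ((Presheaf.isSheaf_iff_isSheaf_forget _ M.val.presheaf (CategoryTheory.forget AddCommGrpCat.{u + 1})).1 M.isSheaf))
    _ (ofArrows_mem a f hP hsurj)

include f in
/-- Elements agreeing on an affine covering family are equal. -/
lemma eq_zero_of_forall (hP : ∀ k, P (Spec.map (CommRingCat.ofHom (f k).hom.toRingHom)))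
    (hsurj : ∀ x : Spec (CommRingCat.of (B : Type u)),
      ∃ k, x ∈ Set.range (Spec.map (CommRingCat.ofHom (f k).hom.toRingHom)))
    (x : Val (FM a M) B) (hx : ∀ k, mp (FM a M) (f k) x = 0) : x = 0 := by
  refine (isSheafFor_affine a f M hP hsurj).isSeparatedFor.ext ?_
  rintro _ _ ⟨k⟩
  exact (hx k).trans (map_zero (mp (FM a M) (f k))).symm

/-- Compatible elements on an affine covering family glue. -/
lemma exists_glue (hP : ∀ k, P (Spec.map (CommRingCat.ofHom (f k).hom.toRingHom)))
    (hsurj : ∀ x : Spec (CommRingCat.of (B : Type u)),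
      ∃ k, x ∈ Set.range (Spec.map (CommRingCat.ofHom (f k).hom.toRingHom)))
    {D : ι → ι → _root_.Adeq.Alg A} (α : ∀ k l, C k ⟶ D k l) (β : ∀ k l, C l ⟶ D k l)
    (hpo : ∀ k l, IsPushout (CommRingCat.ofHom (f k).hom.toRingHom) (CommRingCat.ofHom (f l).hom.toRingHom)
      (CommRingCat.ofHom (α k l).hom.toRingHom) (CommRingCat.ofHom (β k l).hom.toRingHom))
    (y : ∀ k, Val (FM a M) (C k)) (hy : ∀ k l, mp (FM a M) (α k l) (y k) = mp (FM a M) (β k l) (y l)) :
    ∃ x, ∀ k, mp (FM a M) (f k) x = y k := by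
  refine ((Presieve.isSheafFor_arrows_iff _ _).1 (isSheafFor_affine a f M hP hsurj) y ?_).exists
  intro k l W gk gl hW
  have hp := isPullback_SpecMap_of_isPushout _ _ _ _ (hpo k l)
  have hW' : gk.left ≫ Spec.map (CommRingCat.ofHom (f k).hom.toRingHom) =
      gl.left ≫ Spec.map (CommRingCat.ofHom (f l).hom.toRingHom) := congrArg Over.Hom.left hW
  let q : W ⟶ (_root_.Adeq.specOver a).obj (op (D k l)) := Over.homMk (hp.lift gk.left gl.left hW') (by
    refine Eq.trans ?_ (Over.w gk)
    have e : ((_root_.Adeq.specOver a).obj (op (D k l))).hom =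
        (sp a (α k l)).left ≫ ((_root_.Adeq.specOver a).obj (op (C k))).hom := (Over.w (sp a (α k l))).symm
    rw [e, ← Category.assoc]
    congr 1
    exact hp.lift_fst _ _ _)
  have hk : q ≫ sp a (α k l) = gk := Over.OverMorphism.ext (hp.lift_fst _ _ _)
  have hl : q ≫ sp a (β k l) = gl := Over.OverMorphism.ext (hp.lift_snd _ _ _)
  show M.val.presheaf.map gk.op (y k) = M.val.presheaf.map gl.op (y l)
  rw [← hk, ← hl, op_comp, op_comp, Functor.map_comp, Functor.map_comp]
  exact congrArg (M.val.presheaf.map q.op) (hy k l)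

end Groth.Agent.H54.AdeqSite
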