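import Groth.Agent.H54.AdeqSite.Cartan
import Groth.Agent.Lib.BigEt.Zar
import Groth.Agent.Lib.BigEt.Compare
import Groth.Agent.Lib.EtQCoh.ZarSite
import Groth.Agent.Lib.SpecSeq.HomExt
import Mathlib.CategoryTheory.Abelian.Injective.Resolution
import Mathlib.CategoryTheory.Preadditive.Injective.Resolution

/-!
# Zariski and fppf cohomology of adequate modules agree
-/

set_option autoImplicit false
set_option backward.isDefEq.respectTransparency false
set_option backward.isDefEq.respectTransparency.types false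
set_option linter.style.haveILetI false

universe u

open CategoryTheory CategoryTheory.Limits AlgebraicGeometry Opposite TopologicalSpace
open Groth.Agent.Lib.SpecSeq Groth.Agent.Lib.BigEt.Zar

noncomputable section

namespace Groth.Agent.H54.AdeqSite.ZarCompare

variable {S : Scheme.{u}}

local notation "K" => Scheme.fppfPrecoverage

variable {G : BigSite.Ab Scheme.fppfPrecoverage S} (R : InjectiveResolution G)

/-- The cycles. -/
abbrev Z (n : ℕ) : BigSite.Ab K S := kernel (R.cocomplex.d n (n + 1))

/-- The map to the next cycles. -/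
def toZ (n : ℕ) : R.cocomplex.X n ⟶ Z R (n + 1) :=
  kernel.lift _ (R.cocomplex.d n (n + 1)) (R.cocomplex.d_comp_d _ _ _)

lemma toZ_ι (n : ℕ) : toZ R n ≫ kernel.ι _ = R.cocomplex.d n (n + 1) := kernel.lift_ι _ _ _

/-- The short exact sequence of cycles. -/
def zseq (n : ℕ) : ShortComplex (BigSite.Ab K S) :=
  ShortComplex.mk (kernel.ι (R.cocomplex.d n (n + 1))) (toZ R n)
    (by rw [← cancel_mono (kernel.ι (R.cocomplex.d (n + 1) (n + 1 + 1))), Category.assoc, toZ_ι, zero_comp,
      kernel.condition])

lemma zseq_shortExact (n : ℕ) : (zseq R n).ShortExact := by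
  have hepi : Epi (toZ R n) := (R.exact_succ n).epi_kernelLift
  refine ShortComplex.ShortExact.mk' ?_ (inferInstanceAs (Mono (kernel.ι _))) hepi
  let φ : zseq R n ⟶ ShortComplex.mk (kernel.ι (R.cocomplex.d n (n + 1))) _ (kernel.condition _) :=
    { τ₁ := 𝟙 _
      τ₂ := 𝟙 _
      τ₃ := kernel.ι _
      comm₁₂ := (Category.id_comp _).trans (Category.comp_id _).symm
      comm₂₃ := (Category.id_comp _).trans (toZ_ι R n).symm }
  haveI : Epi φ.τ₁ := inferInstanceAs (Epi (𝟙 _))
  haveI : IsIso φ.τ₂ := inferInstanceAs (IsIso (𝟙 _))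
  haveI : Mono φ.τ₃ := inferInstanceAs (Mono (kernel.ι _))
  exact (ShortComplex.exact_iff_of_epi_of_isIso_of_mono φ).2
    (ShortComplex.exact_of_f_is_kernel _ (kernelIsKernel _))

variable (hG : Cartan.Amit G)

include hG

theorem amit_Z : ∀ n, Cartan.Amit (Z R n) := by
  intro n
  induction n with
  | zero =>
    let e : G ≅ Z R 0 := IsLimit.conePointUniqueUpToIso R.isLimitKernelFork (limit.isLimit _)
    intro A a B _ _ _ m x hx
    obtain ⟨y, hy⟩ := hG A a B m (e.inv.hom.app _ x) (by rw [← AmitCx.map_dd, hx, map_zero])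
    refine ⟨e.hom.hom.app _ y, ?_⟩
    rw [← AmitCx.map_dd, hy, ← ConcreteCategory.comp_apply, ← NatTrans.comp_app,
      show e.inv.hom ≫ e.hom.hom = (e.inv ≫ e.hom).hom from rfl, e.inv_hom_id]
    rfl
  | succ n ih =>
    haveI := R.injective n
    exact Cartan.amit_X₃ _ (zseq_shortExact R n) ih (Cartan.amit_injective (R.cocomplex.X n))

theorem exists_primitive (n : ℕ) (V : Over S) [IsAffine V.left] (x : (R.cocomplex.X (n + 1)).obj.obj (op V))
    (hx : (R.cocomplex.d (n + 1) (n + 1 + 1)).hom.app (op V) x = 0) :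
    ∃ y, (R.cocomplex.d n (n + 1)).hom.app (op V) y = x := by
  obtain ⟨z, rfl⟩ := Cartan.exists_app_eq _ (zseq_shortExact R (n + 1)) (op V) x (by
    refine Cartan.injective_app (kernel.ι (R.cocomplex.d (n + 1 + 1) (n + 1 + 1 + 1))) _ ?_
    rw [map_zero]
    exact (ConcreteCategory.congr_hom (congrArg (fun m => m.hom.app (op V)) (toZ_ι R (n + 1))) x).trans hx)
  obtain ⟨y, hy⟩ := Cartan.surjective_app _ (zseq_shortExact R n) (amit_Z R hG n) V z
  refine ⟨y, ?_⟩
  rw [← toZ_ι]
  exact congrArg ((kernel.ι (R.cocomplex.d (n + 1) (n + 1 + 1))).hom.app (op V)) hy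

variable [BigSite.ZarCont Scheme.fppfPrecoverage S]

omit hG in
/-- The restricted resolution. -/
abbrev resCx : CochainComplex (EtZar.Ab S) ℕ :=
  ((BigSite.resZar K S).mapHomologicalComplex (ComplexShape.up ℕ)).obj R.cocomplex

theorem exactAt_resCx (k : ℕ) : (resCx R).ExactAt (k + 1) := by
  rw [HomologicalComplex.exactAt_iff' _ k (k + 1) (k + 1 + 1) (by simp) (by simp),
    ShortComplex.exact_iff_epi_kernel_lift]
  let a := (BigSite.resZar K S).map (R.cocomplex.d k (k + 1))
  let b := (BigSite.resZar K S).map (R.cocomplex.d (k + 1) (k + 1 + 1))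
  have hab : a ≫ b = 0 := by
    rw [← Functor.map_comp, R.cocomplex.d_comp_d, Functor.map_zero]
  change Epi (kernel.lift b a hab)
  refine (Sheaf.isLocallySurjective_iff_epi' _ (kernel.lift b a hab)).1 ⟨fun {W} y => ?_⟩
  intro x hx
  obtain ⟨_, ⟨V, hV, rfl⟩, hxV, hVW⟩ := S.isBasis_affineOpens.exists_subset_of_mem_open hx W.2
  let g : V ⟶ W := homOfLE hVW
  let y' := (kernel b).obj.map g.op y
  let x' : (R.cocomplex.X (k + 1)).obj.obj (op ((BigSite.zarIncl S).obj V)) := (kernel.ι b).hom.app (op V) y'
  have hx' : (R.cocomplex.d (k + 1) (k + 1 + 1)).hom.app (op ((BigSite.zarIncl S).obj V)) x' = 0 :=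
    ConcreteCategory.congr_hom (congrArg (fun m => m.hom.app (op V)) (kernel.condition b)) y'
  haveI : IsAffine ((BigSite.zarIncl S).obj V).left := hV
  obtain ⟨z, hz⟩ := exists_primitive R hG k _ x' hx'
  refine ⟨V, g, ⟨z, ?_⟩, hxV⟩
  have hinj : Function.Injective ((kernel.ι b).hom.app (op V)) := by
    have : Mono (kernel.ι b).hom :=
      inferInstanceAs (Mono ((sheafToPresheaf (Opens.grothendieckTopology S) AddCommGrpCat.{u + 1}).map (kernel.ι b)))
    exact (AddCommGrpCat.mono_iff_injective _).1 (inferInstance : Mono ((kernel.ι b).hom.app (op V)))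
  apply hinj
  refine (ConcreteCategory.congr_hom (congrArg (fun m => m.hom.app (op V)) (kernel.lift_ι b a hab)) z).trans ?_
  exact hz

omit hG in
theorem aug_d : (BigSite.resZar K S).map (R.ι.f 0) ≫ (resCx R).d 0 1 = 0 := by
  have h := congrArg (BigSite.resZar K S).map R.ι_f_zero_comp_complex_d
  rw [Functor.map_comp, Functor.map_zero] at h
  exact h

omit hG in
/-- The augmentation. -/
def aug : (BigSite.resZar K S).obj G ⟶ (resCx R).X 0 := (BigSite.resZar K S).map (R.ι.f 0)

/-- The restriction of the resolution is an injective resolution. -/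
def resolution : InjectiveResolution ((BigSite.resZar K S).obj G) where
  cocomplex := resCx R
  injective n := inferInstanceAs (Injective ((BigSite.resZar K S).obj (R.cocomplex.X n)))
  ι := (CochainComplex.fromSingle₀Equiv _ _).symm ⟨aug R, aug_d R⟩
  quasiIso := ⟨fun n => by
    cases n with
    | succ n =>
      rw [quasiIsoAt_iff_exactAt _ _ (CochainComplex.exactAt_succ_single_obj _ _)]
      exact exactAt_resCx R hG n
    | zero =>
      rw [CochainComplex.quasiIsoAt₀_iff, ShortComplex.quasiIso_iff_of_zeros]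
      · have hl : IsLimit (KernelFork.ofι (aug R) (aug_d R) : KernelFork ((resCx R).d 0 1)) :=
          KernelFork.mapIsLimit R.kernelFork R.isLimitKernelFork (BigSite.resZar K S)
        let C := ShortComplex.mk (aug R) ((resCx R).d 0 1) (aug_d R)
        refine (ShortComplex.exact_and_mono_f_iff_of_iso ?_).1
          ⟨ShortComplex.exact_of_f_is_kernel C hl, Fork.IsLimit.mono hl⟩
        exact ShortComplex.isoMk (Iso.refl _) (Iso.refl _) (Iso.refl _)
          ((Category.id_comp _).trans (Category.comp_id _).symm)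
          ((Category.id_comp _).trans (Category.comp_id _).symm)
      all_goals first | rfl | exact (resCx R).shape _ _ (by simp)⟩

/-- The two complexes of global sections. -/
def cxIso (A : EtZar.Ab S) {B : BigSite.Ab K S} (i : (BigSite.piZarPull K S).obj A ≅ B) :
    HomExt.homCx R B ≅ HomExt.homCx (resolution R hG) A :=
  haveI : (BigSite.piZarPull K S).Additive := (BigSite.piZarAdj K S).left_adjoint_additive
  HomologicalComplex.Hom.isoOfComponents
    (fun n => AddEquiv.toAddCommGrpIso
      (AddEquiv.mk' (i.homFromEquiv.symm.trans ((BigSite.piZarAdj K S).homEquiv A (R.cocomplex.X n)))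
        fun (f g : B ⟶ R.cocomplex.X n) => by
          change (BigSite.piZarAdj K S).homEquiv _ _ (i.hom ≫ (f + g)) =
            (BigSite.piZarAdj K S).homEquiv _ _ (i.hom ≫ f) + (BigSite.piZarAdj K S).homEquiv _ _ (i.hom ≫ g)
          rw [Preadditive.comp_add]
          exact (BigSite.piZarAdj K S).homAddEquiv_add _ _ _ _))
    fun n m _ => by
      ext f
      change (BigSite.piZarAdj K S).homEquiv _ _ (i.hom ≫ f) ≫ (BigSite.resZar K S).map (R.cocomplex.d n m) =
        (BigSite.piZarAdj K S).homEquiv _ _ (i.hom ≫ f ≫ R.cocomplex.d n m)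
      rw [← Adjunction.homEquiv_naturality_right, Category.assoc]

omit hG in
/-- The constant sheaf pulls back to the constant sheaf. -/
def pullConst (A : AddCommGrpCat.{u + 1}) :
    (BigSite.piZarPull K S).obj ((constantSheaf (Opens.grothendieckTopology S) AddCommGrpCat.{u + 1}).obj A) ≅
      (constantSheaf (QuotSh.J K S) AddCommGrpCat.{u + 1}).obj A :=
  (Groth.Agent.Lib.BigEt.Compare.pullConstIso.{u + 1} (BigSite.zarIncl S) (Opens.grothendieckTopology S)
    (QuotSh.J K S) (IsTerminal.ofUniqueHom (fun U : S.Opens => homOfLE le_top) fun _ _ => Subsingleton.elim _ _)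
    (isTerminalTop S)).app A

theorem nonempty_hEquiv (R₀ : InjectiveResolution G) (q : ℕ) :
    Nonempty (EtZar.H ((BigSite.resZar K S).obj G) q ≃+ BigSite.H K S G q) :=
  ⟨((HomExt.homologyIso R₀ q).symm ≪≫
    (HomologicalComplex.homologyFunctor _ _ q).mapIso (cxIso R₀ hG _ (pullConst _)) ≪≫
    HomExt.homologyIso (resolution R₀ hG) q).addCommGroupIsoToAddEquiv.symm⟩

end Groth.Agent.H54.AdeqSite.ZarCompare
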